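import Mathlib

/-!
Strictly increasing chains of subgroups, counted by their number of steps.
-/

set_option autoImplicit false
set_option linter.all false

namespace Cfsg.Agent.ChainEight

open Subgroup

variable {G : Type*} [Group G]

/-- There is a chain of `n` proper steps below `H`. -/
def Climb : ℕ → Subgroup G → Prop
  | 0, _ => True
  | n + 1, H => ∃ K, K < H ∧ Climb n K

theorem Climb.step {n : ℕ} {K H : Subgroup G} (h : Climb n K) (hlt : K < H) : Climb (n + 1) H :=
  ⟨K, hlt, h⟩

theorem Climb.exists_chain : ∀ {n : ℕ} {H : Subgroup G}, Climb n H →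
    ∃ c : Fin (n + 1) → Subgroup G, StrictAnti c ∧ c 0 = H := by
  intro n
  induction n with
  | zero =>
    intro H _
    exact ⟨fun _ => H, fun a b hab => absurd hab (by omega), rfl⟩
  | succ n ih =>
    intro H h
    obtain ⟨K, hKH, hK⟩ := h
    obtain ⟨c, hc, hc0⟩ := ih hK
    refine ⟨Fin.cons H c, Fin.strictAnti_iff_succ_lt.2 fun i => ?_, Fin.cons_zero _ _⟩
    induction i using Fin.cases with
    | zero => simpa [hc0] using hKH
    | succ j => simpa [← Fin.succ_castSucc] using hc (Fin.castSucc_lt_succ (i := j))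

theorem Climb.of_card [Finite G] : ∀ {n : ℕ} {P : Subgroup G}, Nat.card P = 2 ^ n → Climb n P := by
  intro n
  induction n with
  | zero => intro P _; trivial
  | succ n ih =>
    intro P hP
    haveI : Fact (Nat.Prime 2) := ⟨Nat.prime_two⟩
    have hp : IsPGroup 2 P := IsPGroup.of_card hP
    obtain ⟨K, hK⟩ := Sylow.exists_subgroup_card_pow_prime_of_le_card (G := P) (n := n) Nat.prime_two hp
      (by rw [hP, pow_succ]; omega)
    have hK' : Nat.card (K.map P.subtype) = 2 ^ n := by rw [card_map_of_injective P.subtype_injective, hK]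
    refine ⟨K.map P.subtype, lt_of_le_of_ne (map_subtype_le K) fun e => ?_, ih hK'⟩
    rw [e, hP, pow_succ] at hK'
    have := Nat.two_pow_pos n
    omega

/-- If no chain has nine steps, a tower above a subgroup of order `2 ^ d` is short. -/
theorem Climb.not_nine (h9 : ∀ c : Fin 10 → Subgroup G, ¬ StrictAnti c) {H : Subgroup G} : ¬ Climb 9 H :=
  fun h => by obtain ⟨c, hc, -⟩ := h.exists_chain; exact h9 c hc

theorem Climb.mono : ∀ {m n : ℕ} {H : Subgroup G}, m ≤ n → Climb n H → Climb m H := by
  intro m
  induction m with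
  | zero => intros; trivial
  | succ m ih =>
    intro n H hmn h
    obtain ⟨k, rfl⟩ := Nat.exists_eq_succ_of_ne_zero (show n ≠ 0 by omega)
    obtain ⟨K, hK, hc⟩ := h
    exact ⟨K, hK, ih (by omega) hc⟩

theorem Climb.le_eight (h9 : ∀ c : Fin 10 → Subgroup G, ¬ StrictAnti c) {n : ℕ} {H : Subgroup G}
    (h : Climb n H) : n ≤ 8 := by
  by_contra hn
  exact Climb.not_nine h9 (h.mono (by omega : 9 ≤ n))

end Cfsg.Agent.ChainEight
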