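import Mathlib
import Cfsg.Agent.Lib.ChainEight.Chain
import Cfsg.Agent.Lib.Cores.Basic
import Cfsg.Prelude.Def_Amalgam

/-!
A simple group of chain length eight whose Sylow 2-subgroups have order `2 ^ 7`, and its maximal
2-constrained local subgroups.
-/

set_option autoImplicit false
set_option linter.all false

namespace Cfsg.Agent.ChainEight

open Subgroup

universe u

variable {G : Type u} [Group G] [Finite G]

/-- Conjugate elements. -/
def Cj (z w : G) : Prop := ∃ g : G, w = g * z * g⁻¹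

theorem Cj.refl (z : G) : Cj z z := ⟨1, by group⟩

theorem Cj.conj {z w : G} (h : Cj z w) (g : G) : Cj z (g * w * g⁻¹) := by
  obtain ⟨k, rfl⟩ := h
  exact ⟨g * k, by group⟩

theorem sq_conj {g c : G} (hc : c * c = 1) : g * c * g⁻¹ * (g * c * g⁻¹) = 1 := by
  rw [show g * c * g⁻¹ * (g * c * g⁻¹) = g * (c * c) * g⁻¹ by group, hc]; group

/-- The standing hypotheses, with a central involution of the Sylow subgroup. -/
structure Hyp (S : Sylow 2 G) (z : G) : Prop where
  simple : IsSimpleGroup G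
  nonab : ¬ IsMulCommutative G
  card : Nat.card (S : Subgroup G) = 2 ^ 7
  short : ∀ c : Fin 10 → Subgroup G, ¬ StrictAnti c
  zS : z ∈ (S : Subgroup G)
  zc : ∀ s ∈ (S : Subgroup G), s * z = z * s
  z2 : z * z = 1
  z1 : z ≠ 1

/-- An element of `S` normalizing, by a one-sided inclusion. -/
theorem mem_normalizer_of_map_le {X : Subgroup G} {g : G} (h : ∀ x ∈ X, g * x * g⁻¹ ∈ X) :
    g ∈ normalizer (X : Set G) := by
  rw [mem_normalizer_iff_map_conj_eq]
  refine eq_of_le_of_card_ge ?_ (card_map_of_injective (MulAut.conj g).injective).ge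
  rintro _ ⟨x, hx, rfl⟩
  exact h x hx

theorem le_normalizer_of_conj {K X : Subgroup G} (h : ∀ k ∈ K, ∀ x ∈ X, k * x * k⁻¹ ∈ X) :
    K ≤ normalizer (X : Set G) := fun k hk => mem_normalizer_of_map_le (h k hk)

theorem conj_mem_of_normalizer {X : Subgroup G} {g x : G} (hg : g ∈ normalizer (X : Set G)) (hx : x ∈ X) :
    g * x * g⁻¹ ∈ X := (mem_normalizer_iff.1 hg x).1 hx

namespace Hyp

variable {S : Sylow 2 G} {z : G} (h : Hyp S z)
include h

theorem eq_top_of_lt {K : Subgroup G} (hK : (S : Subgroup G) < K) : K = ⊤ := by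
  by_contra hne
  have := ((Climb.of_card h.card).step hK).step (lt_top_iff_ne_top.2 hne) |>.le_eight h.short
  omega

theorem S_ne_top : (S : Subgroup G) ≠ ⊤ := by
  intro e
  haveI := h.simple
  haveI : Fact (Nat.Prime 2) := ⟨Nat.prime_two⟩
  have hp : IsPGroup 2 G := fun g => by
    obtain ⟨k, hk⟩ := S.2 ⟨g, e ▸ mem_top g⟩
    exact ⟨k, congrArg Subtype.val hk⟩
  haveI := hp.isNilpotent
  haveI : Nontrivial G := IsSimpleGroup.toNontrivial
  haveI : Nontrivial (center G) := hp.center_nontrivial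
  rcases (inferInstance : (center G).Normal).eq_bot_or_eq_top with k | k
  · have h1 := Finite.one_lt_card (α := center G)
    rw [k, card_bot] at h1
    omega
  · exact h.nonab ⟨⟨fun a b => mem_center_iff.1 (k ▸ mem_top b) a⟩⟩

/-- `S` is the normalizer of its non-trivial normal subgroups. -/
theorem norm_eq {D : Subgroup G} (hD : D ≠ ⊥) (hDS : D ≤ (S : Subgroup G))
    (hn : ∀ s ∈ (S : Subgroup G), ∀ d ∈ D, s * d * s⁻¹ ∈ D) :
    normalizer (D : Set G) = (S : Subgroup G) := by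
  haveI := h.simple
  rcases eq_or_lt_of_le (le_normalizer_of_conj hn) with k | k
  · exact k.symm
  · exfalso
    have hN := h.eq_top_of_lt k
    have hnor : D.Normal := normalizer_eq_top_iff.1 hN
    rcases hnor.eq_bot_or_eq_top with e | e
    · exact hD e
    · exact h.S_ne_top (top_le_iff.1 (e ▸ hDS))

theorem cent_eq : centralizer ({z} : Set G) = (S : Subgroup G) := by
  refine le_antisymm (fun g hg => ?_) fun s hs => mem_centralizer_singleton_iff.2 (h.zc s hs)
  have h1 := h.norm_eq (D := zpowers z) (fun e => h.z1 (zpowers_eq_bot.1 e)) (zpowers_le.2 h.zS)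
    fun s hs d hd => by
      obtain ⟨k, rfl⟩ := mem_zpowers_iff.1 hd
      rw [← conj_zpow, h.zc s hs, mul_inv_cancel_right]
      exact zpow_mem (mem_zpowers z) k
  rw [← h1]
  refine mem_normalizer_of_map_le fun d hd => ?_
  obtain ⟨k, rfl⟩ := mem_zpowers_iff.1 hd
  rw [← conj_zpow, mem_centralizer_singleton_iff.1 hg, mul_inv_cancel_right]
  exact zpow_mem (mem_zpowers z) k

theorem mem_S_of_comm {g : G} (hg : g * z = z * g) : g ∈ (S : Subgroup G) :=
  h.cent_eq ▸ mem_centralizer_singleton_iff.2 hg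

theorem conj (g : G) : Hyp (g • S) (g * z * g⁻¹) where
  simple := h.simple
  nonab := h.nonab
  card := by
    rw [← h.card, Sylow.coe_subgroup_smul]
    exact (Nat.card_congr (Subgroup.equivSMul (MulAut.conj g) (S : Subgroup G)).toEquiv).symm
  short := h.short
  zS := by rw [Sylow.coe_subgroup_smul]; exact mem_map_of_mem _ h.zS
  zc := by
    intro s hs
    rw [Sylow.coe_subgroup_smul] at hs
    obtain ⟨w, hw, rfl⟩ := hs
    show g * w * g⁻¹ * (g * z * g⁻¹) = g * z * g⁻¹ * (g * w * g⁻¹)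
    rw [show g * w * g⁻¹ * (g * z * g⁻¹) = g * (w * z) * g⁻¹ by group, h.zc w hw]; group
  z2 := sq_conj h.z2
  z1 := fun e => h.z1 (conj_eq_one_iff.1 e)

theorem two_cent {w : G} (hw : Cj z w) {K : Subgroup G} (hK : ∀ k ∈ K, k * w = w * k) : IsPGroup 2 K := by
  obtain ⟨g, rfl⟩ := hw
  exact (g • S).2.to_le fun k hk => (h.conj g).mem_S_of_comm (hK k hk)

end Hyp

/-- A proper subgroup, not a 2-group, with a conjugate of `z` in a normal 2-subgroup. -/
def Loc (z : G) (M : Subgroup G) : Prop :=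
  M ≠ ⊤ ∧ ¬ IsPGroup 2 M ∧ ∃ X : Subgroup G, X ≤ M ∧ IsPGroup 2 X ∧ M ≤ normalizer (X : Set G) ∧
    ∃ w ∈ X, Cj z w

/-- A maximal such subgroup, in position with respect to `S`. -/
structure MaxLoc (S : Sylow 2 G) (z : G) (M : Subgroup G) : Prop where
  hyp : Hyp S z
  loc : Loc z M
  max : ∀ K : Subgroup G, Loc z K → M ≤ K → K = M
  sylow : ¬ 2 ∣ ((S : Subgroup G) ⊓ M).relIndex M
  z_mem : z ∈ Cfsg.pCoreOf 2 M

/-- The largest normal 2-subgroup. -/
theorem core_le (M : Subgroup G) : Cfsg.pCoreOf 2 M ≤ M := map_subtype_le _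

theorem core_isPGroup (M : Subgroup G) : IsPGroup 2 (Cfsg.pCoreOf 2 M) :=
  haveI : Fact (Nat.Prime 2) := ⟨Nat.prime_two⟩
  (Cores.pCore_isPGroup (G := M) 2).map _

theorem core_conj {M : Subgroup G} {m : G} (hm : m ∈ M) {q : G} (hq : q ∈ Cfsg.pCoreOf 2 M) :
    m * q * m⁻¹ ∈ Cfsg.pCoreOf 2 M := by
  obtain ⟨w, hw, rfl⟩ := hq
  exact ⟨⟨m, hm⟩ * w * ⟨m, hm⟩⁻¹, (Cores.pCore_normal (G := M) 2).conj_mem w hw _, rfl⟩

theorem le_core {M N : Subgroup G} (hNM : N ≤ M) (hN : IsPGroup 2 N)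
    (hn : ∀ m ∈ M, ∀ x ∈ N, m * x * m⁻¹ ∈ N) : N ≤ Cfsg.pCoreOf 2 M := by
  haveI : (N.subgroupOf M).Normal := ⟨fun x hx m => hn m m.2 x hx⟩
  have h1 : N.subgroupOf M ≤ Cfsg.pCore 2 M :=
    Cores.le_pCore (hN.of_equiv (subgroupOfEquivOfLe hNM).symm)
  intro x hx
  exact ⟨⟨x, hNM hx⟩, h1 hx, rfl⟩

end Cfsg.Agent.ChainEight
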