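import Mathlib
import Cfsg.Agent.Lib.ChainEight.Chain
import Cfsg.Agent.Lib.Cores.Basic

/-!
A small group acting faithfully on an elementary 2-group, with a point stabilizer a Sylow 2-subgroup.
-/

set_option autoImplicit false
set_option linter.all false

namespace Cfsg.Agent.ChainEight.Quot

open Subgroup

variable {K V : Type*} [Group K] [Group V] [Finite K] [Finite V]

/-- The stabilizer of `z`. -/
def stab (φ : K →* MulAut V) (z : V) : Subgroup K where
  carrier := {k | φ k z = z}
  one_mem' := by simp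
  mul_mem' := fun {a b} (ha : φ a z = z) (hb : φ b z = z) => by
    show φ (a * b) z = z
    rw [map_mul, MulAut.mul_apply, hb, ha]
  inv_mem' := fun {a} (ha : φ a z = z) => by
    show φ a⁻¹ z = z
    conv_lhs => rw [← ha]
    rw [← MulAut.mul_apply, ← map_mul, inv_mul_cancel, map_one, MulAut.one_apply]

theorem mem_stab {φ : K →* MulAut V} {z : V} {k : K} : k ∈ stab φ z ↔ φ k z = z := Iff.rfl

/-- The setting. -/
structure Act (φ : K →* MulAut V) (z : V) (b o : ℕ) : Prop where
  inj : Function.Injective φ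
  vsq : ∀ v : V, v * v = 1
  z1 : z ≠ 1
  core : ∀ N : Subgroup K, N.Normal → IsPGroup 2 N → N = ⊥
  odd : Odd o
  stab_card : Nat.card (stab φ z) = 2 ^ b
  card : Nat.card K = 2 ^ b * o

/-- An elementary subgroup of the stabilizer fixing enough of `V`. -/
def Offender (φ : K →* MulAut V) (z : V) : Prop :=
  ∃ (D : Subgroup K) (C : Subgroup V), D ≤ stab φ z ∧ D ≠ ⊥ ∧ (∀ d ∈ D, d * d = 1) ∧
    (∀ d ∈ D, ∀ c ∈ C, φ d c = c) ∧ Nat.card V ≤ Nat.card D * Nat.card C

variable {φ : K →* MulAut V} {z : V} {b o : ℕ}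

omit [Finite K] in
/-- An element with a fixed subgroup of index two inverting an element of odd order. -/
theorem cube (hinj : Function.Injective φ) (hsq : ∀ v : V, v * v = 1) {a x : K} (ha : a * a = 1)
    (hax : a * x * a⁻¹ = x⁻¹) {n : ℕ} (hn : Odd n) (hxn : x ^ n = 1) {C : Subgroup V}
    (hC : ∀ c ∈ C, φ a c = c) (hidx : C.index ≤ 2) : x ^ 3 = 1 := by
  classical
  have hcomm : ∀ u v : V, u * v = v * u := fun u v => by
    have h1 : ∀ w : V, w⁻¹ = w := fun w => inv_eq_of_mul_eq_one_right (hsq w)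
    calc u * v = (u * v)⁻¹ := (h1 _).symm
      _ = v * u := by rw [mul_inv_rev, h1, h1]
  haveI hCn : ∀ D : Subgroup V, D.Normal := fun D => ⟨fun d hd g => by
    rw [hcomm g d, mul_inv_cancel_right]; exact hd⟩
  obtain ⟨m, hm⟩ := hn
  set y := x ^ (m + 1) with hy
  have hyy : y * y = x := by
    rw [hy, ← pow_add, show m + 1 + (m + 1) = n + 1 by omega, pow_succ, hxn, one_mul]
  have hai : a⁻¹ = a := inv_eq_of_mul_eq_one_right ha
  have hay : a * y * a⁻¹ = y⁻¹ := by rw [hy, ← conj_pow, hax, inv_pow]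
  have hconj : y⁻¹ * a * y = a * x := by
    rw [← hyy, ← hay, hai, show a * y * a * a * y = a * y * (a * a) * y by group, ha]
    group
  set D := C ⊓ C.comap (φ y).toMonoidHom with hD
  have hfix : ∀ v ∈ D, φ x v = v := by
    intro v hv
    have h1 : φ (a * x) v = v := by
      rw [← hconj, map_mul, map_mul, MulAut.mul_apply, MulAut.mul_apply, hC (φ y v) hv.2,
        ← MulAut.mul_apply, ← map_mul, inv_mul_cancel, map_one, MulAut.one_apply]
    have h2 : φ x v = φ a v := by
      rw [show x = a * (a * x) by rw [← mul_assoc, ha, one_mul], map_mul, MulAut.mul_apply, h1]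
    rw [h2, hC _ hv.1]
  have hDi : D.index ≤ 4 := by
    refine le_trans Subgroup.index_inf_le ?_
    have h1 : (C.comap (φ y).toMonoidHom).index = C.index :=
      Subgroup.index_comap_of_surjective _ (φ y).surjective
    rw [h1]
    calc C.index * C.index ≤ 2 * 2 := Nat.mul_le_mul hidx hidx
      _ = 4 := rfl
  haveI := hCn D
  let ψ : V ⧸ D →* V ⧸ D := QuotientGroup.map D D (φ x).toMonoidHom fun v hv => by
    show φ x v ∈ D
    rw [hfix v hv]; exact hv
  have hψ : ∀ (k : ℕ) (v : V), (ψ^[k]) (v : V ⧸ D) = ((φ (x ^ k) v : V) : V ⧸ D) := by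
    intro k
    induction k with
    | zero => intro v; simp
    | succ k ih =>
      intro v
      rw [Function.iterate_succ_apply', ih, pow_succ', map_mul, MulAut.mul_apply]
      rfl
  have hn0 : ∀ q : V ⧸ D, (ψ^[n]) q = q := by
    intro q
    obtain ⟨v, rfl⟩ := QuotientGroup.mk_surjective q
    rw [hψ, hxn, map_one, MulAut.one_apply]
  -- a permutation of odd order of at most four points fixing one of them
  have hψ3 : ∀ q : V ⧸ D, (ψ^[3]) q = q := by
    have hbij : Function.Bijective ψ := by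
      refine Finite.injective_iff_bijective.1 fun q q' e => ?_
      rw [← hn0 q, ← hn0 q', show n = (n - 1) + 1 by omega, Function.iterate_succ_apply,
        Function.iterate_succ_apply, e]
    set σ : Equiv.Perm (V ⧸ D) := Equiv.ofBijective ψ hbij with hσ
    have hpow : ∀ k : ℕ, ((σ ^ k : Equiv.Perm (V ⧸ D)) : V ⧸ D → V ⧸ D) = ψ^[k] := fun k => by
      rw [Equiv.Perm.coe_pow]; rfl
    intro q
    rw [← hpow]
    suffices σ ^ 3 = 1 by rw [this]; rfl
    have hσn : orderOf σ ∣ n := orderOf_dvd_of_pow_eq_one (Equiv.ext fun q => by rw [hpow]; exact hn0 q)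
    let S := MulAction.stabilizer (Equiv.Perm (V ⧸ D)) (1 : V ⧸ D)
    have hmem : σ ∈ S := map_one ψ
    let res : S →* Equiv.Perm {q : V ⧸ D // q ≠ 1} :=
      { toFun := fun p => (p : Equiv.Perm (V ⧸ D)).subtypePerm (fun q => by
          have hp : (p : Equiv.Perm (V ⧸ D)) 1 = 1 := p.2
          constructor
          · intro h e; exact h (by rw [e, hp])
          · intro h e; exact h ((p : Equiv.Perm (V ⧸ D)).injective (e.trans hp.symm)))
        map_one' := Equiv.ext fun q => rfl
        map_mul' := fun p p' => Equiv.ext fun q => rfl }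
    have hres : Function.Injective res := fun p p' e => Subtype.ext (Equiv.ext fun q => by
      by_cases hq : q = 1
      · rw [hq]; exact (p.2 : (p : Equiv.Perm (V ⧸ D)) 1 = 1).trans (p'.2 : (p' : Equiv.Perm (V ⧸ D)) 1 = 1).symm
      · exact congrArg Subtype.val (Equiv.congr_fun e ⟨q, hq⟩))
    have h1 : orderOf σ ∣ Nat.card (Equiv.Perm {q : V ⧸ D // q ≠ 1}) := by
      rw [show orderOf σ = orderOf (res ⟨σ, hmem⟩) by
        rw [orderOf_injective res hres]; exact (Subgroup.orderOf_mk σ hmem).symm]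
      exact orderOf_dvd_natCard _
    have h3 : Nat.card {q : V ⧸ D // q ≠ 1} ≤ 3 := by
      haveI : Fintype (V ⧸ D) := Fintype.ofFinite _
      rw [Nat.card_eq_fintype_card, Fintype.card_subtype_compl, Fintype.card_subtype_eq,
        ← Nat.card_eq_fintype_card, ← Subgroup.index]
      omega
    rw [Nat.card_perm] at h1
    have h6 : orderOf σ ∣ 6 := h1.trans (Nat.factorial_dvd_factorial h3)
    rw [← orderOf_dvd_iff_pow_eq_one]
    have hodd : Nat.Coprime (orderOf σ) 2 :=
      Nat.coprime_two_right.2 (Odd.of_dvd_nat ⟨m, hm⟩ hσn)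
    exact hodd.dvd_of_dvd_mul_left (show orderOf σ ∣ 2 * 3 from h6)
  -- `x ^ 3` centralizes `D` and `V / D`
  refine hinj (MulEquiv.ext fun v => ?_)
  rw [map_one, MulAut.one_apply]
  have hfix3 : ∀ c ∈ D, φ (x ^ 3) c = c := by
    intro c hc
    simp only [pow_succ, pow_zero, one_mul, map_mul, MulAut.mul_apply, hfix c hc]
  set c := v⁻¹ * φ (x ^ 3) v with hc
  have hcD : c ∈ D := QuotientGroup.eq.1 ((hψ3 (v : V ⧸ D)).symm.trans (hψ 3 v))
  have hk : ∀ k : ℕ, φ ((x ^ 3) ^ k) v = v * c ^ k := by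
    intro k
    induction k with
    | zero => simp
    | succ k ih =>
      rw [pow_succ' (x ^ 3) k, map_mul, MulAut.mul_apply, ih, map_mul (φ (x ^ 3)),
        map_pow (φ (x ^ 3)) c k, hfix3 c hcD, show φ (x ^ 3) v = v * c by rw [hc, mul_inv_cancel_left],
        mul_assoc, ← pow_succ']
  have hc1 := hk n
  rw [← pow_mul, mul_comm, pow_mul, hxn, one_pow, map_one, MulAut.one_apply, hm, pow_succ, pow_mul,
    pow_two, hsq, one_pow, one_mul] at hc1
  rw [hc] at hc1
  rw [← mul_assoc, mul_inv_cancel, one_mul] at hc1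
  exact hc1.symm

namespace Act

variable (h : Act φ z b o)
include h

theorem stab_isPGroup : IsPGroup 2 (stab φ z) := IsPGroup.of_card h.stab_card

theorem o_pos : 0 < o := h.odd.pos

theorem card_quot : Nat.card (K ⧸ stab φ z) = o := by
  have h1 := (stab φ z).card_mul_index
  rw [h.card, h.stab_card] at h1
  exact Nat.eq_of_mul_eq_mul_left (Nat.two_pow_pos b) h1

theorem z_moved (k : K) : φ k z ≠ 1 := fun e => h.z1 ((φ k).injective (e.trans (map_one _).symm))

theorem orbit_le : o + 1 ≤ Nat.card V := by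
  classical
  let f : K ⧸ stab φ z → {v : V // v ≠ 1} := Quotient.lift (fun k => ⟨φ k z, h.z_moved k⟩) fun k l hkl => by
    rw [Subtype.mk.injEq]
    have hm : φ (k⁻¹ * l) z = z := (QuotientGroup.leftRel_apply.1 hkl)
    calc φ k z = φ k (φ (k⁻¹ * l) z) := by rw [hm]
      _ = φ l z := by rw [← MulAut.mul_apply, ← map_mul, mul_inv_cancel_left]
  have hf : Function.Injective f := by
    rintro ⟨k⟩ ⟨l⟩ e
    have e' : φ k z = φ l z := congrArg Subtype.val e
    refine Quotient.sound' (QuotientGroup.leftRel_apply.2 ?_)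
    show φ (k⁻¹ * l) z = z
    rw [map_mul, MulAut.mul_apply, ← e', ← MulAut.mul_apply, ← map_mul, inv_mul_cancel, map_one,
      MulAut.one_apply]
  have h1 := Nat.card_le_card_of_injective f hf
  rw [h.card_quot] at h1
  haveI : Fintype V := Fintype.ofFinite V
  rw [Nat.card_eq_fintype_card (α := {v : V // v ≠ 1}), Fintype.card_subtype_compl,
    Fintype.card_subtype_eq, ← Nat.card_eq_fintype_card] at h1
  have : 0 < Nat.card V := Nat.card_pos
  omega

theorem three (ho : o = 3) : b ≤ 1 := by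
  classical
  set T := stab φ z with hT
  have hcore : T.normalCore = ⊥ := h.core _ (normalCore_normal T) (h.stab_isPGroup.to_le (normalCore_le T))
  have hinj : Function.Injective (MulAction.toPermHom K (K ⧸ T)) := by
    rw [← MonoidHom.ker_eq_bot_iff, ← normalCore_eq_ker]; exact hcore
  have h1 := card_dvd_of_injective _ hinj
  rw [Nat.card_perm, h.card_quot, h.card, ho] at h1
  by_contra hb
  have : 2 ^ 2 ∣ 2 ^ b := pow_dvd_pow 2 (by omega)
  have h2 : 4 * 3 ∣ Nat.factorial 3 := (mul_dvd_mul_right this 3).trans h1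
  have := Nat.le_of_dvd (by decide) h2
  simp [Nat.factorial] at this

theorem five (ho : o = 5) (hV : Nat.card V ≤ 8) : False := by
  classical
  haveI : Fact (Nat.Prime 5) := ⟨by norm_num⟩
  haveI : Fact (Nat.Prime 2) := ⟨Nat.prime_two⟩
  obtain ⟨k, hk⟩ := exists_prime_orderOf_dvd_card' (G := K) 5 (by rw [h.card, ho]; exact Dvd.intro_left _ rfl)
  have hV8 : ∀ j, Nat.card V = 2 ^ j → j ≤ 3 := fun j e => by
    rw [e] at hV; exact (Nat.pow_le_pow_iff_right (by norm_num : 1 < 2)).1 hV
  obtain ⟨j, hj⟩ := (IsPGroup.iff_card (p := 2)).1 (fun v : V => ⟨1, by rw [pow_one, pow_two, h.vsq]⟩)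
  let F : Subgroup V :=
    { carrier := {v | φ k v = v}
      one_mem' := map_one _
      mul_mem' := fun {u v} (hu : φ k u = u) (hv : φ k v = v) => by
        show φ k (u * v) = u * v; rw [map_mul, hu, hv]
      inv_mem' := fun {u} (hu : φ k u = u) => by show φ k u⁻¹ = u⁻¹; rw [map_inv, hu] }
  letI : MulAction (zpowers k) V := MulAction.compHom V (φ.comp (zpowers k).subtype)
  have hp : IsPGroup 5 (zpowers k) := IsPGroup.of_card (n := 1) (by rw [Nat.card_zpowers, hk, pow_one])
  have hmod := hp.card_modEq_card_fixedPoints V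
  have hfix : MulAction.fixedPoints (zpowers k) V = (F : Set V) := by
    ext v
    constructor
    · intro hv; exact hv ⟨k, mem_zpowers k⟩
    · intro hv g
      obtain ⟨i, hi⟩ := mem_zpowers_iff.1 g.2
      show φ (g : K) v = v
      rw [← hi]
      have h0 : k ∈ stab φ v := hv
      exact zpow_mem h0 i
  rw [Nat.card_congr (Equiv.setCongr hfix)] at hmod
  obtain ⟨i, hij, hi⟩ := (Nat.dvd_prime_pow Nat.prime_two).1 (hj ▸ card_subgroup_dvd_card F)
  have hi' : Nat.card ↥(F : Set V) = 2 ^ i := hi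
  rw [hj, hi'] at hmod
  have hj3 := hV8 j hj
  have : i = j := by
    interval_cases j <;> interval_cases i <;> simp_all [Nat.ModEq]
  have hF : F = ⊤ := eq_top_of_card_eq F (by rw [hj, hi, this])
  have : φ k = φ 1 := MulEquiv.ext fun v => by
    rw [map_one, MulAut.one_apply]; exact (hF ▸ mem_top v : v ∈ F)
  rw [h.inj this, orderOf_one] at hk
  omega

theorem seven (ho : o = 7) (hV : Nat.card V = 8) (hb : 1 ≤ b) (hb3 : b ≤ 3) : False := by
  classical
  haveI : Fact (Nat.Prime 7) := ⟨by norm_num⟩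
  haveI : Fact (Nat.Prime 2) := ⟨Nat.prime_two⟩
  have hcop : ¬ 7 ∣ 2 ^ b := fun hd => by
    have := (Fact.out : Nat.Prime 7).dvd_of_dvd_pow hd
    omega
  obtain ⟨P⟩ : Nonempty (Sylow 7 K) := inferInstance
  have hP : Nat.card (P : Subgroup K) = 7 := by
    rw [P.card_eq_multiplicity, h.card, ho, Nat.factorization_mul (by positivity) (by norm_num),
      Finsupp.add_apply, Nat.factorization_eq_zero_of_not_dvd hcop, Nat.Prime.factorization_self Fact.out]
    norm_num
  haveI : IsCyclic (P : Subgroup K) := isCyclic_of_prime_card hP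
  by_cases hn : (P : Subgroup K).Normal
  · -- an involution of the stabilizer inverts or centralizes `P`
    obtain ⟨⟨t, ht⟩, htord⟩ := exists_prime_orderOf_dvd_card' (G := stab φ z) 2
      (by rw [h.stab_card]; exact dvd_pow_self 2 (by omega))
    rw [Subgroup.orderOf_mk] at htord
    have ht2 : t * t = 1 := by rw [← pow_two, ← htord, pow_orderOf_eq_one]
    have ht1 : t ≠ 1 := fun e => by rw [e, orderOf_one] at htord; omega
    obtain ⟨⟨k, hk⟩, hgen⟩ := IsCyclic.exists_generator (α := (P : Subgroup K))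
    have hgen' : ∀ g ∈ (P : Subgroup K), ∃ i : ℤ, k ^ i = g := fun g hg => by
      obtain ⟨i, hi⟩ := hgen ⟨g, hg⟩
      exact ⟨i, by simpa using congrArg Subtype.val hi⟩
    have hk7 : orderOf k = 7 := by
      rw [← Subgroup.orderOf_mk k hk, orderOf_eq_card_of_forall_mem_zpowers hgen, hP]
    -- the orbit of `z` is everything
    have horb : ∀ v : V, v ≠ 1 → ∃ i : ℤ, φ (k ^ i) z = v := by
      let f : ↥(P : Subgroup K) → {v : V // v ≠ 1} := fun g => ⟨φ g z, h.z_moved g⟩
      have hf : Function.Injective f := by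
        intro g g' e
        have e' : φ g z = φ g' z := congrArg Subtype.val e
        have h1 : ((g : K)⁻¹ * g') ∈ stab φ z := by
          show φ _ z = z
          rw [map_mul, MulAut.mul_apply, ← e', ← MulAut.mul_apply, ← map_mul, inv_mul_cancel, map_one,
            MulAut.one_apply]
        have h2 : ((g : K)⁻¹ * g') ∈ (P : Subgroup K) ⊓ stab φ z := ⟨(P : Subgroup K).mul_mem ((P : Subgroup K).inv_mem g.2) g'.2, h1⟩
        have h3 : (P : Subgroup K) ⊓ stab φ z = ⊥ := inf_eq_bot_of_coprime (by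
          rw [hP, h.stab_card]; exact ((Fact.out : Nat.Prime 7).coprime_iff_not_dvd.2 hcop))
        rw [h3, mem_bot, inv_mul_eq_one] at h2
        exact Subtype.ext h2
      have hc : Nat.card {v : V // v ≠ 1} = 7 := by
        haveI : Fintype V := Fintype.ofFinite V
        rw [Nat.card_eq_fintype_card, Fintype.card_subtype_compl, Fintype.card_subtype_eq,
          ← Nat.card_eq_fintype_card, hV]
      intro v hv
      obtain ⟨g, hg⟩ := ((Nat.bijective_iff_injective_and_card f).2 ⟨hf, by rw [hP, hc]⟩).2 ⟨v, hv⟩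
      obtain ⟨i, hi⟩ := hgen' g g.2
      exact ⟨i, by rw [hi]; exact congrArg Subtype.val hg⟩
    obtain ⟨j, hj⟩ := hgen' _ (hn.conj_mem k hk t)
    have hj2 : (7 : ℤ) ∣ j * j - 1 := by
      have h1 : k ^ (j * j) = k ^ (1 : ℤ) := by
        rw [zpow_mul, hj, conj_zpow, hj, zpow_one, show t * (t * k * t⁻¹) * t⁻¹ = t * t * k * (t * t)⁻¹ by group,
          ht2, inv_one, one_mul, mul_one]
      rw [← mul_inv_eq_one, ← zpow_sub, ← orderOf_dvd_iff_zpow_eq_one, hk7] at h1
      exact h1
    have hmove : ∀ i : ℤ, φ t (φ (k ^ i) z) = φ (k ^ (j * i)) z := by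
      intro i
      rw [← MulAut.mul_apply, ← map_mul, show t * k ^ i = k ^ (j * i) * t by
        rw [zpow_mul, hj, conj_zpow, inv_mul_cancel_right], map_mul, MulAut.mul_apply,
        show φ t z = z from ht]
    rcases (Nat.prime_iff_prime_int.1 (by norm_num : Nat.Prime 7)).dvd_or_dvd
      (show (7 : ℤ) ∣ (j - 1) * (j + 1) by rw [show (j - 1) * (j + 1) = j * j - 1 by ring]; exact hj2) with hd | hd
    · -- centralizes
      refine ht1 (h.inj (MulEquiv.ext fun v => ?_))
      rw [map_one, MulAut.one_apply]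
      by_cases hv : v = 1
      · rw [hv, map_one]
      obtain ⟨i, rfl⟩ := horb v hv
      rw [hmove, show k ^ (j * i) = k ^ i by
        rw [← mul_inv_eq_one, ← zpow_sub, ← orderOf_dvd_iff_zpow_eq_one, hk7,
          show j * i - i = (j - 1) * i by ring]
        exact Dvd.dvd.mul_right hd i]
    · -- inverts: only `z` is fixed
      let m : V →* V := MonoidHom.mk' (fun v => v⁻¹ * φ t v) fun u v => by
        have hcm : ∀ a b : V, a * b = b * a := fun a b => by
          have h1 : ∀ w : V, w⁻¹ = w := fun w => inv_eq_of_mul_eq_one_right (h.vsq w)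
          calc a * b = (a * b)⁻¹ := (h1 _).symm
            _ = b * a := by rw [mul_inv_rev, h1, h1]
        rw [map_mul, mul_inv_rev, hcm v⁻¹ u⁻¹, mul_assoc, mul_assoc, ← mul_assoc v⁻¹, hcm v⁻¹ (φ t u)]
        group
      have hfix : ∀ v, φ t v = v → v = 1 ∨ v = z := by
        intro v hv
        by_contra hne
        push Not at hne
        obtain ⟨i, rfl⟩ := horb v hne.1
        rw [hmove] at hv
        have h1 : k ^ (-(j * i) + i) ∈ stab φ z := by
          show φ _ z = z
          rw [zpow_add, map_mul, MulAut.mul_apply, ← hv, ← MulAut.mul_apply, ← map_mul, ← zpow_add,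
            neg_add_cancel, zpow_zero, map_one, MulAut.one_apply]
        have h2 : k ^ (-(j * i) + i) ∈ (P : Subgroup K) ⊓ stab φ z := ⟨zpow_mem hk _, h1⟩
        have h3 : (P : Subgroup K) ⊓ stab φ z = ⊥ := inf_eq_bot_of_coprime (by
          rw [hP, h.stab_card]; exact ((Fact.out : Nat.Prime 7).coprime_iff_not_dvd.2 hcop))
        rw [h3, mem_bot, ← orderOf_dvd_iff_zpow_eq_one, hk7] at h2
        have h4 : (7 : ℤ) ∣ 2 * i := by
          have := dvd_add h2 (Dvd.dvd.mul_right hd i)
          rwa [show -(j * i) + i + (j + 1) * i = 2 * i by ring] at this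
        have h5 : (7 : ℤ) ∣ i := (Int.isCoprime_iff_gcd_eq_one.2 (by decide : Int.gcd 7 2 = 1)).dvd_of_dvd_mul_left h4
        refine hne.2 ?_
        rw [show k ^ i = 1 by rw [← orderOf_dvd_iff_zpow_eq_one, hk7]; exact h5, map_one, MulAut.one_apply]
      have hker : Nat.card m.ker ≤ 2 := by
        have hsub : (m.ker : Set V) ⊆ {1, z} := fun v hv => by
          have : φ t v = v := (inv_mul_eq_one.1 (MonoidHom.mem_ker.1 hv)).symm
          rcases hfix v this with e | e <;> simp [e]
        have h1 := Set.ncard_le_ncard hsub (Set.toFinite _)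
        rw [← Nat.card_coe_set_eq] at h1
        exact h1.trans ((Set.ncard_insert_le _ _).trans (by rw [Set.ncard_singleton]))
      have hrange : m.range ≤ m.ker := by
        rintro _ ⟨v, rfl⟩
        refine MonoidHom.mem_ker.2 ?_
        show (v⁻¹ * φ t v)⁻¹ * φ t (v⁻¹ * φ t v) = 1
        rw [map_mul, map_inv, ← MulAut.mul_apply, ← map_mul, ht2, map_one, MulAut.one_apply, mul_inv_rev, inv_inv,
          inv_eq_of_mul_eq_one_right (h.vsq (φ t v))]
        rw [show φ t v * v * (φ t v * v) = 1 from h.vsq _]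
      have h1 := m.ker.card_mul_index
      rw [Subgroup.index_ker, hV] at h1
      have := Nat.card_le_card_of_injective _ (Subgroup.inclusion_injective hrange)
      nlinarith
  · have h1 := P.card_dvd_index
    have hidx : (P : Subgroup K).index = 2 ^ b := by
      have h2 := (P : Subgroup K).card_mul_index
      rw [hP, h.card, ho, mul_comm (2 ^ b) 7] at h2
      exact Nat.eq_of_mul_eq_mul_left (by norm_num) h2
    rw [hidx] at h1
    obtain ⟨i, hib, hi⟩ := (Nat.dvd_prime_pow Nat.prime_two).1 h1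
    have hmod := card_sylow_modEq_one 7 K
    rw [hi] at hmod
    have hi' : i = 0 ∨ (i = 3 ∧ b = 3) := by
      have hi3 : i ≤ 3 := by omega
      interval_cases i <;> simp_all [Nat.ModEq] <;> omega
    have hN : Nat.card (Sylow 7 K) = (normalizer ((P : Subgroup K) : Set K)).index := P.card_eq_index_normalizer
    rcases hi' with rfl | ⟨rfl, rfl⟩
    · rw [hi, pow_zero] at hN
      exact hn (normalizer_eq_top_iff.1 (index_eq_one.1 hN.symm))
    · have hle : normalizer ((P : Subgroup K) : Set K) = (P : Subgroup K) := by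
        refine (eq_of_le_of_card_ge le_normalizer ?_).symm
        have h2 := (normalizer ((P : Subgroup K) : Set K)).card_mul_index
        rw [← hN, hi, h.card, ho] at h2
        rw [hP]
        omega
      have hcent : normalizer ((P : Subgroup K) : Set K) ≤ centralizer (P : Set K) := by
        rw [hle]
        intro g hg
        rw [mem_centralizer_iff]
        intro g' hg'
        obtain ⟨i, hi⟩ := mem_zpowers_iff.1 ((Subgroup.mem_zpowers_iff.2 ⟨1, zpow_one g⟩) : g ∈ zpowers g)
        exact setLike_mul_comm (s := (P : Subgroup K)) hg' hg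
      set N := (MonoidHom.transferSylow P hcent).ker with hN'
      have hc := (MonoidHom.ker_transferSylow_isComplement' P hcent).card_mul
      rw [hP, h.card, ho, ← hN'] at hc
      have hN8 : Nat.card N = 2 ^ 3 := by omega
      have := h.core N (MonoidHom.normal_ker _) (IsPGroup.of_card hN8)
      rw [this, card_bot] at hN8
      omega

/-- A small module allows only a stabilizer of order two. -/
theorem small (hb : 2 ≤ b) (hV : Nat.card V ≤ 8) (hb3 : Nat.card V = 8 → b ≤ 3) : False := by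
  have h1 := h.orbit_le
  have h2 := h.odd
  have ho : o = 1 ∨ o = 3 ∨ o = 5 ∨ o = 7 := by obtain ⟨k, rfl⟩ := h2; omega
  rcases ho with ho | ho | ho | ho
  · have hT : stab φ z = ⊤ := eq_top_of_card_eq _ (by rw [h.stab_card, h.card, ho, mul_one])
    have := h.core ⊤ inferInstance (h.stab_isPGroup.of_equiv ((MulEquiv.subgroupCongr hT).trans (MulEquiv.refl _)))
    have h3 : Nat.card (⊤ : Subgroup K) = 2 ^ b := by rw [← hT]; exact h.stab_card
    rw [this, card_bot] at h3
    have := Nat.pow_le_pow_right two_pos hb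
    omega
  · have := h.three ho; omega
  · exact h.five ho hV
  · have hV8 : Nat.card V = 8 := by omega
    exact h.seven ho hV8 (by omega) (hb3 hV8)

/-- The stabilizer as a Sylow subgroup. -/
theorem exists_sylow : ∃ P : Sylow 2 K, (P : Subgroup K) = stab φ z := by
  haveI : Fact (Nat.Prime 2) := ⟨Nat.prime_two⟩
  have hidx : (stab φ z).index = o := h.card_quot
  exact ⟨h.stab_isPGroup.toSylow (by rw [hidx]; exact h.odd.not_two_dvd_nat), IsPGroup.toSylow_coe _ _⟩

/-- A central subgroup of the stabilizer is trivial. -/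
theorem central_eq_one {a : K} (ha : a ∈ stab φ z) (hc : ∀ g : K, g * a = a * g) : a = 1 := by
  have hn : (zpowers a).Normal := ⟨fun d hd g => by
    obtain ⟨i, rfl⟩ := mem_zpowers_iff.1 hd
    rw [← conj_zpow, hc g, mul_inv_cancel_right]
    exact zpow_mem (mem_zpowers a) i⟩
  exact zpowers_eq_bot.1 (h.core _ hn (h.stab_isPGroup.to_le (zpowers_le.2 ha)))

/-- The stabilizer is not of order four over a module of order sixteen. -/
theorem big (hb : b = 2) (hlen : ∀ n, Climb n (⊤ : Subgroup K) → n ≤ 3) (hoff : Offender φ z) : False := by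
  classical
  haveI : Fact (Nat.Prime 2) := ⟨Nat.prime_two⟩
  subst hb
  set T := stab φ z with hT
  have hT4 : Nat.card T = 2 ^ 2 := h.stab_card
  have ho1 : o ≠ 1 := by
    intro e
    have hTtop : T = ⊤ := eq_top_of_card_eq _ (by rw [hT4, h.card, e, mul_one])
    have hn : T.Normal := hTtop ▸ inferInstance
    have := h.core T hn h.stab_isPGroup
    rw [this, card_bot] at hT4
    omega
  have hmax : ∀ H, T < H → H = ⊤ := fun H hH => by
    by_contra hne
    have := hlen 4 (((Climb.of_card hT4).step hH).step (lt_top_iff_ne_top.2 hne))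
    omega
  have hNT : normalizer (T : Set K) = T := by
    by_contra hne
    have htop := hmax _ (lt_of_le_of_ne le_normalizer (Ne.symm hne))
    have := h.core T (normalizer_eq_top_iff.1 htop) h.stab_isPGroup
    rw [this, card_bot] at hT4
    omega
  obtain ⟨P, hP⟩ := h.exists_sylow
  have hcomm : ∀ u ∈ T, ∀ w ∈ T, u * w = w * u := fun u hu w hw => by
    haveI := IsPGroup.isMulCommutative_of_card_eq_prime_sq hT4
    exact setLike_mul_comm hu hw
  have hcent : normalizer ((P : Subgroup K) : Set K) ≤ centralizer (P : Set K) := by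
    have hc : ((P : Subgroup K) : Set K) = (T : Set K) := by rw [hP]
    show normalizer ((P : Subgroup K) : Set K) ≤ centralizer ((P : Subgroup K) : Set K)
    rw [hc, hNT]
    exact fun g hg => mem_centralizer_iff.2 fun u hu => hcomm u hu g hg
  set N := (MonoidHom.transferSylow P hcent).ker with hN
  haveI : N.Normal := MonoidHom.normal_ker _
  have hcpl := MonoidHom.ker_transferSylow_isComplement' P hcent
  have hNo : Nat.card N = o := by
    have h1 := hcpl.card_mul
    have hPc : Nat.card (P : Subgroup K) = 2 ^ 2 := by rw [hP]; exact hT4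
    rw [hPc, h.card, ← hN, mul_comm] at h1
    exact Nat.eq_of_mul_eq_mul_left (by norm_num) h1
  have hgen : ∀ g : K, ∃ n ∈ N, ∃ u ∈ T, g = n * u := fun g => by
    obtain ⟨⟨n, u⟩, hnu⟩ := hcpl.existsUnique g |>.exists
    exact ⟨n, n.2, u, (SetLike.ext_iff.1 hP _).1 u.2, hnu.symm⟩
  obtain ⟨D, C, hDT, hD1, hDsq, hfix, hcardle⟩ := hoff
  obtain ⟨⟨a, haD⟩, ha1⟩ := ne_bot_iff_exists_ne_one.1 hD1
  have ha1' : a ≠ 1 := fun e => ha1 (Subtype.ext e)
  have haT : a ∈ T := hDT haD
  -- the complement has no proper subgroups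
  have hU : ∀ U : Subgroup K, U ≤ N → U ≠ ⊥ → U = N := by
    intro U hUN hU1
    by_contra hne
    have hdis : N ⊓ zpowers a = ⊥ := inf_eq_bot_of_coprime (by
      rw [hNo, Nat.card_zpowers, orderOf_eq_prime (by rw [pow_two, hDsq a haD]) ha1']
      exact Nat.coprime_two_right.2 h.odd)
    have hlt : N < N ⊔ zpowers a := lt_of_le_of_ne le_sup_left fun e => ha1' (by
      have : a ∈ N ⊓ zpowers a := ⟨e ▸ mem_sup_right (mem_zpowers a), mem_zpowers a⟩
      rwa [hdis, mem_bot] at this)
    have hlt2 : N ⊔ zpowers a < ⊤ := lt_top_iff_ne_top.2 fun e => by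
      have h1 : Nat.card ↥(zpowers a ⊔ N) ≤ Nat.card (zpowers a) * Nat.card N :=
        Nat.le_of_dvd (Nat.mul_pos Nat.card_pos Nat.card_pos) (Cores.card_sup_dvd_mul _ _)
      rw [sup_comm, e, Nat.card_congr Subgroup.topEquiv.toEquiv, h.card, hNo, Nat.card_zpowers,
        orderOf_eq_prime (by rw [pow_two, hDsq a haD]) ha1'] at h1
      have := h.o_pos
      omega
    have h0 : Climb 1 U := ⟨⊥, bot_lt_iff_ne_bot.2 hU1, trivial⟩
    have := hlen 4 (((h0.step (lt_of_le_of_ne hUN hne)).step hlt).step hlt2)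
    omega
  set p := o.minFac with hp
  haveI : Fact p.Prime := ⟨Nat.minFac_prime ho1⟩
  obtain ⟨⟨k, hk⟩, hkp⟩ := exists_prime_orderOf_dvd_card' (G := N) p (by rw [hNo]; exact o.minFac_dvd)
  rw [Subgroup.orderOf_mk] at hkp
  have hk1 : k ≠ 1 := fun e => by
    rw [e, orderOf_one] at hkp
    exact (Fact.out : p.Prime).one_lt.ne hkp
  have hNk : zpowers k = N := hU _ (zpowers_le.2 hk) fun e => hk1 (zpowers_eq_bot.1 e)
  haveI hNc : IsCyclic N := hNk ▸ inferInstance
  have hop : o = p := by rw [← hNo, ← hNk, Nat.card_zpowers, hkp]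
  -- the stabilizer acts faithfully on it
  let θ : T →* MulAut N := (MulAut.conjNormal (H := N)).comp T.subtype
  have hθ : Function.Injective θ := (injective_iff_map_eq_one θ).2 fun u hu => Subtype.ext (by
    refine h.central_eq_one u.2 fun g => ?_
    obtain ⟨n, hn, w, hw, rfl⟩ := hgen g
    have h1 : (u : K) * n * (u : K)⁻¹ = n := by
      have h2 := congrArg Subtype.val (DFunLike.congr_fun hu (⟨n, hn⟩ : N))
      simpa [θ] using h2
    rw [mul_assoc, hcomm w hw u u.2, ← mul_assoc, ← mul_assoc, ← mul_inv_eq_iff_eq_mul.1 h1])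
  haveI : NeZero (Nat.card N) := ⟨Nat.card_pos.ne'⟩
  have hcyc : IsCyclic (MulAut N) := (IsCyclic.mulAutMulEquiv N).isCyclic.2 (by
    rw [hNo, hop]; exact ZMod.isCyclic_units_prime Fact.out)
  haveI hTc : IsCyclic T := isCyclic_of_injective θ hθ
  haveI : IsCyclic D := isCyclic_of_injective (Subgroup.inclusion hDT) (Subgroup.inclusion_injective hDT)
  have hD2 : Nat.card D ≤ 2 := by
    obtain ⟨d, hd⟩ := IsCyclic.exists_ofOrder_eq_natCard (α := D)
    rw [← hd]
    exact Nat.le_of_dvd two_pos (orderOf_dvd_of_pow_eq_one (Subtype.ext (by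
      rw [SubmonoidClass.coe_pow, pow_two]; exact hDsq d d.2)))
  have hidx : C.index ≤ 2 := by
    have h1 := C.card_mul_index
    have h2 : Nat.card C * C.index ≤ Nat.card C * 2 := by
      rw [h1]; calc Nat.card V ≤ Nat.card D * Nat.card C := hcardle
        _ ≤ Nat.card C * 2 := by rw [mul_comm (Nat.card C)]; exact Nat.mul_le_mul_right _ hD2
    exact Nat.le_of_mul_le_mul_left h2 Nat.card_pos
  -- and the involution inverts it
  have hinvert : a * k * a⁻¹ = k⁻¹ := by
    have hN' : ∀ g ∈ N, ∀ g' ∈ N, g * g' = g' * g := fun g hg g' hg' => by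
      haveI := hNc
      letI := IsCyclic.commGroup (α := N)
      exact congrArg Subtype.val (mul_comm (⟨g, hg⟩ : N) ⟨g', hg'⟩)
    have hq : k * (a * k * a⁻¹) ∈ N := N.mul_mem hk ((inferInstance : N.Normal).conj_mem k hk a)
    set q := k * (a * k * a⁻¹) with hqd
    by_contra hne
    have hq1 : q ≠ 1 := fun e => hne (eq_inv_of_mul_eq_one_right e)
    have hqk : zpowers q = N := hU _ (zpowers_le.2 hq) fun e => hq1 (zpowers_eq_bot.1 e)
    have hqa : a * q * a⁻¹ = q := by
      rw [hqd, show a * (k * (a * k * a⁻¹)) * a⁻¹ = (a * k * a⁻¹) * (a * a * k * (a * a)⁻¹) by group,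
        hDsq a haD, one_mul, inv_one, mul_one]
      exact hN' _ ((inferInstance : N.Normal).conj_mem k hk a) _ hk
    have : θ ⟨a, haT⟩ = θ 1 := by
      rw [map_one]
      refine MulEquiv.ext fun n => Subtype.ext ?_
      show a * (n : K) * a⁻¹ = n
      obtain ⟨i, hi⟩ := mem_zpowers_iff.1 (hqk.symm ▸ n.2 : (n : K) ∈ zpowers q)
      rw [← hi, ← conj_zpow, hqa]
    exact ha1' (congrArg Subtype.val (hθ this))
  have h3 := cube h.inj h.vsq (hDsq a haD) hinvert (n := o) h.odd
    (by rw [hop, ← hkp, pow_orderOf_eq_one]) (C := C) (fun c hc => hfix a haD c hc) hidx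
  have hp3 : p = 3 := by
    have h4 : p ∣ 3 := hkp ▸ orderOf_dvd_of_pow_eq_one h3
    exact ((Nat.prime_dvd_prime_iff_eq Fact.out Nat.prime_three).1 h4)
  have := Nat.card_le_card_of_injective θ hθ
  rw [hT4, IsCyclic.card_mulAut, hNo, hop, hp3, Nat.totient_prime Nat.prime_three] at this
  omega

/-- A stabilizer of order two: an inverted element of order three. -/
theorem one (hb : b = 1) (hoff : Offender φ z) :
    ∃ a x : K, a ∈ stab φ z ∧ a * a = 1 ∧ a ≠ 1 ∧ x ≠ 1 ∧ x ^ 3 = 1 ∧ a * x * a⁻¹ = x⁻¹ ∧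
      (∃ C : Subgroup V, C.index ≤ 2 ∧ ∀ c ∈ C, φ a c = c) ∧ 3 ∣ o ∧ (o ≠ 3 → Climb 3 (⊤ : Subgroup K)) := by
  classical
  haveI : Fact (Nat.Prime 2) := ⟨Nat.prime_two⟩
  subst hb
  set T := stab φ z with hT
  have hT2 : Nat.card T = 2 := by rw [h.stab_card, pow_one]
  obtain ⟨D, C, hDT, hD1, hDsq, hfix, hcardle⟩ := hoff
  obtain ⟨⟨a, haD⟩, ha1⟩ := ne_bot_iff_exists_ne_one.1 hD1
  have ha1' : a ≠ 1 := fun e => ha1 (Subtype.ext e)
  have haT : a ∈ T := hDT haD
  have ha2 : a * a = 1 := hDsq a haD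
  have hTa : zpowers a = T := eq_of_le_of_card_ge (zpowers_le.2 haT) (by
    rw [hT2, Nat.card_zpowers, orderOf_eq_prime (by rw [pow_two, ha2]) ha1'])
  have hidx : C.index ≤ 2 := by
    have hD2 : Nat.card D ≤ 2 := hT2 ▸ Nat.card_le_card_of_injective _ (Subgroup.inclusion_injective hDT)
    have h1 := C.card_mul_index
    have h2 : Nat.card C * C.index ≤ Nat.card C * 2 := by
      rw [h1]; calc Nat.card V ≤ Nat.card D * Nat.card C := hcardle
        _ ≤ Nat.card C * 2 := by rw [mul_comm (Nat.card C)]; exact Nat.mul_le_mul_right _ hD2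
    exact Nat.le_of_mul_le_mul_left h2 Nat.card_pos
  obtain ⟨P, hP⟩ := h.exists_sylow
  have hcomm : ∀ u ∈ T, u = 1 ∨ u = a := by
    intro u hu
    obtain ⟨i, rfl⟩ := mem_zpowers_iff.1 (hTa ▸ hu)
    rcases Int.even_or_odd i with ⟨j, rfl⟩ | ⟨j, rfl⟩
    · left; rw [← two_mul, zpow_mul, zpow_two, ha2, one_zpow]
    · right; rw [zpow_add_one, zpow_mul, zpow_two, ha2, one_zpow, one_mul]
  have hcent : normalizer ((P : Subgroup K) : Set K) ≤ centralizer (P : Set K) := by
    have hc : ((P : Subgroup K) : Set K) = (T : Set K) := by rw [hP]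
    show normalizer ((P : Subgroup K) : Set K) ≤ centralizer ((P : Subgroup K) : Set K)
    rw [hc]
    intro g hg
    refine mem_centralizer_iff.2 fun u hu => ?_
    rcases hcomm u hu with rfl | rfl
    · rw [one_mul, mul_one]
    · rcases hcomm _ ((mem_normalizer_iff.1 hg u).1 haT) with k | k
      · exact absurd (conj_eq_one_iff.1 k) ha1'
      · exact (mul_inv_eq_iff_eq_mul.1 k).symm
  set N := (MonoidHom.transferSylow P hcent).ker with hN
  haveI : N.Normal := MonoidHom.normal_ker _
  have hcpl := MonoidHom.ker_transferSylow_isComplement' P hcent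
  have hNo : Nat.card N = o := by
    have h1 := hcpl.card_mul
    have hPc : Nat.card (P : Subgroup K) = 2 := by rw [hP]; exact hT2
    rw [hPc, h.card, ← hN, pow_one, mul_comm] at h1
    exact Nat.eq_of_mul_eq_mul_left (by norm_num) h1
  obtain ⟨k, hkN, hka⟩ : ∃ k ∈ N, a * k * a⁻¹ ≠ k := by
    by_contra hne
    push Not at hne
    refine ha1' (h.central_eq_one haT fun g => ?_)
    obtain ⟨⟨n, u⟩, hnu⟩ := hcpl.existsUnique g |>.exists
    have hn := mul_inv_eq_iff_eq_mul.1 (hne n n.2)
    rw [← hnu]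
    show (n : K) * u * a = a * (n * u)
    rcases hcomm u ((SetLike.ext_iff.1 hP _).1 u.2) with e | e <;> rw [e]
    · rw [mul_one, hn]
    · rw [mul_assoc, ← mul_assoc a, hn, mul_assoc]
  set x := k⁻¹ * (a * k * a⁻¹) with hx
  have hxN : x ∈ N := N.mul_mem (N.inv_mem hkN) ((inferInstance : N.Normal).conj_mem k hkN a)
  have hx1 : x ≠ 1 := fun e => hka (inv_mul_eq_one.1 e).symm
  have hax : a * x * a⁻¹ = x⁻¹ := by
    rw [hx, show a * (k⁻¹ * (a * k * a⁻¹)) * a⁻¹ = a * k⁻¹ * a⁻¹ * ((a * a) * k * (a * a)⁻¹) by group, ha2,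
      mul_inv_rev, mul_inv_rev, mul_inv_rev, inv_inv, inv_inv]
    group
  have hxo : x ^ o = 1 := by
    rw [← hNo]; exact congrArg Subtype.val (pow_card_eq_one' (x := (⟨x, hxN⟩ : N)))
  have hx3 := cube h.inj h.vsq ha2 hax h.odd hxo (C := C) (fun c hc => hfix a haD c hc) hidx
  haveI : Fact (Nat.Prime 3) := ⟨Nat.prime_three⟩
  have hxord : orderOf x = 3 := orderOf_eq_prime hx3 hx1
  refine ⟨a, x, haT, ha2, ha1', hx1, hx3, hax, ⟨C, hidx, fun c hc => hfix a haD c hc⟩,
    hxord ▸ orderOf_dvd_of_pow_eq_one hxo, fun ho => ?_⟩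
  have hlt1 : (⊥ : Subgroup K) < zpowers x := bot_lt_iff_ne_bot.2 fun e => hx1 (zpowers_eq_bot.1 e)
  have hlt2 : zpowers x < N := lt_of_le_of_ne (zpowers_le.2 hxN) fun e => ho (by
    rw [← hNo, ← e, Nat.card_zpowers, hxord])
  have hlt3 : N < ⊤ := lt_top_iff_ne_top.2 fun e => by
    have := h.o_pos
    rw [e, Nat.card_congr Subgroup.topEquiv.toEquiv, h.card, pow_one] at hNo
    omega
  exact ((Climb.step (n := 0) (K := (⊥ : Subgroup K)) trivial hlt1).step hlt2).step hlt3

end Act

end Cfsg.Agent.ChainEight.Quot
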