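import Mathlib
import Cfsg.Agent.Lib.ChainEight.Basic
import Cfsg.Agent.Lib.ChainEight.Quot

/-!
A maximal 2-constrained local subgroup has a Sylow subgroup containing the core with index two.
-/

set_option autoImplicit false
set_option linter.all false

namespace Cfsg.Agent.ChainEight

open Subgroup

universe u

variable {G : Type u} [Group G] [Finite G]

/-- Elementary abelian, elementwise. -/
def El (A : Subgroup G) : Prop := (∀ a ∈ A, a * a = 1) ∧ ∀ a ∈ A, ∀ b ∈ A, a * b = b * a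

theorem El.sup {A B : Subgroup G} (hA : El A) (hB : El B) (hc : ∀ a ∈ A, ∀ b ∈ B, a * b = b * a) :
    El (A ⊔ B) := by
  have hform : ∀ x ∈ A ⊔ B, ∃ a ∈ A, ∃ b ∈ B, x = a * b := by
    let P : Subgroup G :=
      { carrier := {x | ∃ a ∈ A, ∃ b ∈ B, x = a * b}
        one_mem' := ⟨1, one_mem _, 1, one_mem _, by rw [mul_one]⟩
        mul_mem' := by
          rintro _ _ ⟨a, ha, b, hb, rfl⟩ ⟨a', ha', b', hb', rfl⟩
          exact ⟨a * a', mul_mem ha ha', b * b', mul_mem hb hb',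
            (show Commute b a' from (hc a' ha' b hb).symm).mul_mul_mul_comm a b'⟩
        inv_mem' := by
          rintro _ ⟨a, ha, b, hb, rfl⟩
          exact ⟨a⁻¹, inv_mem ha, b⁻¹, inv_mem hb, by
            rw [mul_inv_rev]; exact (hc _ (inv_mem ha) _ (inv_mem hb)).symm⟩ }
    have : A ⊔ B ≤ P := sup_le (fun a ha => ⟨a, ha, 1, one_mem _, by rw [mul_one]⟩)
      (fun b hb => ⟨1, one_mem _, b, hb, by rw [one_mul]⟩)
    exact this
  constructor
  · intro x hx
    obtain ⟨a, ha, b, hb, rfl⟩ := hform x hx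
    rw [(show Commute b a from (hc a ha b hb).symm).mul_mul_mul_comm, hA.1 a ha, hB.1 b hb, one_mul]
  · intro x hx y hy
    obtain ⟨a, ha, b, hb, rfl⟩ := hform x hx
    obtain ⟨a', ha', b', hb', rfl⟩ := hform y hy
    rw [(show Commute b a' from (hc a' ha' b hb).symm).mul_mul_mul_comm,
      (show Commute b' a from (hc a ha b' hb').symm).mul_mul_mul_comm, hA.2 a ha a' ha', hB.2 b hb b' hb']

theorem El.isPGroup {A : Subgroup G} (hA : El A) : IsPGroup 2 A :=
  fun a => ⟨1, Subtype.ext (by rw [pow_one, pow_two]; exact hA.1 a a.2)⟩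

/-- The central involutions of the core, with the identity. -/
def Vee (M : Subgroup G) : Subgroup G where
  carrier := {q | q ∈ Cfsg.pCoreOf 2 M ∧ q * q = 1 ∧ ∀ r ∈ Cfsg.pCoreOf 2 M, r * q = q * r}
  one_mem' := ⟨one_mem _, one_mul 1, fun r _ => by rw [mul_one, one_mul]⟩
  mul_mem' := by
    rintro p q ⟨hp, hp2, hpc⟩ ⟨hq, hq2, hqc⟩
    refine ⟨mul_mem hp hq, ?_, fun r hr => ?_⟩
    · rw [(show Commute q p from hpc q hq).mul_mul_mul_comm, hp2, hq2, one_mul]
    · exact ((show Commute r p from hpc r hr).mul_right (hqc r hr)).eq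
  inv_mem' := by
    rintro p ⟨hp, hp2, hpc⟩
    rw [inv_eq_of_mul_eq_one_right hp2]
    exact ⟨hp, hp2, hpc⟩

theorem vee_le (M : Subgroup G) : Vee M ≤ Cfsg.pCoreOf 2 M := fun _ h => h.1

theorem vee_el (M : Subgroup G) : El (Vee M) :=
  ⟨fun a ha => ha.2.1, fun a ha b hb => hb.2.2 a ha.1⟩

theorem vee_conj {M : Subgroup G} {m v : G} (hm : m ∈ M) (hv : v ∈ Vee M) : m * v * m⁻¹ ∈ Vee M := by
  refine ⟨core_conj hm hv.1, sq_conj hv.2.1, fun r hr => ?_⟩
  have h1 := hv.2.2 (m⁻¹ * r * m) (by simpa using core_conj (inv_mem hm) hr)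
  calc r * (m * v * m⁻¹) = m * (m⁻¹ * r * m * v) * m⁻¹ := by group
    _ = m * (v * (m⁻¹ * r * m)) * m⁻¹ := by rw [h1]
    _ = m * v * m⁻¹ * r := by group

/-- Conjugation on `Vee M`. -/
def rho (M : Subgroup G) : ↥M →* MulAut ↥(Vee M) where
  toFun m :=
    { toFun := fun v => ⟨(m : G) * v * (m : G)⁻¹, vee_conj m.2 v.2⟩
      invFun := fun v => ⟨(m : G)⁻¹ * v * (m : G), by simpa using vee_conj (inv_mem m.2) v.2⟩
      left_inv := fun v => Subtype.ext (by group)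
      right_inv := fun v => Subtype.ext (by group)
      map_mul' := fun u v => Subtype.ext (by simp only [Subgroup.coe_mul]; group) }
  map_one' := MulEquiv.ext fun v => Subtype.ext (by simp)
  map_mul' a b := MulEquiv.ext fun v => Subtype.ext (by
    show ((a : G) * b) * v * ((a : G) * b)⁻¹ = (a : G) * ((b : G) * v * (b : G)⁻¹) * (a : G)⁻¹
    group)

/-- The configuration reached. -/
structure Pre (S : Sylow 2 G) (z : G) (M : Subgroup G) (a f : G) : Prop where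
  max : MaxLoc S z M
  aT : a ∈ (S : Subgroup G) ⊓ M
  aQ : a ∉ Cfsg.pCoreOf 2 M
  a2 : a * a ∈ Cfsg.pCoreOf 2 M
  idxT : ∀ t ∈ (S : Subgroup G) ⊓ M, t ∈ Cfsg.pCoreOf 2 M ∨ t * a ∈ Cfsg.pCoreOf 2 M
  fM : f ∈ M
  f3 : orderOf f = 3
  inv : a * f * a⁻¹ * f ∈ Cfsg.pCoreOf 2 M
  fixed : ∃ C : Subgroup G, C ≤ Vee M ∧ (∀ c ∈ C, a * c = c * a) ∧ Nat.card (Vee M) ≤ 2 * Nat.card C
  shape : (∀ m ∈ M, ∃ t ∈ (S : Subgroup G) ⊓ M, m = t ∨ m = f * t ∨ m = f * f * t) ∨
    (Vee M = Cfsg.pCoreOf 2 M ∧ Nat.card (Cfsg.pCoreOf 2 M) = 16)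

namespace MaxLoc

variable {S : Sylow 2 G} {z : G} {M : Subgroup G} (h : MaxLoc S z M)
include h

theorem T_isPGroup : IsPGroup 2 ↥((S : Subgroup G) ⊓ M) := S.2.to_le inf_le_left

theorem not_le : ¬ M ≤ (S : Subgroup G) := fun k => h.loc.2.1 (S.2.to_le k)

theorem core_le_T : Cfsg.pCoreOf 2 M ≤ (S : Subgroup G) ⊓ M := by
  haveI : Fact (Nat.Prime 2) := ⟨Nat.prime_two⟩
  set T' := ((S : Subgroup G) ⊓ M).subgroupOf M with hT'
  let P : Sylow 2 M := (h.T_isPGroup.of_equiv (subgroupOfEquivOfLe inf_le_right).symm :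
    IsPGroup 2 T').toSylow (by rw [hT']; exact h.sylow)
  rintro _ ⟨w, hw, rfl⟩
  have h1 : w ∈ (P : Subgroup M) :=
    (Cores.pCore_isPGroup (G := M) 2).le_sylow_of_normal P hw
  rw [IsPGroup.toSylow_coe] at h1
  exact h1

theorem z_T : z ∈ (S : Subgroup G) ⊓ M := h.core_le_T h.z_mem

theorem zQ {q : G} (hq : q ∈ Cfsg.pCoreOf 2 M) : q * z = z * q := h.hyp.zc q (h.core_le_T hq).1

theorem z_vee : z ∈ Vee M := ⟨h.z_mem, h.hyp.z2, fun _ hr => h.zQ hr⟩

theorem T_cent {m : G} (hm : m ∈ M) (hc : m * z = z * m) : m ∈ (S : Subgroup G) ⊓ M :=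
  ⟨h.hyp.mem_S_of_comm hc, hm⟩

theorem cent_vee {m : G} (hm : m ∈ M) (hc : ∀ v ∈ Vee M, m * v = v * m) : m ∈ Cfsg.pCoreOf 2 M := by
  refine le_core (N := M ⊓ centralizer (Vee M : Set G)) inf_le_left
    (h.hyp.two_cent (Cj.refl z) fun k hk => (mem_centralizer_iff.1 hk.2 z h.z_vee).symm)
    (fun g hg x hx => ⟨M.mul_mem (M.mul_mem hg hx.1) (M.inv_mem hg), ?_⟩)
    ⟨hm, mem_centralizer_iff.2 fun v hv => (hc v hv).symm⟩
  refine mem_centralizer_iff.2 fun v hv => ?_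
  have h1 := mem_centralizer_iff.1 hx.2 (g⁻¹ * v * g) (by simpa using vee_conj (inv_mem hg) hv)
  calc v * (g * x * g⁻¹) = g * (g⁻¹ * v * g * x) * g⁻¹ := by group
    _ = g * (x * (g⁻¹ * v * g)) * g⁻¹ := by rw [h1]
    _ = g * x * g⁻¹ * v := by group

/-- Maximality. -/
theorem block {X : Subgroup G} (hX : IsPGroup 2 X) (hXM : X ≤ M) {w : G} (hw : w ∈ X) (hzw : Cj z w)
    (hinv : ∀ m ∈ M, ∀ x ∈ X, m * x * m⁻¹ ∈ X) : normalizer (X : Set G) = M := by
  have hle := le_normalizer_of_conj hinv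
  refine h.max _ ⟨fun e => ?_, fun k => h.loc.2.1 (k.to_le hle), X, le_normalizer, hX, le_rfl, w, hw, hzw⟩ hle
  haveI := h.hyp.simple
  have hn : X.Normal := normalizer_eq_top_iff.1 e
  rcases hn.eq_bot_or_eq_top with k | k
  · obtain ⟨g, rfl⟩ := hzw
    rw [k, mem_bot, conj_eq_one_iff] at hw
    exact h.hyp.z1 hw
  · exact h.loc.1 (top_le_iff.1 (k ▸ hXM))

/-- No element outside `M` normalizes an invariant subgroup of the core containing `z`. -/
theorem no_move {X : Subgroup G} (hX : X ≤ Cfsg.pCoreOf 2 M) (hz : z ∈ X)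
    (hinv : ∀ m ∈ M, ∀ x ∈ X, m * x * m⁻¹ ∈ X) {g : G} (hg : ∀ x ∈ X, g * x * g⁻¹ ∈ X) : g ∈ M :=
  h.block ((core_isPGroup M).to_le hX) (hX.trans (core_le M)) hz (Cj.refl z) hinv ▸ mem_normalizer_of_map_le hg

theorem exists_s : ∃ s ∈ (S : Subgroup G), s ∉ M ∧ (∀ t ∈ (S : Subgroup G) ⊓ M, s * t * s⁻¹ ∈ (S : Subgroup G) ⊓ M) ∧
    s * s ∈ (S : Subgroup G) ⊓ M := by
  classical
  haveI : Fact (Nat.Prime 2) := ⟨Nat.prime_two⟩
  haveI := S.2.isNilpotent
  set T := ((S : Subgroup G) ⊓ M).subgroupOf (S : Subgroup G) with hT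
  have hne : T < ⊤ := lt_top_iff_ne_top.2 fun e => by
    have hSM : (S : Subgroup G) ≤ M := fun s hs => by
      have h1 : (⟨s, hs⟩ : (S : Subgroup G)) ∈ T := by rw [e]; exact mem_top _
      exact h1.2
    rcases eq_or_lt_of_le hSM with k | k
    · exact h.not_le k.ge
    · exact h.loc.1 (h.hyp.eq_top_of_lt k)
  obtain ⟨s, hsN, hsT⟩ := SetLike.exists_of_lt (Group.normalizerCondition_of_isNilpotent T hne)
  obtain ⟨k, hk⟩ := S.2 s
  have hex : ∃ i, s ^ 2 ^ i ∈ T := ⟨k, by rw [hk]; exact one_mem _⟩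
  obtain ⟨i, hi⟩ : ∃ i, Nat.find hex = i + 1 := Nat.exists_eq_succ_of_ne_zero fun e => hsT (by
    have := Nat.find_spec hex; rwa [e, pow_zero, pow_one] at this)
  have h1 : s ^ 2 ^ i ∉ T := Nat.find_min hex (by omega)
  have h2 : s ^ 2 ^ (i + 1) ∈ T := hi ▸ Nat.find_spec hex
  refine ⟨((s ^ 2 ^ i : (S : Subgroup G)) : G), (s ^ 2 ^ i : (S : Subgroup G)).2,
    fun e => h1 ⟨(s ^ 2 ^ i : (S : Subgroup G)).2, e⟩, fun t ht => ?_, ?_⟩
  · have h3 : s ^ 2 ^ i ∈ normalizer (T : Set (S : Subgroup G)) := pow_mem hsN _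
    have h4 := conj_mem_of_normalizer h3 (show (⟨t, ht.1⟩ : (S : Subgroup G)) ∈ T from ht); exact h4
  · rw [pow_succ, pow_mul, pow_two] at h2
    exact h2

theorem card_T_le : Nat.card ↥((S : Subgroup G) ⊓ M) ≤ 2 ^ 6 := by
  haveI : Fact (Nat.Prime 2) := ⟨Nat.prime_two⟩
  obtain ⟨n, hn⟩ := IsPGroup.iff_card.1 h.T_isPGroup
  obtain ⟨s, hs, hsM, -⟩ := h.exists_s
  have hlt : (S : Subgroup G) ⊓ M < (S : Subgroup G) := lt_of_le_of_ne inf_le_left fun e => hsM (show s ∈ (S : Subgroup G) ⊓ M by rw [e]; exact hs).2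
  have h1 := Set.ncard_lt_ncard (SetLike.coe_ssubset_coe.2 hlt) (Set.toFinite _)
  rw [← Nat.card_coe_set_eq, ← Nat.card_coe_set_eq] at h1
  have h2 : Nat.card ↥((S : Subgroup G) ⊓ M) < 2 ^ 7 := h.hyp.card ▸ h1
  rw [hn] at h2 ⊢
  exact Nat.pow_le_pow_right two_pos (by have := (Nat.pow_lt_pow_iff_right (by norm_num : 1 < 2)).1 h2; omega)

/-- An elementary subgroup of the Sylow subgroup outside the core, of greatest order. -/
theorem exists_offender : ∃ A : Subgroup G, A ≤ (S : Subgroup G) ⊓ M ∧ El A ∧ ¬ A ≤ Cfsg.pCoreOf 2 M ∧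
    ∀ B : Subgroup G, B ≤ (S : Subgroup G) ⊓ M → El B → Nat.card B ≤ Nat.card A := by
  classical
  set T := (S : Subgroup G) ⊓ M with hT
  set 𝒜 : Set (Subgroup G) := {A | A ≤ T ∧ El A} with h𝒜
  have hne : 𝒜.Nonempty := ⟨⊥, bot_le, fun a ha => by rw [mem_bot.1 ha, one_mul],
    fun a ha b hb => by rw [mem_bot.1 ha, mem_bot.1 hb]⟩
  obtain ⟨A₀, hA₀, hmax⟩ := Set.exists_max_image 𝒜 (fun A => Nat.card A) (Set.toFinite _) hne
  by_contra hno
  push Not at hno
  set n := Nat.card A₀ with hn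
  set J := sSup {A : Subgroup G | A ∈ 𝒜 ∧ Nat.card A = n} with hJ
  have hall : ∀ A ∈ 𝒜, Nat.card A = n → A ≤ Cfsg.pCoreOf 2 M := fun A hA hc => by
    by_contra hAQ
    obtain ⟨B, h1, h2, h3⟩ := hno A hA.1 hA.2 hAQ
    have := hmax B ⟨h1, h2⟩
    omega
  have hJQ : J ≤ Cfsg.pCoreOf 2 M := sSup_le fun A hA => hall A hA.1 hA.2
  have hstab : ∀ g : G, (∀ q ∈ Cfsg.pCoreOf 2 M, g * q * g⁻¹ ∈ T) → ∀ x ∈ J, g * x * g⁻¹ ∈ J := by
    intro g hg
    have hle : J ≤ J.comap (MulAut.conj g).toMonoidHom := sSup_le fun A hA => by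
      rw [← map_le_iff_le_comap]
      refine le_sSup ⟨⟨?_, ?_, ?_⟩, (card_map_of_injective (MulAut.conj g).injective).trans hA.2⟩
      · rintro _ ⟨a, ha, rfl⟩; exact hg a (hall A hA.1 hA.2 ha)
      · rintro _ ⟨a, ha, rfl⟩; rw [← map_mul, hA.1.2.1 a ha, map_one]
      · rintro _ ⟨a, ha, rfl⟩ _ ⟨b, hb, rfl⟩; rw [← map_mul, ← map_mul, hA.1.2.2 a ha b hb]
    exact fun x hx => hle hx
  have hzJ : z ∈ J := by
    have h0 := hall A₀ hA₀ hn.symm
    have hEl : El (A₀ ⊔ zpowers z) := hA₀.2.sup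
      ⟨fun a ha => by
        obtain ⟨k, rfl⟩ := mem_zpowers_iff.1 ha
        rw [← (Commute.refl z).mul_zpow, h.hyp.z2, one_zpow],
       fun a ha b hb => by
        obtain ⟨i, rfl⟩ := mem_zpowers_iff.1 ha
        obtain ⟨j, rfl⟩ := mem_zpowers_iff.1 hb
        exact ((Commute.refl z).zpow_zpow i j).eq⟩
      fun a ha b hb => by
        obtain ⟨j, rfl⟩ := mem_zpowers_iff.1 hb
        exact ((show Commute a z from h.zQ (h0 ha)).zpow_right j).eq
    have hle : A₀ ⊔ zpowers z ≤ T := sup_le hA₀.1 (zpowers_le.2 h.z_T)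
    have heq := eq_of_le_of_card_ge le_sup_left (hmax _ ⟨hle, hEl⟩)
    exact (le_sSup (show A₀ ∈ {A : Subgroup G | A ∈ 𝒜 ∧ Nat.card A = n} from ⟨hA₀, hn.symm⟩))
      (heq.symm ▸ mem_sup_right (mem_zpowers z))
  obtain ⟨s, hs, hsM, hsT, -⟩ := h.exists_s
  exact hsM (h.no_move hJQ hzJ (fun m hm => hstab m fun q hq => h.core_le_T (core_conj hm hq))
    (hstab s fun q hq => hsT q (h.core_le_T hq)))

/-- The main step. -/
theorem exists_pre : ∃ a f : G, Pre S z M a f := by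
  classical
  haveI : Fact (Nat.Prime 2) := ⟨Nat.prime_two⟩
  set Q := Cfsg.pCoreOf 2 M with hQ
  set T := (S : Subgroup G) ⊓ M with hT
  let K := (rho M).range
  let π : ↥M →* K := (rho M).rangeRestrict
  have hπs : Function.Surjective π := (rho M).rangeRestrict_surjective
  let φ : K →* MulAut ↥(Vee M) := K.subtype
  let z' : ↥(Vee M) := ⟨z, h.z_vee⟩
  have hker : ∀ m : M, π m = 1 ↔ (m : G) ∈ Q := fun m => by
    constructor
    · intro e
      refine h.cent_vee m.2 fun v hv => ?_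
      have h1 := congrArg (fun k : K => ((k.1 ⟨v, hv⟩ : ↥(Vee M)) : G)) e
      exact mul_inv_eq_iff_eq_mul.1 h1
    · intro hm
      refine Subtype.ext (MulEquiv.ext fun v => Subtype.ext ?_)
      show (m : G) * v * (m : G)⁻¹ = v
      rw [v.2.2.2 m hm, mul_inv_cancel_right]
  have hfixz : ∀ m : M, π m ∈ Quot.stab φ z' ↔ (m : G) ∈ T := fun m => by
    constructor
    · intro e
      exact h.T_cent m.2 (mul_inv_eq_iff_eq_mul.1 (congrArg Subtype.val (Quot.mem_stab.1 e)))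
    · intro hm
      refine Quot.mem_stab.2 (Subtype.ext ?_)
      show (m : G) * z * (m : G)⁻¹ = z
      rw [h.hyp.zc _ hm.1, mul_inv_cancel_right]
  -- the lift of a subgroup of `K`
  let up : Subgroup K → Subgroup G := fun H => (H.comap π).map M.subtype
  have hup : ∀ H (g : G), g ∈ up H ↔ ∃ hg : g ∈ M, π ⟨g, hg⟩ ∈ H := fun H g => by
    constructor
    · rintro ⟨m, hm, rfl⟩; exact ⟨m.2, hm⟩
    · rintro ⟨hg, hm⟩; exact ⟨⟨g, hg⟩, hm, rfl⟩
  have hkerc : Nat.card π.ker = Nat.card Q := by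
    rw [show π.ker = Q.subgroupOf M from Subgroup.ext fun m => MonoidHom.mem_ker.trans (hker m)]
    exact Nat.card_congr (subgroupOfEquivOfLe (core_le M)).toEquiv
  have hcup : ∀ H, Nat.card (up H) = Nat.card Q * Nat.card H := fun H => by
    show Nat.card ↥((H.comap π).map M.subtype) = _
    rw [card_map_of_injective M.subtype_injective, ← hkerc]
    have h1 := (H.comap π).card_mul_index
    rw [index_comap_of_surjective _ hπs, ← π.ker.card_mul_index, Subgroup.index_ker,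
      MonoidHom.range_eq_top.2 hπs, Nat.card_congr Subgroup.topEquiv.toEquiv, ← H.card_mul_index,
      ← mul_assoc] at h1
    exact Nat.eq_of_mul_eq_mul_right (Nat.pos_of_ne_zero H.index_ne_zero_of_finite) h1
  obtain ⟨d, hd⟩ := IsPGroup.iff_card.1 (core_isPGroup M)
  have hclimb : ∀ n (H : Subgroup K), Climb n H → Climb (d + n) (up H) := by
    intro n
    induction n with
    | zero =>
      intro H _
      rcases eq_or_lt_of_le (show Q ≤ up H from fun q hq =>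
        (hup H q).2 ⟨core_le M hq, by rw [(hker ⟨q, core_le M hq⟩).2 hq]; exact one_mem _⟩) with k | k
      · exact k ▸ Climb.of_card hd
      · exact ((Climb.of_card hd).step k).mono (by omega)
    | succ n ih =>
      intro H hH
      obtain ⟨H', hlt, hc⟩ := hH
      refine (ih H' hc).step (lt_of_le_of_ne (map_mono (comap_mono hlt.le)) fun e => hlt.ne ?_)
      exact comap_injective hπs (map_injective M.subtype_injective e)
  have htop : up ⊤ = M := by
    show ((⊤ : Subgroup K).comap π).map M.subtype = M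
    rw [comap_top, ← MonoidHom.range_eq_map, range_subtype]
  have hlen : ∀ n, Climb n (⊤ : Subgroup K) → d + n ≤ 7 := fun n hn => by
    have h1 := hclimb n ⊤ hn
    rw [htop] at h1
    have := (h1.step (lt_top_iff_ne_top.2 h.loc.1)).le_eight h.hyp.short
    omega
  have hstabT : up (Quot.stab φ z') = T := Subgroup.ext fun g => by
    rw [hup]
    exact ⟨fun ⟨hg, e⟩ => (hfixz ⟨g, hg⟩).1 e, fun hg => ⟨hg.2, (hfixz ⟨g, hg.2⟩).2 hg⟩⟩
  obtain ⟨b, hb⟩ : ∃ b, Nat.card (Quot.stab φ z') = 2 ^ b := by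
    obtain ⟨n, hn⟩ := IsPGroup.iff_card.1 h.T_isPGroup
    have h1 : Nat.card (Quot.stab φ z') ∣ 2 ^ n := by
      have h2 := hcup (Quot.stab φ z')
      rw [hstabT, hn] at h2
      exact Dvd.intro_left _ h2.symm
    obtain ⟨i, -, hi⟩ := (Nat.dvd_prime_pow Nat.prime_two).1 h1
    exact ⟨i, hi⟩
  set o := (Quot.stab φ z').index with ho
  have hodd : Odd o := by
    rw [← Nat.not_even_iff_odd, even_iff_two_dvd, ho, ← index_comap_of_surjective _ hπs]
    rw [show (Quot.stab φ z').comap π = T.subgroupOf M from Subgroup.ext fun m => hfixz m]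
    exact h.sylow
  have hact : Quot.Act φ z' b o :=
    { inj := K.subtype_injective
      vsq := fun v => Subtype.ext v.2.2.1
      z1 := fun e => h.hyp.z1 (congrArg Subtype.val e)
      core := fun N hN hp => by
        have hp' : IsPGroup 2 (N.comap π) := hp.comap_of_ker_isPGroup π (by
          obtain ⟨k, hk⟩ := IsPGroup.iff_card.1 (core_isPGroup M)
          exact IsPGroup.of_card (hkerc.trans hk))
        have hle : (N.comap π).map M.subtype ≤ Q := le_core (map_subtype_le _) (hp'.map _) (by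
          rintro m hm _ ⟨x, hx, rfl⟩
          exact ⟨⟨m, hm⟩ * x * ⟨m, hm⟩⁻¹, (hN.comap π).conj_mem x hx _, rfl⟩)
        refine eq_bot_iff.2 fun k hk => ?_
        obtain ⟨m, rfl⟩ := hπs k
        exact mem_bot.2 ((hker m).2 (hle ⟨m, hk, rfl⟩))
      odd := hodd
      stab_card := hb
      card := by rw [← (Quot.stab φ z').card_mul_index, hb] }
  have hdb : d + b ≤ 6 := by
    have h1 := h.card_T_le
    rw [← hT, ← hstabT, hcup, hd, hb, ← pow_add] at h1
    exact (Nat.pow_le_pow_iff_right (by norm_num : 1 < 2)).1 h1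
  -- the offender
  obtain ⟨A, hAT, hAel, hAQ, hAmax⟩ := h.exists_offender
  set πA : A →* K := π.comp (Subgroup.inclusion (hAT.trans inf_le_right)) with hπA
  have hkerA : πA.ker = (A ⊓ Q).subgroupOf A := Subgroup.ext fun a => by
    rw [MonoidHom.mem_ker, mem_subgroupOf]
    exact ⟨fun e => ⟨a.2, (hker _).1 e⟩, fun e => (hker _).2 e.2⟩
  have hBV : El ((A ⊓ Q) ⊔ Vee M) := by
    refine El.sup ⟨fun a ha => hAel.1 a ha.1, fun a ha b hb => hAel.2 a ha.1 b hb.1⟩ (vee_el M) ?_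
    exact fun a ha v hv => hv.2.2 a ha.2
  set L := (A ⊓ Q) ⊔ Vee M with hL
  have hLT : L ≤ T := sup_le (inf_le_left.trans hAT) ((vee_le M).trans h.core_le_T)
  have hoff : Quot.Offender φ z' := by
    refine ⟨πA.range, (A ⊓ Vee M).subgroupOf (Vee M), ?_, ?_, ?_, ?_, ?_⟩
    · rintro _ ⟨a, rfl⟩; exact (hfixz _).2 (hAT a.2)
    · intro e
      refine hAQ fun a ha => (hker ⟨a, (hAT ha).2⟩).1 ?_
      have : πA ⟨a, ha⟩ ∈ πA.range := ⟨_, rfl⟩
      rwa [e, mem_bot] at this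
    · rintro _ ⟨a, rfl⟩
      rw [← map_mul, show a * a = 1 from Subtype.ext (hAel.1 a a.2), map_one]
    · rintro _ ⟨a, rfl⟩ c hc
      refine Subtype.ext ?_
      show (a : G) * c * (a : G)⁻¹ = c
      rw [hAel.2 a a.2 c hc.1, mul_inv_cancel_right]
    · have h1 := hAmax L hLT hBV
      have hA : Nat.card A = Nat.card ↥(A ⊓ Q) * Nat.card πA.range := by
        rw [← Subgroup.index_ker, hkerA, ← Nat.card_congr (subgroupOfEquivOfLe (inf_le_left : A ⊓ Q ≤ A)).toEquiv]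
        exact ((A ⊓ Q).subgroupOf A).card_mul_index.symm
      haveI : IsMulCommutative L := ⟨⟨fun a b => Subtype.ext (hBV.2 a a.2 b b.2)⟩⟩
      have h2 := Cores.card_sup_mul_card_inf ((A ⊓ Q).subgroupOf L) ((Vee M).subgroupOf L)
      rw [← subgroupOf_sup le_sup_left le_sup_right, subgroupOf_self, Nat.card_congr Subgroup.topEquiv.toEquiv,
        Nat.card_congr (subgroupOfEquivOfLe (le_sup_left : A ⊓ Q ≤ L)).toEquiv,
        Nat.card_congr (subgroupOfEquivOfLe (le_sup_right : Vee M ≤ L)).toEquiv,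
        show (A ⊓ Q).subgroupOf L ⊓ (Vee M).subgroupOf L = (A ⊓ Vee M).subgroupOf L from
          Subgroup.ext fun x => ⟨fun e => ⟨e.1.1, e.2⟩, fun e => ⟨⟨e.1, vee_le M e.2⟩, e.2⟩⟩,
        Nat.card_congr (subgroupOfEquivOfLe (inf_le_right.trans le_sup_right : A ⊓ Vee M ≤ L)).toEquiv] at h2
      rw [Nat.card_congr (subgroupOfEquivOfLe (inf_le_right : A ⊓ Vee M ≤ Vee M)).toEquiv]
      refine Nat.le_of_mul_le_mul_left ?_ (Nat.card_pos (α := ↥(A ⊓ Q)))
      rw [← h2, ← mul_assoc, ← hA]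
      exact Nat.mul_le_mul_right _ h1
  have hVd : Nat.card (Vee M) ≤ 2 ^ d := hd ▸ Nat.card_le_card_of_injective _ (Subgroup.inclusion_injective (vee_le M))
  obtain ⟨m, hm⟩ := IsPGroup.iff_card.1 (vee_el M).isPGroup
  have hmd : m ≤ d := by rw [hm] at hVd; exact (Nat.pow_le_pow_iff_right (by norm_num : 1 < 2)).1 hVd
  have hb1 : b = 1 := by
    rcases Nat.lt_trichotomy b 1 with hb0 | hb1 | hb2
    · exfalso
      obtain ⟨D, C, hD, hD1, -⟩ := hoff
      have : Nat.card D ≤ 1 := by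
        have := Nat.card_le_card_of_injective _ (Subgroup.inclusion_injective hD)
        rwa [hb, Nat.lt_one_iff.1 hb0, pow_zero] at this
      exact hD1 (D.eq_bot_of_card_le this)
    · exact hb1
    · exfalso
      by_cases hm3 : m ≤ 3
      · refine hact.small hb2 (hm ▸ (Nat.pow_le_pow_right two_pos hm3).trans (by norm_num)) fun e => ?_
        rw [hm] at e
        have : m = 3 := Nat.pow_right_injective le_rfl (e.trans (by norm_num : (8 : ℕ) = 2 ^ 3))
        omega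
      · exact hact.big (by omega) (fun n hn => by have := hlen n hn; omega) hoff
  obtain ⟨a, x, haS, ha2, ha1, hx1, hx3, hax, ⟨C, hC2, hCf⟩, h3o, hlong⟩ := hact.one hb1 hoff
  obtain ⟨a₀, rfl⟩ := hπs a
  obtain ⟨x₀, rfl⟩ := hπs x
  have hQord : ∀ q ∈ Q, ∃ i, q ^ 2 ^ i = 1 := fun q hq => by
    obtain ⟨i, hi⟩ := core_isPGroup M ⟨q, hq⟩
    exact ⟨i, congrArg Subtype.val hi⟩
  obtain ⟨i, hi⟩ := hQord ((x₀ : G) ^ 3) (by
    rw [← SubmonoidClass.coe_pow]; exact (hker _).1 (by rw [map_pow, hx3]))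
  set f₀ := x₀ ^ 2 ^ i with hf₀
  have hf3 : (f₀ : G) ^ 3 = 1 := by
    rw [hf₀, SubmonoidClass.coe_pow, ← pow_mul, mul_comm, pow_mul, hi]
  have hmod : 2 ^ i % 3 = 1 ∨ 2 ^ i % 3 = 2 := by
    have : ¬ 3 ∣ 2 ^ i := fun hd => by
      have := Nat.prime_three.dvd_of_dvd_pow hd
      omega
    omega
  have hπf : π f₀ = π x₀ ∨ π f₀ = (π x₀)⁻¹ := by
    rw [hf₀, map_pow, ← Nat.div_add_mod (2 ^ i) 3, pow_add, pow_mul, hx3, one_pow, one_mul]
    rcases hmod with e | e <;> rw [e]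
    · exact Or.inl (pow_one _)
    · exact Or.inr (eq_inv_of_mul_eq_one_left (by rw [← pow_succ, hx3]))
  have hf1 : π f₀ ≠ 1 := by
    rcases hπf with e | e <;> rw [e]
    exacts [hx1, inv_ne_one.2 hx1]
  haveI : Fact (Nat.Prime 3) := ⟨Nat.prime_three⟩
  have hford : orderOf (f₀ : G) = 3 := orderOf_eq_prime hf3 fun e => hf1 (by
    rw [show f₀ = 1 from Subtype.ext e, map_one])
  refine ⟨a₀, f₀, h, (hfixz a₀).1 haS, fun e => ha1 ((hker a₀).2 e), ?_, fun t ht => ?_, f₀.2, hford, ?_, ?_, ?_⟩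
  · exact (hker (a₀ * a₀)).1 (by rw [map_mul, ha2])
  · have htS := (hfixz ⟨t, ht.2⟩).2 ht
    by_cases e : π ⟨t, ht.2⟩ = 1
    · exact Or.inl ((hker _).1 e)
    · refine Or.inr ((hker (⟨t, ht.2⟩ * a₀)).1 ?_)
      rw [map_mul]
      have hc : Nat.card (Quot.stab φ z') = 2 := by rw [hb, hb1, pow_one]
      obtain ⟨u, hu⟩ := Nat.card_eq_two_iff' (1 : Quot.stab φ z') |>.1 hc
      have e1 := hu.2 ⟨_, htS⟩ (fun k => e (congrArg Subtype.val k))
      have e2 := hu.2 ⟨_, haS⟩ (fun k => ha1 (congrArg Subtype.val k))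
      have e3 : π ⟨t, ht.2⟩ = π a₀ := congrArg Subtype.val (e1.trans e2.symm)
      rw [e3, ha2]
  · refine (hker (a₀ * f₀ * a₀⁻¹ * f₀)).1 ?_
    rw [map_mul, map_mul, map_mul, map_inv]
    rcases hπf with e | e <;> rw [e]
    · rw [hax, inv_mul_cancel]
    · rw [← conj_inv, hax, inv_inv, mul_inv_cancel]
  · refine ⟨C.map (Vee M).subtype, map_subtype_le _, ?_, ?_⟩
    · rintro _ ⟨c, hc, rfl⟩
      exact mul_inv_eq_iff_eq_mul.1 (congrArg Subtype.val (hCf c hc))
    · rw [card_map_of_injective (Vee M).subtype_injective, ← C.card_mul_index, mul_comm 2]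
      exact Nat.mul_le_mul_left _ hC2
  · by_cases ho3 : o = 3
    · left
      intro m hm
      have hcard : Nat.card (K ⧸ Quot.stab φ z') = 3 := ho.symm.trans ho3
      let ψ : Fin 3 → K ⧸ Quot.stab φ z' := fun j => QuotientGroup.mk (π f₀ ^ (j : ℕ))
      have hord : orderOf (π f₀) = 3 := orderOf_eq_prime (by
        rw [← map_pow, show f₀ ^ 3 = 1 from Subtype.ext (by rw [SubmonoidClass.coe_pow]; exact hf3), map_one]) hf1
      have hinj : Function.Injective ψ := by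
        intro j k e
        have h1 : (π f₀ ^ (j : ℕ))⁻¹ * π f₀ ^ (k : ℕ) ∈ zpowers (π f₀) ⊓ Quot.stab φ z' :=
          ⟨(zpowers (π f₀)).mul_mem ((zpowers (π f₀)).inv_mem ((zpowers (π f₀)).pow_mem (mem_zpowers _) _)) ((zpowers (π f₀)).pow_mem (mem_zpowers _) _), QuotientGroup.eq.1 e⟩
        rw [inf_eq_bot_of_coprime (by rw [Nat.card_zpowers, hord, hb, hb1]; norm_num), mem_bot, inv_mul_eq_one,
          pow_inj_mod, hord, Nat.mod_eq_of_lt j.2, Nat.mod_eq_of_lt k.2] at h1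
        exact Fin.ext h1
      obtain ⟨j, hj⟩ := ((Nat.bijective_iff_injective_and_card ψ).2 ⟨hinj, by rw [hcard, Nat.card_fin]⟩).2
        (QuotientGroup.mk (π ⟨m, hm⟩))
      have h1 : π ((f₀ ^ (j : ℕ))⁻¹ * ⟨m, hm⟩) ∈ Quot.stab φ z' := by
        rw [map_mul, map_inv, map_pow]; exact QuotientGroup.eq.1 hj
      refine ⟨_, (hfixz _).1 h1, ?_⟩
      simp only [Subgroup.coe_mul, InvMemClass.coe_inv, SubmonoidClass.coe_pow]
      fin_cases j
      · left; simp
      · right; left; simp [← mul_assoc]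
      · right; right; simp [pow_two, ← mul_assoc]
    · right
      have h1 := hlen 3 (hlong ho3)
      have h2 := hact.orbit_le
      have h3 : 9 ≤ o := by
        obtain ⟨k, hk⟩ := h3o
        obtain ⟨l, hl⟩ := hodd
        omega
      rw [hm] at h2
      have h4 : 4 ≤ m := by
        by_contra hlt
        have := Nat.pow_le_pow_right two_pos (show m ≤ 3 by omega)
        omega
      have hd4 : d = 4 := by omega
      have hm4 : m = 4 := by omega
      exact ⟨eq_of_le_of_card_ge (vee_le M) (by rw [hd, hm, hd4, hm4]), by rw [hd, hd4]; norm_num⟩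

end MaxLoc

end Cfsg.Agent.ChainEight
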