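import Mathlib
import Cfsg.Agent.Lib.ChainEight.Stage

/-!
The element of order three moves only a section of order four of the core.
-/

set_option autoImplicit false
set_option linter.all false

namespace Cfsg.Agent.ChainEight

open Subgroup
open scoped Pointwise

universe u

variable {G : Type u} [Group G] [Finite G]

/-- A proper subgroup has at most half the elements. -/
theorem two_mul_le_of_lt {X Y : Subgroup G} (h : X < Y) : 2 * Nat.card X ≤ Nat.card Y := by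
  obtain ⟨k, hk⟩ := card_dvd_of_le h.le
  have h1 := Set.ncard_lt_ncard (SetLike.coe_ssubset_coe.2 h) (Set.toFinite _)
  rw [← Nat.card_coe_set_eq, ← Nat.card_coe_set_eq] at h1
  have h1' : Nat.card X < Nat.card Y := h1
  rw [hk] at h1' ⊢
  rw [mul_comm 2]
  exact Nat.mul_le_mul_left _ (by by_contra; interval_cases k <;> omega)

/-- Conjugation of a subgroup, elementwise. -/
def cmap (g : G) (X : Subgroup G) : Subgroup G := X.map (MulAut.conj g).toMonoidHom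

theorem mem_cmap {g x : G} {X : Subgroup G} : x ∈ cmap g X ↔ g⁻¹ * x * g ∈ X := by
  constructor
  · rintro ⟨y, hy, rfl⟩
    show g⁻¹ * (g * y * g⁻¹) * g ∈ X
    simpa [mul_assoc] using hy
  · intro h
    exact ⟨_, h, by show g * (g⁻¹ * x * g) * g⁻¹ = x; group⟩

theorem conj_mem_cmap {g x : G} {X : Subgroup G} (h : x ∈ X) : g * x * g⁻¹ ∈ cmap g X := ⟨x, h, rfl⟩

theorem card_cmap (g : G) (X : Subgroup G) : Nat.card (cmap g X) = Nat.card X :=
  card_map_of_injective (MulAut.conj g).injective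

/-- The fixed points of `f` in the core. -/
def Fix (M : Subgroup G) (f : G) : Subgroup G := Cfsg.pCoreOf 2 M ⊓ centralizer ({f} : Set G)

theorem mem_fix {M : Subgroup G} {f r : G} :
    r ∈ Fix M f ↔ r ∈ Cfsg.pCoreOf 2 M ∧ r * f = f * r :=
  ⟨fun h => ⟨h.1, mem_centralizer_singleton_iff.1 h.2⟩, fun h => ⟨h.1, mem_centralizer_singleton_iff.2 h.2⟩⟩

namespace Pre

variable {S : Sylow 2 G} {z : G} {M : Subgroup G} {a f : G} (h : Pre S z M a f)
include h

theorem f3' : f * f * f = 1 := by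
  rw [show f * f * f = f ^ 3 by rw [pow_succ, pow_two], ← h.f3, pow_orderOf_eq_one]

theorem f_inv : f⁻¹ = f * f := inv_eq_of_mul_eq_one_right (by rw [← mul_assoc]; exact h.f3')

theorem not_mem_of_two {X : Subgroup G} (hX : IsPGroup 2 X) : f ∉ X := by
  intro hf
  obtain ⟨k, hk⟩ := hX ⟨f, hf⟩
  have := orderOf_dvd_of_pow_eq_one (congrArg Subtype.val hk : f ^ 2 ^ k = 1)
  rw [h.f3] at this
  have := Nat.prime_three.dvd_of_dvd_pow this
  omega

theorem fQ : f ∉ Cfsg.pCoreOf 2 M := h.not_mem_of_two (core_isPGroup M)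

theorem z_moved : f * z * f⁻¹ ≠ z := fun e =>
  h.not_mem_of_two h.max.T_isPGroup (h.max.T_cent h.fM (mul_inv_eq_iff_eq_mul.1 e))

theorem mulT {t t' : G} (ht : t ∈ (S : Subgroup G) ⊓ M) (ht' : t' ∈ (S : Subgroup G) ⊓ M)
    (hn : t ∉ Cfsg.pCoreOf 2 M) (hn' : t' ∉ Cfsg.pCoreOf 2 M) : t * t'⁻¹ ∈ Cfsg.pCoreOf 2 M := by
  have h1 := (h.idxT t ht).resolve_left hn
  have h2 := (h.idxT t' ht').resolve_left hn'
  have := mul_mem h1 (inv_mem h2)
  rwa [show t * a * (t' * a)⁻¹ = t * t'⁻¹ by group] at this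

theorem half {X : Subgroup G} (hX : X ≤ (S : Subgroup G) ⊓ M) :
    Nat.card X ≤ 2 * Nat.card ↥(X ⊓ Cfsg.pCoreOf 2 M) := by
  classical
  by_cases hle : X ≤ Cfsg.pCoreOf 2 M
  · rw [inf_eq_left.2 hle]; omega
  obtain ⟨x₀, hx₀, hn₀⟩ := SetLike.not_le_iff_exists.1 hle
  let φ : X → Bool × ↥(X ⊓ Cfsg.pCoreOf 2 M) := fun x =>
    if hx : (x : G) ∈ Cfsg.pCoreOf 2 M then (true, ⟨x, x.2, hx⟩)
    else (false, ⟨(x : G) * x₀⁻¹, X.mul_mem x.2 (X.inv_mem hx₀), h.mulT (hX x.2) (hX hx₀) hx hn₀⟩)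
  have hφ : Function.Injective φ := by
    intro x y e
    simp only [φ] at e
    split_ifs at e with h1 h2 h2
    · exact Subtype.ext (congrArg (fun p => ((p.2 : ↥(X ⊓ Cfsg.pCoreOf 2 M)) : G)) e)
    · exact absurd (congrArg Prod.fst e) (by simp)
    · exact absurd (congrArg Prod.fst e) (by simp)
    · exact Subtype.ext (mul_right_cancel (congrArg (fun p => ((p.2 : ↥(X ⊓ Cfsg.pCoreOf 2 M)) : G)) e))
  have := Nat.card_le_card_of_injective φ hφ
  rwa [Nat.card_prod, Nat.card_eq_fintype_card (α := Bool), Fintype.card_bool] at this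

/-- The coset of `f` or its inverse determines `f` up to conjugacy. -/
theorem conj_f {f' : G} (h3 : orderOf f' = 3)
    (hf : f⁻¹ * f' ∈ Cfsg.pCoreOf 2 M ∨ f * f' ∈ Cfsg.pCoreOf 2 M) :
    ∃ q ∈ Cfsg.pCoreOf 2 M, f' = q * f * q⁻¹ ∨ f' = q * f⁻¹ * q⁻¹ := by
  haveI : Fact (Nat.Prime 3) := ⟨Nat.prime_three⟩
  set Q := Cfsg.pCoreOf 2 M with hQ
  have hnQ : zpowers f ≤ normalizer (Q : Set G) :=
    zpowers_le.2 (mem_normalizer_of_map_le fun x hx => core_conj h.fM hx)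
  set L := Q ⊔ zpowers f with hL
  have hfL : f ∈ L := mem_sup_right (mem_zpowers f)
  have hf'L : f' ∈ L := by
    rcases hf with k | k
    · have := L.mul_mem hfL (mem_sup_left k : f⁻¹ * f' ∈ L); rwa [mul_inv_cancel_left] at this
    · have := L.mul_mem (L.inv_mem hfL) (mem_sup_left k : f * f' ∈ L); rwa [inv_mul_cancel_left] at this
  have hLcard : Nat.card L ∣ 3 * Nat.card Q := by
    haveI : (Q.subgroupOf L).Normal :=
      normal_subgroupOf_of_le_normalizer (sup_le le_normalizer hnQ)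
    have h1 := Cores.card_sup_dvd_mul ((zpowers f).subgroupOf L) (Q.subgroupOf L)
    rwa [← subgroupOf_sup (show zpowers f ≤ L from le_sup_right) le_sup_left, sup_comm, ← hL, subgroupOf_self,
      Nat.card_congr Subgroup.topEquiv.toEquiv,
      Nat.card_congr (subgroupOfEquivOfLe (show zpowers f ≤ L from le_sup_right)).toEquiv,
      Nat.card_congr (subgroupOfEquivOfLe (show Q ≤ L from le_sup_left)).toEquiv,
      Nat.card_zpowers, h.f3] at h1
  obtain ⟨d, hd⟩ := IsPGroup.iff_card.1 (core_isPGroup M)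
  have mk : ∀ g : G, g ∈ L → orderOf g = 3 → ∀ g' : L, (g' : G) = g →
      ∃ P : Sylow 3 L, (P : Subgroup L) = zpowers g' := by
    intro g hg hg3 g' hg'
    have hc : Nat.card (zpowers g') = 3 ^ 1 := by rw [Nat.card_zpowers, ← Subgroup.orderOf_coe, hg', hg3]; rfl
    refine ⟨(IsPGroup.of_card hc).toSylow fun hdvd => ?_, IsPGroup.toSylow_coe _ _⟩
    have h1 := (zpowers g').card_mul_index
    rw [hc] at h1
    have h2 : 3 * 3 ∣ 3 * Nat.card Q := by
      refine Dvd.dvd.trans ?_ hLcard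
      rw [← h1, pow_one]; exact mul_dvd_mul_left 3 hdvd
    have h3 : 3 ∣ Nat.card Q := (mul_dvd_mul_iff_left (by norm_num)).1 h2
    rw [show Q = Cfsg.pCoreOf 2 M from rfl, hd] at h3
    have := Nat.prime_three.dvd_of_dvd_pow h3
    omega
  obtain ⟨P, hP⟩ := mk f hfL h.f3 ⟨f, hfL⟩ rfl
  obtain ⟨P', hP'⟩ := mk f' hf'L h3 ⟨f', hf'L⟩ rfl
  obtain ⟨l, hl⟩ := MulAction.exists_smul_eq L P P'
  have hmem : (⟨f', hf'L⟩ : L) ∈ ((P : Subgroup L).map (MulAut.conj l).toMonoidHom) := by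
    have e : ((l • P : Sylow 3 L) : Subgroup L) = (P : Subgroup L).map (MulAut.conj l).toMonoidHom :=
      Sylow.coe_subgroup_smul
    rw [← e, hl, hP']; exact mem_zpowers _
  rw [hP] at hmem
  obtain ⟨y, hy, hyf⟩ := hmem
  obtain ⟨j, rfl⟩ := mem_zpowers_iff.1 hy
  have hf'eq : f' = (l : G) * f ^ j * (l : G)⁻¹ := by
    have := congrArg (fun v : L => (v : G)) hyf
    simpa using this.symm
  have hl' : (l : G) ∈ (Q : Set G) * (zpowers f : Set G) := by
    rw [← coe_mul_of_right_le_normalizer_left Q _ hnQ]; exact l.2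
  obtain ⟨q, hq, w, ⟨k, hk⟩, hqw⟩ := hl'
  simp only at hk hqw
  have hf'q : f' = q * f ^ j * q⁻¹ := by
    rw [hf'eq, ← hqw, ← hk]
    group
  refine ⟨q, hq, ?_⟩
  have hj : j % 3 = 1 ∨ j % 3 = 2 := by
    have : j % 3 ≠ 0 := by
      intro e
      have : f ^ j = 1 := by
        rw [← orderOf_dvd_iff_zpow_eq_one, h.f3]; exact Int.dvd_of_emod_eq_zero e
      rw [this, mul_one, mul_inv_cancel] at hf'q
      rw [hf'q, orderOf_one] at h3
      omega
    omega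
  rcases hj with e | e
  · left
    rw [hf'q, show f ^ j = f by
      rw [← zpow_one f, ← zpow_mul, one_mul, ← mul_inv_eq_one, ← zpow_sub, ← orderOf_dvd_iff_zpow_eq_one, h.f3]
      omega]
  · right
    rw [hf'q, show f ^ j = f⁻¹ by
      rw [← zpow_neg_one, ← mul_inv_eq_one, ← zpow_sub, ← orderOf_dvd_iff_zpow_eq_one, h.f3]
      omega]

theorem fix_inv : Fix M f⁻¹ = Fix M f := by
  ext r
  simp only [mem_fix]
  exact and_congr_right fun _ => ⟨fun e => ((show Commute r f⁻¹ from e).inv_right).eq |> (by simpa using ·),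
    fun e => ((show Commute r f from e).inv_right).eq⟩

theorem card_fix_conj {f' : G} (h3 : orderOf f' = 3)
    (hf : f⁻¹ * f' ∈ Cfsg.pCoreOf 2 M ∨ f * f' ∈ Cfsg.pCoreOf 2 M) :
    Nat.card (Fix M f') = Nat.card (Fix M f) := by
  obtain ⟨q, hq, k⟩ := h.conj_f h3 hf
  have key : ∀ g : G, Fix M (q * g * q⁻¹) = cmap q (Fix M g) := by
    intro g
    ext r
    rw [mem_cmap, mem_fix, mem_fix]
    constructor
    · rintro ⟨hr, e⟩
      refine ⟨by simpa using core_conj (inv_mem (core_le M hq)) hr, ?_⟩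
      calc q⁻¹ * r * q * g = q⁻¹ * (r * (q * g * q⁻¹)) * q := by group
        _ = q⁻¹ * (q * g * q⁻¹ * r) * q := by rw [e]
        _ = g * (q⁻¹ * r * q) := by group
    · rintro ⟨hr, e⟩
      refine ⟨by simpa [mul_assoc] using core_conj (core_le M hq) hr, ?_⟩
      calc r * (q * g * q⁻¹) = q * (q⁻¹ * r * q * g) * q⁻¹ := by group
        _ = q * (g * (q⁻¹ * r * q)) * q⁻¹ := by rw [e]
        _ = q * g * q⁻¹ * r := by group
  rcases k with rfl | rfl
  · rw [key, card_cmap]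
  · rw [key, card_cmap, h.fix_inv]

/-- An element outside the core centralizing half of it. -/
theorem four_of_fixed {y : G} (hy : y ∈ (S : Subgroup G) ⊓ M) (hyQ : y ∉ Cfsg.pCoreOf 2 M)
    {D : Subgroup G} (hD : D ≤ Cfsg.pCoreOf 2 M) (hc : ∀ d ∈ D, y * d = d * y)
    (hcard : Nat.card (Cfsg.pCoreOf 2 M) ≤ 2 * Nat.card D) :
    Nat.card (Cfsg.pCoreOf 2 M) = 4 * Nat.card (Fix M f) := by
  classical
  haveI : Fact (Nat.Prime 2) := ⟨Nat.prime_two⟩
  set Q := Cfsg.pCoreOf 2 M with hQ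
  set D' := cmap f D with hD'
  have hD'Q : D' ≤ Q := by rintro _ ⟨d, hd, rfl⟩; exact core_conj h.fM (hD hd)
  -- two halves meet in a quarter
  have hquarter : Nat.card Q ≤ 4 * Nat.card ↥(D ⊓ D') := by
    have h1 : (D'.subgroupOf Q).index ≤ 2 := by
      have e := (D'.subgroupOf Q).card_mul_index
      rw [Nat.card_congr (subgroupOfEquivOfLe hD'Q).toEquiv] at e
      have : Nat.card D' * (D'.subgroupOf Q).index ≤ Nat.card D' * 2 := by
        rw [e, hD', card_cmap, mul_comm _ 2]; exact hcard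
      exact Nat.le_of_mul_le_mul_left this Nat.card_pos
    have h2 : (D.subgroupOf Q).index ≤ 2 := by
      have e := (D.subgroupOf Q).card_mul_index
      rw [Nat.card_congr (subgroupOfEquivOfLe hD).toEquiv] at e
      have : Nat.card D * (D.subgroupOf Q).index ≤ Nat.card D * 2 := by
        rw [e, mul_comm _ 2]; exact hcard
      exact Nat.le_of_mul_le_mul_left this Nat.card_pos
    have h3 : (D.subgroupOf Q ⊓ D'.subgroupOf Q).index ≤ 4 :=
      index_inf_le.trans (Nat.mul_le_mul h2 h1)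
    have e := (D.subgroupOf Q ⊓ D'.subgroupOf Q).card_mul_index
    rw [show D.subgroupOf Q ⊓ D'.subgroupOf Q = (D ⊓ D').subgroupOf Q from rfl,
      Nat.card_congr (subgroupOfEquivOfLe (inf_le_left.trans hD : D ⊓ D' ≤ Q)).toEquiv] at e
    rw [← e, mul_comm 4]
    exact Nat.mul_le_mul_left _ h3
  -- an element of order three centralizing both
  set n := y * (f * y * f⁻¹) with hn
  have hnc : ∀ d ∈ D ⊓ D', n * d = d * n := by
    intro d hd
    have h1 : y * d = d * y := hc d hd.1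
    have h2 := hc _ (mem_cmap.1 hd.2)
    calc n * d = y * (f * (y * (f⁻¹ * d * f)) * f⁻¹) := by rw [hn]; group
      _ = y * (f * (f⁻¹ * d * f * y) * f⁻¹) := by rw [h2]
      _ = y * d * (f * y * f⁻¹) := by group
      _ = d * n := by rw [h1, hn]; group
  have hnf : f⁻¹ * n ∈ Q := by
    have hya : y * a⁻¹ ∈ Q := h.mulT hy h.aT hyQ h.aQ
    set p := y * a⁻¹ with hp
    have hy' : y = p * a := by rw [hp, inv_mul_cancel_right]
    have hu1 : a * f * a * f⁻¹ * f⁻¹ ∈ Q := by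
      rw [show a * f * a * f⁻¹ * f⁻¹ = (a * f * a⁻¹ * f) * (f⁻¹ * (a * a) * f⁻¹⁻¹) * (f⁻¹ * f⁻¹ * f⁻¹) by group,
        show f⁻¹ * f⁻¹ * f⁻¹ = (f * f * f)⁻¹ by group, h.f3', inv_one, mul_one]
      exact mul_mem h.inv (core_conj (inv_mem h.fM) h.a2)
    have e : f⁻¹ * n = (f⁻¹ * p * f) * (f⁻¹ * (a * f) * p * (a * f)⁻¹ * f) * (f⁻¹ * (a * f * a * f⁻¹ * f⁻¹) * f) := by
      rw [hn, hy']; group
    rw [e]
    refine mul_mem (mul_mem ?_ ?_) ?_
    · simpa using core_conj (inv_mem h.fM) hya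
    · rw [show f⁻¹ * (a * f) * p * (a * f)⁻¹ * f = f⁻¹ * ((a * f) * p * (a * f)⁻¹) * f⁻¹⁻¹ by group]
      exact core_conj (inv_mem h.fM) (core_conj (mul_mem h.aT.2 h.fM) hya)
    · simpa using core_conj (inv_mem h.fM) hu1
  have hnM : n ∈ M := mul_mem hy.2 (mul_mem (mul_mem h.fM hy.2) (inv_mem h.fM))
  have hn3 : n ^ 3 ∈ Q := by
    set w := f⁻¹ * n with hw
    have e : n ^ 3 = (f * w * f⁻¹) * (f * f * w * (f * f)⁻¹) * (f * f * f) * w := by
      rw [hw, pow_succ, pow_two]; group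
    rw [e, h.f3', mul_one]
    exact mul_mem (mul_mem (core_conj h.fM hnf) (core_conj (mul_mem h.fM h.fM) hnf)) hnf
  obtain ⟨i, hi⟩ := (core_isPGroup M) ⟨n ^ 3, hn3⟩
  have hi' : (n ^ 3) ^ 2 ^ i = 1 := congrArg Subtype.val hi
  set f' := n ^ 2 ^ i with hf'
  have hcoset : f⁻¹ * f' ∈ Q ∨ f * f' ∈ Q := by
    have key : ∀ k : ℕ, (f ^ k)⁻¹ * n ^ k ∈ Q := by
      intro k
      induction k with
      | zero => simp
      | succ k ih =>
        rw [show (f ^ (k + 1))⁻¹ * n ^ (k + 1) = f⁻¹ * ((f ^ k)⁻¹ * n ^ k) * f * (f⁻¹ * n) by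
          rw [pow_succ, pow_succ]; group]
        exact mul_mem (by simpa using core_conj (inv_mem h.fM) ih) hnf
    have h1 := key (2 ^ i)
    have hmod : 2 ^ i % 3 = 1 ∨ 2 ^ i % 3 = 2 := by
      have : ¬ 3 ∣ 2 ^ i := fun hd => by
        have := Nat.prime_three.dvd_of_dvd_pow hd
        omega
      omega
    have hfp : f ^ 2 ^ i = f ^ (2 ^ i % 3) := by rw [← h.f3, pow_mod_orderOf]
    rcases hmod with e | e <;> rw [hfp, e] at h1
    · exact Or.inl (by simpa using h1)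
    · refine Or.inr ?_
      rwa [pow_two, mul_inv_rev, h.f_inv, show f * f * (f * f) = f * f * f * f by group, h.f3', one_mul] at h1
  have hf'3 : orderOf f' = 3 := by
    haveI : Fact (Nat.Prime 3) := ⟨Nat.prime_three⟩
    refine orderOf_eq_prime (by rw [hf', ← pow_mul, mul_comm, pow_mul, hi']) fun e => ?_
    rw [e, mul_one, mul_one] at hcoset
    rcases hcoset with k | k
    · exact h.fQ (inv_inv f ▸ inv_mem k)
    · exact h.fQ k
  have hle : D ⊓ D' ≤ Fix M f' := fun d hd => mem_fix.2 ⟨hD hd.1,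
    ((show Commute n d from hnc d hd).pow_left (2 ^ i)).eq.symm⟩
  have h4 : Nat.card Q ≤ 4 * Nat.card (Fix M f) := by
    rw [← h.card_fix_conj hf'3 hcoset]
    exact hquarter.trans (Nat.mul_le_mul_left 4 (Nat.card_le_card_of_injective _ (Subgroup.inclusion_injective hle)))
  -- and not fewer
  obtain ⟨k, hk⟩ := IsPGroup.iff_card.1 (core_isPGroup M)
  obtain ⟨l, hlk, hl⟩ := (Nat.dvd_prime_pow Nat.prime_two).1
    (hk ▸ card_dvd_of_le (inf_le_left : Fix M f ≤ Cfsg.pCoreOf 2 M))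
  change Nat.card (Fix M f) = 2 ^ l at hl
  have hlt : l ≠ k := fun e => by
    have hFQ : Fix M f = Q := eq_of_le_of_card_ge inf_le_left (by rw [hk, hl, e])
    exact h.fQ (h.max.cent_vee h.fM fun v hv => (mem_fix.1 (hFQ ▸ vee_le M hv : v ∈ Fix M f)).2.symm)
  haveI : Fact (Nat.Prime 3) := ⟨Nat.prime_three⟩
  letI : MulAction (zpowers f) Q := MulAction.compHom Q
    ({ toFun := fun g => (MulEquiv.toEquiv (
          { toFun := fun q => ⟨(g : G) * q * (g : G)⁻¹, core_conj ((zpowers_le.2 h.fM) g.2) q.2⟩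
            invFun := fun q => ⟨(g : G)⁻¹ * q * (g : G), by
              simpa using core_conj (inv_mem ((zpowers_le.2 h.fM) g.2)) q.2⟩
            left_inv := fun q => Subtype.ext (by group)
            right_inv := fun q => Subtype.ext (by group)
            map_mul' := fun p q => Subtype.ext (by simp only [Subgroup.coe_mul]; group) } : MulAut Q) : Equiv.Perm Q)
       map_one' := Equiv.ext fun q => Subtype.ext (by simp)
       map_mul' := fun g g' => Equiv.ext fun q => Subtype.ext (by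
         show ((g : G) * g') * q * ((g : G) * g')⁻¹ = (g : G) * ((g' : G) * q * (g' : G)⁻¹) * (g : G)⁻¹
         group) } : zpowers f →* Equiv.Perm Q)
  have hp3 : IsPGroup 3 (zpowers f) := IsPGroup.of_card (n := 1) (by rw [Nat.card_zpowers, h.f3, pow_one])
  have hmod := hp3.card_modEq_card_fixedPoints Q
  have hfix : Nat.card (MulAction.fixedPoints (zpowers f) Q) = Nat.card (Fix M f) := by
    refine Nat.card_congr ⟨fun q => ⟨(q.1 : G), mem_fix.2 ⟨q.1.2, ?_⟩⟩, fun r => ⟨⟨r, r.2.1⟩, ?_⟩,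
      fun q => rfl, fun r => rfl⟩
    · have := congrArg Subtype.val (q.2 ⟨f, mem_zpowers f⟩)
      exact (mul_inv_eq_iff_eq_mul.1 this).symm
    · intro g
      obtain ⟨j, hj⟩ := mem_zpowers_iff.1 g.2
      refine Subtype.ext ?_
      show (g : G) * r * (g : G)⁻¹ = r
      rw [← hj, ((show Commute f r from (mem_fix.1 r.2).2.symm).zpow_left j).eq, mul_inv_cancel_right]
  rw [hfix, show Nat.card Q = 2 ^ k from hk, show Nat.card (Fix M f) = 2 ^ l from hl] at hmod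
  rw [show Nat.card Q = 2 ^ k from hk, show Nat.card (Fix M f) = 2 ^ l from hl] at h4 ⊢
  obtain ⟨j, rfl⟩ := Nat.exists_eq_add_of_le hlk
  rw [pow_add, mul_comm] at h4
  have hj : 2 ^ j ≤ 2 ^ 2 := Nat.le_of_mul_le_mul_right (by rw [show (2:ℕ) ^ 2 = 4 by norm_num]; exact h4) (Nat.two_pow_pos l)
  have hj2 := (Nat.pow_le_pow_iff_right (by norm_num : 1 < 2)).1 hj
  interval_cases j
  · exact absurd (by omega) hlt
  · exfalso
    have h5 : 2 ^ l % 3 = 1 ∨ 2 ^ l % 3 = 2 := by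
      have : ¬ 3 ∣ 2 ^ l := fun hd => by
        have := Nat.prime_three.dvd_of_dvd_pow hd
        omega
      omega
    rw [Nat.ModEq, pow_succ, Nat.mul_mod] at hmod
    rcases h5 with e | e <;> rw [e] at hmod <;> omega
  · rw [pow_add]; ring

/-- The index is four. -/
theorem card_core : Nat.card (Cfsg.pCoreOf 2 M) = 4 * Nat.card (Fix M f) := by
  classical
  haveI : Fact (Nat.Prime 2) := ⟨Nat.prime_two⟩
  set Q := Cfsg.pCoreOf 2 M with hQ
  rcases h.shape with hgen | ⟨hV, -⟩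
  swap
  · obtain ⟨C, hCV, hCc, hCcard⟩ := h.fixed
    exact h.four_of_fixed h.aT h.aQ (hCV.trans (vee_le M)) hCc (hV ▸ hCcard)
  set Z := Q ⊓ centralizer (Q : Set G) with hZ
  have hZc : ∀ {x}, x ∈ Z → ∀ q ∈ Q, q * x = x * q := fun hx q hq => mem_centralizer_iff.1 hx.2 q hq
  obtain ⟨s, hsS, hsM, hsT, hss⟩ := h.max.exists_s
  set Q₁ := cmap s Q with hQ₁
  have hQ₁T : Q₁ ≤ (S : Subgroup G) ⊓ M := by rintro _ ⟨q, hq, rfl⟩; exact hsT q (h.max.core_le_T hq)
  set I := Q ⊓ Q₁ with hI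
  have hIQ : Nat.card Q ≤ 2 * Nat.card I := by
    have := h.half hQ₁T
    rwa [hQ₁, card_cmap, inf_comm] at this
  by_cases hbr : ∃ y ∈ cmap s Z, y ∉ Q
  · obtain ⟨y, hy, hyQ⟩ := hbr
    refine h.four_of_fixed (hQ₁T (map_mono inf_le_left hy)) hyQ (inf_le_left : I ≤ Q) (fun d hd => ?_) hIQ
    obtain ⟨ζ, hζ, rfl⟩ := hy
    obtain ⟨q, hq, rfl⟩ := hd.2
    show s * ζ * s⁻¹ * (s * q * s⁻¹) = s * q * s⁻¹ * (s * ζ * s⁻¹)
    calc s * ζ * s⁻¹ * (s * q * s⁻¹) = s * (ζ * q) * s⁻¹ := by group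
      _ = s * (q * ζ) * s⁻¹ := by rw [hZc hζ q hq]
      _ = _ := by group
  push Not at hbr
  exfalso
  have hzQ₁ : z ∈ Q₁ := mem_cmap.2 (by
    have : s⁻¹ * z * s = z := by rw [mul_assoc, ← h.max.hyp.zc s hsS, inv_mul_cancel_left]
    rw [this]; exact h.max.z_mem)
  have hsZ : ∀ ζ ∈ Z, s * ζ * s⁻¹ ∈ Q := fun ζ hζ => hbr _ (conj_mem_cmap hζ)
  have hsI : ∀ x ∈ I, s * x * s⁻¹ ∈ I := by
    rintro x ⟨hx, hx1⟩
    refine ⟨?_, conj_mem_cmap hx⟩
    obtain ⟨q, hq, rfl⟩ := hx1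
    show s * (s * q * s⁻¹) * s⁻¹ ∈ Q
    rw [show s * (s * q * s⁻¹) * s⁻¹ = (s * s) * q * (s * s)⁻¹ by group]
    exact core_conj hss.2 hq
  have hTI : ∀ t ∈ (S : Subgroup G) ⊓ M, ∀ x ∈ I, t * x * t⁻¹ ∈ I := by
    rintro t ht x ⟨hx, hx1⟩
    refine ⟨core_conj ht.2 hx, mem_cmap.2 ?_⟩
    rw [show s⁻¹ * (t * x * t⁻¹) * s = (s⁻¹ * t * s) * (s⁻¹ * x * s) * (s⁻¹ * t * s)⁻¹ by group]
    refine core_conj ?_ (mem_cmap.1 hx1)
    have h1 := hsT _ ht
    have h2 : s⁻¹ * t * s = (s * s)⁻¹ * (s * t * s⁻¹) * (s * s) := by group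
    rw [h2]
    exact mul_mem (mul_mem (inv_mem hss.2) h1.2) hss.2
  have hfI : ¬ ∀ x ∈ I, f * x * f⁻¹ ∈ I := fun hf => hsM (h.max.no_move inf_le_left ⟨h.max.z_mem, hzQ₁⟩
    (fun m hm x hx => by
      obtain ⟨t, ht, e⟩ := hgen m hm
      rcases e with rfl | rfl | rfl
      · exact hTI _ ht x hx
      · rw [show f * t * x * (f * t)⁻¹ = f * (t * x * t⁻¹) * f⁻¹ by group]; exact hf _ (hTI _ ht x hx)
      · rw [show f * f * t * x * (f * f * t)⁻¹ = f * (f * (t * x * t⁻¹) * f⁻¹) * f⁻¹ by group]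
        exact hf _ (hf _ (hTI _ ht x hx))) hsI)
  obtain ⟨ζ₀, hζ₀, hv⟩ : ∃ ζ ∈ Z, s * ζ * s⁻¹ ∉ Z := by
    by_contra hne
    push Not at hne
    refine hsM (h.max.no_move inf_le_left ⟨h.max.z_mem, mem_centralizer_iff.2 fun q hq => h.max.zQ hq⟩
      (fun m hm x hx => ⟨core_conj hm hx.1, mem_centralizer_iff.2 fun q hq => ?_⟩) hne)
    have := hZc hx (m⁻¹ * q * m) (by simpa using core_conj (inv_mem hm) hq)
    calc q * (m * x * m⁻¹) = m * (m⁻¹ * q * m * x) * m⁻¹ := by group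
      _ = m * (x * (m⁻¹ * q * m)) * m⁻¹ := by rw [this]
      _ = _ := by group
  set v := s * ζ₀ * s⁻¹ with hvd
  have hvQ : v ∈ Q := hsZ _ hζ₀
  have hcomm₁ : ∀ x ∈ Q₁, ∀ ζ ∈ cmap s Z, ζ * x = x * ζ := by
    rintro _ ⟨q, hq, rfl⟩ _ ⟨w, hw, rfl⟩
    show s * w * s⁻¹ * (s * q * s⁻¹) = s * q * s⁻¹ * (s * w * s⁻¹)
    calc s * w * s⁻¹ * (s * q * s⁻¹) = s * (w * q) * s⁻¹ := by group
      _ = s * (q * w) * s⁻¹ := by rw [hZc hw q hq]
      _ = _ := by group
  have hvI : v ∈ I := ⟨hvQ, conj_mem_cmap hζ₀.1⟩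
  -- the centralizer of `v` in the core
  set Cv := Q ⊓ centralizer ({v} : Set G) with hCv
  have hCvlt : Cv < Q := lt_of_le_of_ne inf_le_left fun e => hv ⟨hvQ, mem_centralizer_iff.2 fun q hq =>
    mem_centralizer_singleton_iff.1 ((e.symm ▸ hq : q ∈ Cv).2)⟩
  have hCvI : I = Cv := eq_of_le_of_card_ge
    (le_inf inf_le_left fun x hx => mem_centralizer_singleton_iff.2 (hcomm₁ x hx.2 v (conj_mem_cmap hζ₀)).symm)
    (by have := two_mul_le_of_lt hCvlt; omega)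
  have hIlt : I < Q := by rw [hCvI]; exact hCvlt
  have hIout : ∀ p ∈ Q, ∀ q ∈ Q, p ∉ I → q ∉ I → p * q⁻¹ ∈ I := by
    intro p hp q hq hpI hqI
    haveI : Fact (Nat.Prime 2) := ⟨Nat.prime_two⟩
    have hidx : (I.subgroupOf Q).index = 2 := by
      have e := (I.subgroupOf Q).card_mul_index
      rw [Nat.card_congr (subgroupOfEquivOfLe (inf_le_left : I ≤ Q)).toEquiv] at e
      have h1 := two_mul_le_of_lt hIlt
      have e2 : Nat.card Q = Nat.card I * 2 := by omega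
      exact Nat.eq_of_mul_eq_mul_left (Nat.card_pos (α := I)) (e.trans e2)
    exact (mul_mem_iff_of_index_two hidx (a := (⟨p, hp⟩ : Q)) (b := (⟨q, hq⟩ : Q)⁻¹)).2
      ⟨fun k => absurd k hpI, fun k => absurd (inv_mem_iff.1 k : (⟨q, hq⟩ : Q) ∈ I.subgroupOf Q) hqI⟩
  set v₁ := f * v * f⁻¹ with hv₁
  have hv₁Q : v₁ ∈ Q := core_conj h.fM hvQ
  set v₂ := f * v₁ * f⁻¹ with hv₂
  have hv₂Q : v₂ ∈ Q := core_conj h.fM hv₁Q
  have hv₂v : f * v₂ * f⁻¹ = v := by
    rw [hv₂, hv₁, show f * (f * (f * v * f⁻¹) * f⁻¹) * f⁻¹ = (f * f * f) * v * (f * f * f)⁻¹ by group, h.f3']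
    group
  -- two elements with equal centralizers would make `I` invariant
  have hvch : ∀ x ∈ Q, x * v = v * x ↔ x ∈ I := fun x hx => by
    rw [hCvI]; exact ⟨fun e => ⟨hx, mem_centralizer_singleton_iff.2 e⟩, fun e => mem_centralizer_singleton_iff.1 e.2⟩
  have hsame : (∀ x ∈ Q, x * v = v * x → x * v₁ = v₁ * x) → False := by
    intro hcm'
    have hdown : ∀ x ∈ I, f⁻¹ * x * f ∈ I := by
      intro x hx
      have h1 := hcm' x hx.1 ((hvch x hx.1).2 hx)
      refine (hvch _ (by simpa using core_conj (inv_mem h.fM) hx.1)).1 ?_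
      calc f⁻¹ * x * f * v = f⁻¹ * (x * v₁) * f := by rw [hv₁]; group
        _ = f⁻¹ * (v₁ * x) * f := by rw [h1]
        _ = _ := by rw [hv₁]; group
    refine hfI fun x hx => ?_
    have h2 := hdown _ (hdown x hx)
    rwa [show f⁻¹ * (f⁻¹ * x * f) * f = (f * f * f)⁻¹ * (f * x * f⁻¹) * (f * f * f) by group, h.f3', inv_one,
      one_mul, mul_one] at h2
  have hVZ : Vee M ≤ Z := fun x hx => ⟨hx.1, mem_centralizer_iff.2 fun q hq => hx.2.2 q hq⟩
  have hZf : ∀ {g}, g ∈ M → ∀ w ∈ Z, g * w * g⁻¹ ∈ Z := by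
    intro g hg w hw
    refine ⟨core_conj hg hw.1, mem_centralizer_iff.2 fun q hq => ?_⟩
    have := hZc hw (g⁻¹ * q * g) (by simpa using core_conj (inv_mem hg) hq)
    calc q * (g * w * g⁻¹) = g * (g⁻¹ * q * g * w) * g⁻¹ := by group
      _ = g * (w * (g⁻¹ * q * g)) * g⁻¹ := by rw [this]
      _ = _ := by group
  have hQ32 : Nat.card Q ≤ 32 := by
    have h1 := h.max.card_T_le
    have hlt : Q < (S : Subgroup G) ⊓ M := lt_of_le_of_ne h.max.core_le_T fun e =>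
      h.aQ (show a ∈ Q by rw [e]; exact h.aT)
    have := two_mul_le_of_lt hlt
    omega
  have hzz : z ≠ f * z * f⁻¹ := fun e => h.z_moved e.symm
  have hV4 : 4 ≤ Nat.card (Vee M) := by
    obtain ⟨n, hn⟩ := IsPGroup.iff_card.1 (vee_el M).isPGroup
    have hsub : ({1, z, f * z * f⁻¹} : Set G) ⊆ Vee M := by
      rintro x (rfl | rfl | rfl)
      exacts [one_mem _, h.max.z_vee, vee_conj h.fM h.max.z_vee]
    have h3 : ({1, z, f * z * f⁻¹} : Set G).ncard = 3 := Set.ncard_eq_three.2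
      ⟨1, z, _, h.max.hyp.z1.symm, fun e => h.max.hyp.z1 (conj_eq_one_iff.1 e.symm), hzz, rfl⟩
    have h4 := Set.ncard_le_ncard hsub (Set.toFinite _)
    rw [h3, ← Nat.card_coe_set_eq] at h4
    have h4' : 3 ≤ 2 ^ n := hn ▸ h4
    rw [hn]
    rcases Nat.lt_or_ge n 2 with hn2 | hn2
    · interval_cases n <;> omega
    · exact (Nat.pow_le_pow_right two_pos hn2).trans' (by norm_num)
  have e20 : v₂ * v = v * v₂ → v₁ * v = v * v₁ := by
    intro e
    have h1 : (f * v₂ * f⁻¹) * (f * v * f⁻¹) = (f * v * f⁻¹) * (f * v₂ * f⁻¹) := by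
      rw [show (f * v₂ * f⁻¹) * (f * v * f⁻¹) = f * (v₂ * v) * f⁻¹ by group, e]; group
    rw [hv₂v, ← hv₁] at h1
    exact h1.symm
  by_cases hcm : v₁ ∈ I
  · -- the conjugates commute: they generate `I`
    set A := Z ⊔ zpowers v with hA
    set A₃ := A ⊔ (zpowers v₁ ⊔ zpowers v₂) with hA₃
    have e01 : v₁ * v = v * v₁ := (hvch v₁ hv₁Q).2 hcm
    have e12 : v₂ * v₁ = v₁ * v₂ := by
      rw [hv₂]; conv_lhs => rw [hv₁]
      conv_rhs => rw [hv₁]
      rw [show f * (f * v * f⁻¹) * f⁻¹ * (f * v * f⁻¹) = f * ((f * v * f⁻¹) * v) * f⁻¹ by group,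
        ← hv₁, e01, hv₁]
      group
    have e02 : v₂ * v = v * v₂ := by
      have h1 : (f * v₂ * f⁻¹) * (f * v₁ * f⁻¹) = (f * v₁ * f⁻¹) * (f * v₂ * f⁻¹) := by
        rw [show (f * v₂ * f⁻¹) * (f * v₁ * f⁻¹) = f * (v₂ * v₁) * f⁻¹ by group, e12]; group
      rw [hv₂v, ← hv₂] at h1
      exact h1.symm
    have hA₃I : A₃ ≤ I := by
      refine sup_le (sup_le (fun x hx => (hvch x hx.1).1 (hZc hx v hvQ).symm) (zpowers_le.2 hvI))
        (sup_le (zpowers_le.2 hcm) (zpowers_le.2 ((hvch v₂ hv₂Q).1 e02)))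
    have h1 : Z < A := lt_of_le_of_ne le_sup_left fun e => hv (e.symm ▸ mem_sup_right (mem_zpowers v))
    have h2 : A < A₃ := lt_of_le_of_ne le_sup_left fun e => hsame fun x hx ex => by
      have hv₁A : v₁ ∈ A := e.symm ▸ mem_sup_right (mem_sup_left (mem_zpowers v₁))
      have : A ≤ centralizer ({x} : Set G) := sup_le
        (fun w hw => mem_centralizer_singleton_iff.2 (hZc hw x hx).symm)
        (zpowers_le.2 (mem_centralizer_singleton_iff.2 ex.symm))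
      exact (mem_centralizer_singleton_iff.1 (this hv₁A)).symm
    have hA₃eq : A₃ = I := eq_of_le_of_card_ge hA₃I (by
      have h3 := two_mul_le_of_lt h1
      have h4 := two_mul_le_of_lt h2
      have h5 := Nat.card_le_card_of_injective _ (Subgroup.inclusion_injective hVZ)
      have h6 := two_mul_le_of_lt hIlt
      omega)
    refine hfI fun x hx => ?_
    have hle : A₃ ≤ A₃.comap (MulAut.conj f).toMonoidHom := by
      refine sup_le (sup_le (fun w hw => ?_) (zpowers_le.2 ?_)) (sup_le (zpowers_le.2 ?_) (zpowers_le.2 ?_))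
      · exact mem_sup_left (mem_sup_left (hZf h.fM w hw))
      · exact mem_sup_right (mem_sup_left (hv₁ ▸ mem_zpowers v₁ : f * v * f⁻¹ ∈ zpowers v₁))
      · exact mem_sup_right (mem_sup_right (hv₂ ▸ mem_zpowers v₂ : f * v₁ * f⁻¹ ∈ zpowers v₂))
      · show f * v₂ * f⁻¹ ∈ A₃
        rw [hv₂v]; exact mem_sup_left (mem_sup_right (mem_zpowers v))
    rw [← hA₃eq] at hx ⊢
    exact hle hx
  -- a common commutator, fixed by `f`
  set c := v * v₁ * v⁻¹ * v₁⁻¹ with hcd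
  have hW : ∀ g ∈ (S : Subgroup G) ⊓ M, ∀ y ∈ cmap s Z, g * y * g⁻¹ ∈ cmap s Z := by
    intro g hg y hy
    refine mem_cmap.2 ?_
    rw [show s⁻¹ * (g * y * g⁻¹) * s = (s⁻¹ * g * s) * (s⁻¹ * y * s) * (s⁻¹ * g * s)⁻¹ by group]
    refine hZf ?_ _ (mem_cmap.1 hy)
    have h1 := hsT _ hg
    rw [show s⁻¹ * g * s = (s * s)⁻¹ * (s * g * s⁻¹) * (s * s) by group]
    exact mul_mem (mul_mem (inv_mem hss.2) h1.2) hss.2
  have hvW : v ∈ cmap s Z := conj_mem_cmap hζ₀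
  have hcW : c ∈ cmap s Z := by
    have := mul_mem hvW (hW v₁ (h.max.core_le_T hv₁Q) _ (inv_mem hvW))
    rwa [show v * (v₁ * v⁻¹ * v₁⁻¹) = c by rw [hcd]; group] at this
  have hcI : ∀ i ∈ I, c * i = i * c := fun i hi => hcomm₁ i hi.2 c hcW
  have hcv₁ : c * v₁ = v₁ * c := by
    have hy : f⁻¹ * c * f ∈ cmap s Z := by
      have hw : f⁻¹ * v * f ∈ Q := by simpa using core_conj (inv_mem h.fM) hvQ
      have := mul_mem (hW _ (h.max.core_le_T hw) _ hvW) (inv_mem hvW)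
      rwa [show f⁻¹ * v * f * v * (f⁻¹ * v * f)⁻¹ * v⁻¹ = f⁻¹ * c * f by rw [hcd, hv₁]; group] at this
    have h1 := hcomm₁ v hvI.2 _ hy
    calc c * v₁ = f * ((f⁻¹ * c * f) * v) * f⁻¹ := by rw [hv₁]; group
      _ = f * (v * (f⁻¹ * c * f)) * f⁻¹ := by rw [h1]
      _ = _ := by rw [hv₁]; group
  have hcc : ∀ p ∈ Q, p * c = c * p := by
    intro p hp
    by_cases hpI : p ∈ I
    · exact (hcI p hpI).symm
    obtain ⟨i, hi, rfl⟩ : ∃ i ∈ I, p = i * v₁ := ⟨p * v₁⁻¹, hIout p hp v₁ hv₁Q hpI hcm, by group⟩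
    rw [mul_assoc, ← hcv₁, ← mul_assoc, ← hcI i hi, mul_assoc]
  have hval : ∀ q ∈ Q, q ∉ I → v * q * v⁻¹ * q⁻¹ = c := by
    intro q hq hqI
    obtain ⟨i, hi, rfl⟩ : ∃ i ∈ I, q = i * v₁ := ⟨q * v₁⁻¹, hIout q hq v₁ hv₁Q hqI hcm, by group⟩
    have h3 := (hvch i hi.1).2 hi
    calc v * (i * v₁) * v⁻¹ * (i * v₁)⁻¹ = (v * i) * v₁ * v⁻¹ * v₁⁻¹ * i⁻¹ := by group
      _ = i * c * i⁻¹ := by rw [← h3, hcd]; group
      _ = c := by rw [← hcI i hi, mul_inv_cancel_right]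
  have hcQ : c ∈ Q := mul_mem (mul_mem (mul_mem hvQ hv₁Q) (inv_mem hvQ)) (inv_mem hv₁Q)
  have hcsq : c * c = 1 := by
    have hmem : v₁ * v₁ ∈ I := by
      have := hIout v₁ hv₁Q v₁⁻¹ (inv_mem hv₁Q) hcm (fun e => hcm (inv_inv v₁ ▸ inv_mem e))
      rwa [inv_inv] at this
    have h3 := (hvch _ hmem.1).2 hmem
    have e : v * v₁ * v⁻¹ = c * v₁ := by rw [hcd]; group
    calc c * c = (c * v₁) * (c * v₁) * (v₁ * v₁)⁻¹ := by
          rw [show c * v₁ * (c * v₁) = c * (v₁ * c) * v₁ by group, ← hcv₁]; group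
      _ = v * (v₁ * v₁) * v⁻¹ * (v₁ * v₁)⁻¹ := by rw [← e]; group
      _ = 1 := by rw [← h3]; group
  have hv₂ni : ¬ v₂ * v = v * v₂ := fun e => hcm ((hvch v₁ hv₁Q).1 (e20 e))
  have hcf : f * c * f⁻¹ = c := by
    have h1 : v * v₂ * v⁻¹ * v₂⁻¹ = c := hval v₂ hv₂Q fun k => hv₂ni ((hvch v₂ hv₂Q).2 k)
    calc f * c * f⁻¹ = f * (v * v₂ * v⁻¹ * v₂⁻¹) * f⁻¹ := by rw [h1]
      _ = (f * v * f⁻¹) * (f * v₂ * f⁻¹) * (f * v * f⁻¹)⁻¹ * (f * v₂ * f⁻¹)⁻¹ := by group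
      _ = v₁ * v * v₁⁻¹ * v⁻¹ := by rw [hv₂v]
      _ = c⁻¹ := by rw [hcd]; group
      _ = c := inv_eq_of_mul_eq_one_right hcsq
  have hcV : c ∈ Vee M := ⟨hcQ, hcsq, hcc⟩
  have hc1 : c ≠ 1 := fun e => hcm ((hvch v₁ hv₁Q).1 (by
    calc v₁ * v = 1 * v₁ * v := by rw [one_mul]
      _ = v * v₁ := by rw [← e, hcd]; group))
  have hV8 : 8 ≤ Nat.card (Vee M) := by
    obtain ⟨n, hn⟩ := IsPGroup.iff_card.1 (vee_el M).isPGroup
    set w := f * z * f⁻¹ with hw
    set w' := f * w * f⁻¹ with hw'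
    have hsub : ({1, c, z, w, w'} : Set G) ⊆ Vee M := by
      rintro x (rfl | rfl | rfl | rfl | rfl)
      exacts [one_mem _, hcV, h.max.z_vee, vee_conj h.fM h.max.z_vee, vee_conj h.fM (vee_conj h.fM h.max.z_vee)]
    have hfz : ∀ g : G, g ∈ ({z, w, w'} : Set G) → f * g * f⁻¹ ≠ g := by
      intro g hg e
      rcases hg with rfl | rfl | rfl
      · exact h.z_moved e
      · exact h.z_moved ((MulAut.conj f).injective e)
      · exact h.z_moved ((MulAut.conj f).injective ((MulAut.conj f).injective e))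
    have h3z : f * w' * f⁻¹ = z := by
      rw [hw', hw, show f * (f * (f * z * f⁻¹) * f⁻¹) * f⁻¹ = (f * f * f) * z * (f * f * f)⁻¹ by group, h.f3']
      group
    have h3 : 5 ≤ ({1, c, z, w, w'} : Set G).ncard := by
      have n1 : ∀ g ∈ ({z, w, w'} : Set G), g ≠ 1 ∧ g ≠ c := fun g hg =>
        ⟨fun e => hfz g hg (by rw [e]; group), fun e => hfz g hg (by rw [e, hcf])⟩
      have hzw : z ≠ w := hzz
      have hww : w ≠ w' := fun e => hfz w (by simp) e.symm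
      have hzw' : z ≠ w' := fun e => hfz w' (by simp) (by rw [h3z, e])
      rw [Set.ncard_insert_of_notMem (by simp [hc1.symm, (n1 z (by simp)).1.symm, (n1 w (by simp)).1.symm,
          (n1 w' (by simp)).1.symm]),
        Set.ncard_insert_of_notMem (by simp [(n1 z (by simp)).2.symm, (n1 w (by simp)).2.symm,
          (n1 w' (by simp)).2.symm]),
        Set.ncard_insert_of_notMem (by simp [hzw, hzw']), Set.ncard_pair hww]
    have h4 := h3.trans (Set.ncard_le_ncard hsub (Set.toFinite _))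
    rw [← Nat.card_coe_set_eq] at h4
    have h4' : 5 ≤ 2 ^ n := hn ▸ h4
    rw [hn]
    rcases Nat.lt_or_ge n 3 with hn2 | hn2
    · interval_cases n <;> omega
    · exact (Nat.pow_le_pow_right two_pos hn2).trans' (by norm_num)
  set A := Z ⊔ zpowers v with hA
  have hAI : A ≤ I := sup_le (fun w hw => (hvch w hw.1).1 (hZc hw v hvQ).symm) (zpowers_le.2 hvI)
  have h1 : Z < A := lt_of_le_of_ne le_sup_left fun e => hv (e.symm ▸ mem_sup_right (mem_zpowers v))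
  have hAQ : A < Q := lt_of_le_of_lt hAI hIlt
  have hc2 := two_mul_le_of_lt hAQ
  have hc3 := two_mul_le_of_lt h1
  have hc4 := Nat.card_le_card_of_injective _ (Subgroup.inclusion_injective hVZ)
  have hZV : Vee M = Z := eq_of_le_of_card_ge hVZ (by omega)
  have hsq : ∀ ζ ∈ Z, ζ * ζ = 1 := fun ζ hζ => (hZV.symm ▸ hζ : ζ ∈ Vee M).2.1
  have hv2 : v * v = 1 := by rw [hvd]; exact sq_conj (hsq _ hζ₀)
  have hidx : (A.subgroupOf Q).index = 2 := by
    have e := (A.subgroupOf Q).card_mul_index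
    rw [Nat.card_congr (subgroupOfEquivOfLe hAQ.le).toEquiv] at e
    have e2 : Nat.card Q = Nat.card A * 2 := by omega
    exact Nat.eq_of_mul_eq_mul_left (Nat.card_pos (α := A)) (e.trans e2)
  have hAform : ∀ w ∈ A, ∃ ζ ∈ Z, w = ζ ∨ w = v * ζ := by
    let P : Subgroup G :=
      { carrier := {w | ∃ ζ ∈ Z, w = ζ ∨ w = v * ζ}
        one_mem' := ⟨1, one_mem _, Or.inl rfl⟩
        mul_mem' := by
          rintro _ _ ⟨p, hp, e1 | e1⟩ ⟨q, hq, e2 | e2⟩ <;> rw [e1, e2]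
          · exact ⟨p * q, mul_mem hp hq, Or.inl rfl⟩
          · exact ⟨p * q, mul_mem hp hq, Or.inr (by rw [← mul_assoc, ← hZc hp v hvQ, mul_assoc])⟩
          · exact ⟨p * q, mul_mem hp hq, Or.inr (by rw [mul_assoc])⟩
          · exact ⟨p * q, mul_mem hp hq, Or.inl (by
              rw [show v * p * (v * q) = v * (p * v) * q by group, ← hZc hp v hvQ, ← mul_assoc v, hv2, one_mul])⟩
        inv_mem' := by
          rintro _ ⟨p, hp, e1 | e1⟩ <;> rw [e1]
          · exact ⟨p⁻¹, inv_mem hp, Or.inl rfl⟩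
          · refine ⟨p⁻¹, inv_mem hp, Or.inr ?_⟩
            rw [mul_inv_rev, inv_eq_of_mul_eq_one_right hv2]
            exact (hZc (inv_mem hp) v hvQ).symm }
    have : A ≤ P := sup_le (fun w hw => ⟨w, hw, Or.inl rfl⟩)
      (zpowers_le.2 ⟨1, one_mem _, Or.inr (mul_one v).symm⟩)
    exact this
  have hv₁A : v₁ ∉ A := fun k => hcm (hAI k)
  have hv₂A : v₂ ∉ A := fun k => hv₂ni ((hvch v₂ hv₂Q).2 (hAI k))
  have hprod : v₂ * v₁⁻¹ ∈ A := (mul_mem_iff_of_index_two hidx (a := (⟨v₂, hv₂Q⟩ : Q)) (b := (⟨v₁, hv₁Q⟩ : Q)⁻¹)).2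
    ⟨fun k => absurd k hv₂A, fun k => absurd (inv_mem_iff.1 k : (⟨v₁, hv₁Q⟩ : Q) ∈ A.subgroupOf Q) hv₁A⟩
  obtain ⟨ζ, hζ, e | e⟩ := hAform _ hprod
  · -- then the centralizers of `v₁` and its conjugate agree
    have e' : v₂ = ζ * v₁ := by rw [← e, inv_mul_cancel_right]
    refine hsame fun x hx ex => ?_
    have e'' : v₁ = (f⁻¹ * ζ * f) * v := by
      calc v₁ = f⁻¹ * v₂ * f := by rw [hv₂]; group
        _ = f⁻¹ * (ζ * v₁) * f := by rw [e']
        _ = _ := by rw [hv₁]; group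
    have hζ' : f⁻¹ * ζ * f ∈ Z := by simpa using hZf (inv_mem h.fM) ζ hζ
    rw [e'', ← mul_assoc, hZc hζ' x hx, mul_assoc, ex]
    simp only [mul_assoc]
  · have e' : v₂ = v * ζ * v₁ := by rw [← e, inv_mul_cancel_right]
    have hv12 : v₁ * v₁ = 1 := sq_conj hv2
    have hv22 : v₂ * v₂ = 1 := sq_conj hv12
    refine hc1 ?_
    calc c = v * v₁ * (v * v₁) := by
          rw [hcd, inv_eq_of_mul_eq_one_right hv2, inv_eq_of_mul_eq_one_right hv12]; group
      _ = v * ζ * v₁ * (v * ζ * v₁) := by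
          rw [show v * ζ * v₁ * (v * ζ * v₁) = v * (ζ * v₁) * (v * ζ) * v₁ by group, ← hZc hζ v₁ hv₁Q,
            hZc hζ v hvQ, show v * (v₁ * ζ) * (ζ * v) * v₁ = v * v₁ * (ζ * ζ) * v * v₁ by group, hsq ζ hζ]
          group
      _ = 1 := by rw [← e', hv22]

end Pre

end Cfsg.Agent.ChainEight
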