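import Mathlib
import Cfsg.Agent.Lib.ChainEight.Index

/-!
The local subgroup has the shape `S₄ × R`: the core is a four group times the fixed points.
-/

set_option autoImplicit false
set_option linter.all false

namespace Cfsg.Agent.ChainEight

open Subgroup
open scoped Pointwise

universe u

variable {G : Type u} [Group G] [Finite G]

/-- A four group with named elements. -/
def fourOf (w₀ w₁ : G) : Set G := {1, w₀, w₁, w₁ * w₀}

/-- The shape. -/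
structure Shape (S : Sylow 2 G) (z : G) (M : Subgroup G) (f b w₀ w₁ : G) : Prop where
  max : MaxLoc S z M
  bT : b ∈ (S : Subgroup G) ⊓ M
  bQ : b ∉ Cfsg.pCoreOf 2 M
  b2 : b * b = 1
  idxT : ∀ t ∈ (S : Subgroup G) ⊓ M, t ∈ Cfsg.pCoreOf 2 M ∨ t * b ∈ Cfsg.pCoreOf 2 M
  fM : f ∈ M
  f3 : orderOf f = 3
  w0V : w₀ ∈ Vee M
  w1V : w₁ ∈ Vee M
  w0ne : w₀ ≠ 1
  w1ne : w₁ ≠ 1
  w01 : w₀ ≠ w₁
  bw0 : b * w₀ = w₀ * b
  bw1 : b * w₁ * b = w₁ * w₀
  bR : ∀ r ∈ Fix M f, b * r = r * b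
  inFix : ∀ w ∈ fourOf w₀ w₁, w ∈ Fix M f → w = 1
  form : ∀ q ∈ Cfsg.pCoreOf 2 M, ∃ w ∈ fourOf w₀ w₁, ∃ r ∈ Fix M f, q = w * r
  fw : ∀ w ∈ fourOf w₀ w₁, f * w * f⁻¹ ∈ fourOf w₀ w₁
  fixT : ∀ t ∈ (S : Subgroup G) ⊓ M, ∀ r ∈ Fix M f, t * r * t⁻¹ ∈ Fix M f
  core4 : Nat.card (Cfsg.pCoreOf 2 M) = 4 * Nat.card (Fix M f)
  gen : (∀ m ∈ M, ∃ t ∈ (S : Subgroup G) ⊓ M, m = t ∨ m = f * t ∨ m = f * f * t) ∨
    ((∀ q ∈ Cfsg.pCoreOf 2 M, q * q = 1) ∧ Nat.card (Cfsg.pCoreOf 2 M) = 16)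

/-- The commutators of `f` on the central involutions. -/
def Wsub {S : Sylow 2 G} {z : G} {M : Subgroup G} {a f : G} (h : Pre S z M a f) : Subgroup G where
  carrier := {w | ∃ u ∈ Vee M, w = u⁻¹ * (f * u * f⁻¹)}
  one_mem' := ⟨1, one_mem _, by group⟩
  mul_mem' := by
    rintro _ _ ⟨u, hu, rfl⟩ ⟨v, hv, rfl⟩
    refine ⟨u * v, mul_mem hu hv, ?_⟩
    have e1 : Commute (f * u * f⁻¹) v⁻¹ := (vee_el M).2 _ (vee_conj h.fM hu) _ (inv_mem hv)
    have e2 : Commute u⁻¹ v⁻¹ := (vee_el M).2 _ (inv_mem hu) _ (inv_mem hv)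
    calc u⁻¹ * (f * u * f⁻¹) * (v⁻¹ * (f * v * f⁻¹)) = u⁻¹ * ((f * u * f⁻¹) * v⁻¹) * (f * v * f⁻¹) := by group
      _ = (u⁻¹ * v⁻¹) * (f * u * f⁻¹) * (f * v * f⁻¹) := by rw [e1.eq]; group
      _ = (u * v)⁻¹ * (f * (u * v) * f⁻¹) := by rw [e2.eq]; group
  inv_mem' := by
    rintro _ ⟨u, hu, rfl⟩
    refine ⟨u⁻¹, inv_mem hu, ?_⟩
    have e : Commute (f * u⁻¹ * f⁻¹) u := (vee_el M).2 _ (vee_conj h.fM (inv_mem hu)) _ hu
    rw [inv_inv, ← e.eq]
    group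

namespace Pre

variable {S : Sylow 2 G} {z : G} {M : Subgroup G} {a f : G} (h : Pre S z M a f)
include h

theorem w_vee {w : G} (hw : w ∈ Wsub h) : w ∈ Vee M := by
  obtain ⟨u, hu, rfl⟩ := hw
  exact mul_mem (inv_mem hu) (vee_conj h.fM hu)

theorem w_f {w : G} (hw : w ∈ Wsub h) : f * w * f⁻¹ ∈ Wsub h := by
  obtain ⟨u, hu, rfl⟩ := hw
  exact ⟨f * u * f⁻¹, vee_conj h.fM hu, by group⟩

theorem w_fix {w : G} (hw : w ∈ Wsub h) (hf : w ∈ Fix M f) : w = 1 := by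
  obtain ⟨u, hu, e⟩ := hw
  have hwf : f * w * f⁻¹ = w := mul_inv_eq_iff_eq_mul.2 (mem_fix.1 hf).2.symm
  have e1 : f * u * f⁻¹ = u * w := by rw [e]; group
  have e2 : f * f * u * (f * f)⁻¹ = u * w * w := by
    rw [show f * f * u * (f * f)⁻¹ = f * (f * u * f⁻¹) * f⁻¹ by group, e1,
      show f * (u * w) * f⁻¹ = (f * u * f⁻¹) * (f * w * f⁻¹) by group, e1, hwf]
  have e3 : u = u * w * w * w := by
    calc u = (f * f * f) * u * (f * f * f)⁻¹ := by rw [h.f3']; group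
      _ = f * (f * f * u * (f * f)⁻¹) * f⁻¹ := by group
      _ = f * (u * w * w) * f⁻¹ := by rw [e2]
      _ = (f * u * f⁻¹) * (f * w * f⁻¹) * (f * w * f⁻¹) := by group
      _ = u * w * w * w := by rw [e1, hwf]
  have hw2 : w * w = 1 := (mul_mem (inv_mem hu) (vee_conj h.fM hu) |> fun k => e ▸ k : w ∈ Vee M).2.1
  rw [mul_assoc u w w, hw2, mul_one] at e3
  exact left_eq_mul.1 e3

theorem w_central {q w : G} (hq : q ∈ Cfsg.pCoreOf 2 M) (hw : w ∈ Wsub h) : q * w = w * q :=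
  (h.w_vee hw).2.2 q hq

theorem conj_core {w q : G} (hw : w ∈ Wsub h) (hq : q ∈ Cfsg.pCoreOf 2 M) : q * w * q⁻¹ = w := by
  rw [h.w_central hq hw, mul_inv_cancel_right]

theorem w_card : Nat.card (Wsub h) = 4 := by
  classical
  haveI : Fact (Nat.Prime 2) := ⟨Nat.prime_two⟩
  have hWQ : Wsub h ≤ Cfsg.pCoreOf 2 M := fun w hw => (h.w_vee hw).1
  have hle : Nat.card (Wsub h) * Nat.card (Fix M f) ≤ Nat.card (Cfsg.pCoreOf 2 M) := by
    rw [← Nat.card_prod]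
    refine Nat.card_le_card_of_injective
      (fun p : ↥(Wsub h) × ↥(Fix M f) => (⟨(p.1 : G) * p.2, mul_mem (hWQ p.1.2) p.2.2.1⟩ : ↥(Cfsg.pCoreOf 2 M))) ?_
    rintro ⟨w, r⟩ ⟨w', r'⟩ e
    have e' : (w : G) * r = w' * r' := congrArg Subtype.val e
    have h1 : (w' : G)⁻¹ * w = r' * (r : G)⁻¹ := by
      rw [eq_mul_inv_iff_mul_eq, mul_assoc, e', inv_mul_cancel_left]
    have h2 := h.w_fix ((Wsub h).mul_mem ((Wsub h).inv_mem w'.2) w.2) (h1 ▸ (Fix M f).mul_mem r'.2 ((Fix M f).inv_mem r.2))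
    have h3 : w' = w := Subtype.ext (inv_mul_eq_one.1 h2)
    subst h3
    exact Prod.ext rfl (Subtype.ext (mul_left_cancel e'))
  rw [h.card_core] at hle
  have h4 : Nat.card (Wsub h) ≤ 4 := Nat.le_of_mul_le_mul_right hle Nat.card_pos
  obtain ⟨n, hn⟩ := IsPGroup.iff_card.1 ((core_isPGroup M).to_le hWQ)
  set w := z⁻¹ * (f * z * f⁻¹) with hw
  have hwW : w ∈ Wsub h := ⟨z, h.max.z_vee, rfl⟩
  have hw1 : w ≠ 1 := fun e => h.z_moved (inv_mul_eq_one.1 e).symm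
  have hwf : f * w * f⁻¹ ≠ w := fun e =>
    hw1 (h.w_fix hwW (mem_fix.2 ⟨hWQ hwW, (mul_inv_eq_iff_eq_mul.1 e).symm⟩))
  have h3 : ({1, w, f * w * f⁻¹} : Set G).ncard = 3 := Set.ncard_eq_three.2
    ⟨1, w, _, hw1.symm, fun e => hw1 (conj_eq_one_iff.1 e.symm), hwf.symm, rfl⟩
  have h5 : ({1, w, f * w * f⁻¹} : Set G) ⊆ Wsub h := by
    rintro x (rfl | rfl | rfl)
    exacts [one_mem _, hwW, h.w_f hwW]
  have h6 := Set.ncard_le_ncard h5 (Set.toFinite _)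
  rw [h3, ← Nat.card_coe_set_eq] at h6
  have h6' : 3 ≤ 2 ^ n := hn ▸ h6
  rw [hn] at h4 ⊢
  have hn3 : n ≤ 2 := (Nat.pow_le_pow_iff_right (by norm_num : 1 < 2)).1 (h4.trans_eq (by norm_num))
  interval_cases n <;> omega

theorem form_w : ∀ q ∈ Cfsg.pCoreOf 2 M, ∃ w ∈ Wsub h, ∃ r ∈ Fix M f, q = w * r := by
  classical
  have hWQ : Wsub h ≤ Cfsg.pCoreOf 2 M := fun w hw => (h.w_vee hw).1
  let ψ : ↥(Wsub h) × ↥(Fix M f) → ↥(Cfsg.pCoreOf 2 M) := fun p => ⟨(p.1 : G) * p.2, mul_mem (hWQ p.1.2) p.2.2.1⟩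
  have hinj : Function.Injective ψ := by
    rintro ⟨w, r⟩ ⟨w', r'⟩ e
    have e' : (w : G) * r = w' * r' := congrArg Subtype.val e
    have h1 : (w' : G)⁻¹ * w = r' * (r : G)⁻¹ := by
      rw [eq_mul_inv_iff_mul_eq, mul_assoc, e', inv_mul_cancel_left]
    have h2 := h.w_fix ((Wsub h).mul_mem ((Wsub h).inv_mem w'.2) w.2) (h1 ▸ (Fix M f).mul_mem r'.2 ((Fix M f).inv_mem r.2))
    have h3 : w' = w := Subtype.ext (inv_mul_eq_one.1 h2)
    subst h3
    exact Prod.ext rfl (Subtype.ext (mul_left_cancel e'))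
  have hb := (Nat.bijective_iff_injective_and_card ψ).2 ⟨hinj, by rw [Nat.card_prod, h.w_card, h.card_core]⟩
  intro q hq
  obtain ⟨⟨w, r⟩, e⟩ := hb.2 ⟨q, hq⟩
  exact ⟨w, w.2, r, r.2, (congrArg Subtype.val e).symm⟩

theorem form_T {t : G} (ht : t ∈ (S : Subgroup G) ⊓ M) (hn : t ∉ Cfsg.pCoreOf 2 M) :
    ∃ q ∈ Cfsg.pCoreOf 2 M, t = q * a :=
  ⟨t * a⁻¹, h.mulT ht h.aT hn h.aQ, by group⟩

theorem fix_T {t r : G} (ht : t ∈ (S : Subgroup G) ⊓ M) (hr : r ∈ Fix M f) : t * r * t⁻¹ ∈ Fix M f := by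
  have hord : orderOf (t * f * t⁻¹) = 3 := by
    rw [show t * f * t⁻¹ = (MulAut.conj t).toMonoidHom f from rfl,
      orderOf_injective (MulAut.conj t).toMonoidHom (MulAut.conj t).injective]
    exact h.f3
  have hc : f⁻¹ * (t * f * t⁻¹) ∈ Cfsg.pCoreOf 2 M ∨ f * (t * f * t⁻¹) ∈ Cfsg.pCoreOf 2 M := by
    by_cases hn : t ∈ Cfsg.pCoreOf 2 M
    · left
      rw [show f⁻¹ * (t * f * t⁻¹) = (f⁻¹ * t * f⁻¹⁻¹) * t⁻¹ by group]
      exact mul_mem (core_conj (inv_mem h.fM) hn) (inv_mem hn)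
    · right
      obtain ⟨q, hq, rfl⟩ := h.form_T ht hn
      rw [show f * (q * a * f * (q * a)⁻¹) = (f * q * f⁻¹) * (f * (a * f * a⁻¹ * f) * f⁻¹) * q⁻¹ by group]
      exact mul_mem (mul_mem (core_conj h.fM hq) (core_conj h.fM h.inv)) (inv_mem hq)
  obtain ⟨q, hq, k⟩ := h.conj_f hord hc
  have hrc := (mem_fix.1 hr).2
  have h1 : q⁻¹ * (t * r * t⁻¹) * q ∈ Fix M f := by
    have h0 : (t * r * t⁻¹) * (t * f * t⁻¹) = (t * f * t⁻¹) * (t * r * t⁻¹) := by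
      rw [show (t * r * t⁻¹) * (t * f * t⁻¹) = t * (r * f) * t⁻¹ by group, hrc]; group
    refine mem_fix.2 ⟨by simpa using core_conj (inv_mem (core_le M hq)) (core_conj ht.2 hr.1), ?_⟩
    rcases k with k | k <;> rw [k] at h0
    · calc q⁻¹ * (t * r * t⁻¹) * q * f = q⁻¹ * ((t * r * t⁻¹) * (q * f * q⁻¹)) * q := by group
        _ = q⁻¹ * ((q * f * q⁻¹) * (t * r * t⁻¹)) * q := by rw [h0]
        _ = _ := by group
    · have h2 : Commute (q⁻¹ * (t * r * t⁻¹) * q) f⁻¹ := by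
        show q⁻¹ * (t * r * t⁻¹) * q * f⁻¹ = _
        calc q⁻¹ * (t * r * t⁻¹) * q * f⁻¹ = q⁻¹ * ((t * r * t⁻¹) * (q * f⁻¹ * q⁻¹)) * q := by group
          _ = q⁻¹ * ((q * f⁻¹ * q⁻¹) * (t * r * t⁻¹)) * q := by rw [h0]
          _ = _ := by group
      simpa using h2.inv_right.eq
  -- the fixed points are normal in the core
  obtain ⟨w, hw, r₀, hr₀, rfl⟩ := h.form_w q hq
  set x := (w * r₀)⁻¹ * (t * r * t⁻¹) * (w * r₀) with hx
  have e : t * r * t⁻¹ = r₀ * x * r₀⁻¹ := by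
    calc t * r * t⁻¹ = (w * r₀) * x * (w * r₀)⁻¹ := by rw [hx]; group
      _ = w * (r₀ * x * r₀⁻¹) * w⁻¹ := by group
      _ = r₀ * x * r₀⁻¹ := by
        have hm := (Fix M f).mul_mem ((Fix M f).mul_mem hr₀ h1) ((Fix M f).inv_mem hr₀)
        rw [← h.w_central hm.1 hw, mul_inv_cancel_right]
  rw [e]
  exact (Fix M f).mul_mem ((Fix M f).mul_mem hr₀ h1) ((Fix M f).inv_mem hr₀)

theorem w_T {t w : G} (ht : t ∈ (S : Subgroup G) ⊓ M) (hw : w ∈ Wsub h) : t * w * t⁻¹ ∈ Wsub h := by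
  have ha : ∀ w ∈ Wsub h, a * w * a⁻¹ ∈ Wsub h := by
    rintro _ ⟨u, hu, rfl⟩
    set u' := a * u * a⁻¹ with hu'
    have hu'V : u' ∈ Vee M := vee_conj h.aT.2 hu
    set u'' := f⁻¹ * u' * f with hu''
    have hu''V : u'' ∈ Vee M := by simpa using vee_conj (inv_mem h.fM) hu'V
    set p := a * f * a⁻¹ * f with hp
    have e1 : a * (u⁻¹ * (f * u * f⁻¹)) * a⁻¹ = u'⁻¹ * (p * u'' * p⁻¹) := by
      rw [hu'', hp, hu']; group
    rw [e1, hu''V.2.2 p h.inv, mul_inv_cancel_right]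
    refine (Wsub h).inv_mem_iff.1 ⟨u'', hu''V, ?_⟩
    rw [mul_inv_rev, inv_inv, show f * u'' * f⁻¹ = u' by rw [hu'']; group]
  by_cases hn : t ∈ Cfsg.pCoreOf 2 M
  · rw [h.conj_core hw hn]; exact hw
  · obtain ⟨q, hq, rfl⟩ := h.form_T ht hn
    rw [show q * a * w * (q * a)⁻¹ = q * (a * w * a⁻¹) * q⁻¹ by group, h.conj_core (ha w hw) hq]
    exact ha w hw

theorem a_moves : ∃ w ∈ Wsub h, a * w * a⁻¹ ≠ w := by
  by_contra hne
  push Not at hne
  -- then so does `f`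
  have hmove : ∀ w ∈ Wsub h, f * w * f⁻¹ = w := by
    intro w hw
    set w' := f⁻¹ * w * f with hw'
    have hw'W : w' ∈ Wsub h := by
      have h1 := h.w_f (h.w_f hw)
      rwa [show f * (f * w * f⁻¹) * f⁻¹ = (f * f * f) * w' * (f * f * f)⁻¹ by rw [hw']; group, h.f3', inv_one,
        one_mul, mul_one] at h1
    have hfaf : (f * a * f⁻¹) * w * (f * a * f⁻¹)⁻¹ = w := by
      rw [show (f * a * f⁻¹) * w * (f * a * f⁻¹)⁻¹ = f * (a * w' * a⁻¹) * f⁻¹ by rw [hw']; group, hne w' hw'W, hw']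
      group
    set p := a * f * a * f⁻¹ * f⁻¹ with hp
    have hpQ : p ∈ Cfsg.pCoreOf 2 M := by
      rw [hp, show a * f * a * f⁻¹ * f⁻¹ = (a * f * a⁻¹ * f) * (f⁻¹ * (a * a) * f⁻¹⁻¹) * (f⁻¹ * f⁻¹ * f⁻¹) by group,
        show f⁻¹ * f⁻¹ * f⁻¹ = (f * f * f)⁻¹ by group, h.f3', inv_one, mul_one]
      exact mul_mem h.inv (core_conj (inv_mem h.fM) h.a2)
    calc f * w * f⁻¹ = (p⁻¹ * a) * ((f * a * f⁻¹) * w * (f * a * f⁻¹)⁻¹) * (p⁻¹ * a)⁻¹ := by rw [hp]; group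
      _ = p⁻¹ * (a * w * a⁻¹) * p⁻¹⁻¹ := by rw [hfaf]; group
      _ = w := by rw [hne w hw, h.conj_core hw (inv_mem hpQ)]
  have h4 := h.w_card
  have : Nontrivial ↥(Wsub h) := Finite.one_lt_card_iff_nontrivial.1 (by omega)
  obtain ⟨w, hw⟩ := exists_ne (1 : ↥(Wsub h))
  exact hw (Subtype.ext (h.w_fix w.2 (mem_fix.2 ⟨(h.w_vee w.2).1, (mul_inv_eq_iff_eq_mul.1 (hmove w w.2)).symm⟩)))

theorem exists_shape : ∃ b w₀ w₁ : G, Shape S z M f b w₀ w₁ := by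
  classical
  haveI : Fact (Nat.Prime 2) := ⟨Nat.prime_two⟩
  set Q := Cfsg.pCoreOf 2 M with hQ
  set W := Wsub h with hW
  obtain ⟨w₁, hw₁, hmove⟩ := h.a_moves
  set w₀ := w₁ * (a * w₁ * a⁻¹) with hw₀
  have haw₁ : a * w₁ * a⁻¹ ∈ W := h.w_T h.aT hw₁
  have hw₀W : w₀ ∈ W := mul_mem hw₁ haw₁
  have hsq : ∀ w ∈ W, w * w = 1 := fun w hw => (h.w_vee hw).2.1
  have hcomm : ∀ w ∈ W, ∀ w' ∈ W, w * w' = w' * w := fun w hw w' hw' => (vee_el M).2 w (h.w_vee hw) w' (h.w_vee hw')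
  have hw0ne : w₀ ≠ 1 := fun e => hmove (mul_left_cancel (e.trans (hsq w₁ hw₁).symm))
  have hw1ne : w₁ ≠ 1 := fun e => hmove (by rw [e, mul_one, mul_inv_cancel])
  have hw01 : w₀ ≠ w₁ := fun e => hw1ne (conj_eq_one_iff.1 (mul_eq_left.1 e))
  have hprod : a * w₁ * a⁻¹ = w₁ * w₀ := by rw [hw₀, ← mul_assoc, hsq w₁ hw₁, one_mul]
  have haw₀ : a * w₀ * a⁻¹ = w₀ := by
    rw [hw₀, show a * (w₁ * (a * w₁ * a⁻¹)) * a⁻¹ = (a * w₁ * a⁻¹) * ((a * a) * w₁ * (a * a)⁻¹) by group,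
      h.conj_core hw₁ h.a2, hcomm _ haw₁ _ hw₁]
  have helems : ∀ w ∈ W, w ∈ fourOf w₀ w₁ := by
    intro w hw
    have hsub : fourOf w₀ w₁ ⊆ W := by
      rintro x (rfl | rfl | rfl | rfl)
      exacts [one_mem _, hw₀W, hw₁, mul_mem hw₁ hw₀W]
    have h4 : (fourOf w₀ w₁).ncard = 4 := by
      rw [fourOf, Set.ncard_insert_of_notMem, Set.ncard_insert_of_notMem, Set.ncard_pair]
      · exact fun e => hw0ne (left_eq_mul.1 e)
      · simp only [Set.mem_insert_iff, Set.mem_singleton_iff, not_or]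
        exact ⟨hw01, fun e => hw1ne (right_eq_mul.1 e)⟩
      · simp only [Set.mem_insert_iff, Set.mem_singleton_iff, not_or]
        exact ⟨hw0ne.symm, hw1ne.symm, fun e => hw01 (by
          rw [← one_mul w₀, ← hsq w₁ hw₁, mul_assoc, ← e, mul_one])⟩
    have heq := Set.eq_of_subset_of_ncard_le hsub (by
      rw [h4, ← Nat.card_coe_set_eq]; exact h.w_card.le) (Set.toFinite _)
    exact heq ▸ hw
  have hfourW : ∀ w ∈ fourOf w₀ w₁, w ∈ W := by
    rintro x (rfl | rfl | rfl | rfl)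
    exacts [one_mem _, hw₀W, hw₁, mul_mem hw₁ hw₀W]
  obtain ⟨s, hsS, hsM, hsT, hss⟩ := h.max.exists_s
  -- the involution
  obtain ⟨b, hbT, hbQ, hb2, hbR⟩ : ∃ b ∈ (S : Subgroup G) ⊓ M, b ∉ Q ∧ b * b = 1 ∧
      ∀ r ∈ Fix M f, b * r = r * b := by
    rcases h.shape with hgen | ⟨hV, h16⟩
    · obtain ⟨w', hw', hw'Q⟩ : ∃ w ∈ W, s * w * s⁻¹ ∉ Q := by
        by_contra hne
        push Not at hne
        set X := W ⊔ cmap s W ⊔ zpowers z with hX
        have hXQ : X ≤ Q := sup_le (sup_le (fun w hw => (h.w_vee hw).1)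
          (by rintro _ ⟨w, hw, rfl⟩; exact hne w hw)) (zpowers_le.2 h.max.z_mem)
        have hconj : ∀ g : G, (∀ w ∈ W, g * w * g⁻¹ ∈ X) → (∀ w ∈ W, g * (s * w * s⁻¹) * g⁻¹ ∈ X) →
            g * z * g⁻¹ ∈ X → ∀ x ∈ X, g * x * g⁻¹ ∈ X := by
          intro g h1 h2 h3
          have hle : X ≤ X.comap (MulAut.conj g).toMonoidHom :=
            sup_le (sup_le h1 (by rintro _ ⟨w, hw, rfl⟩; exact h2 w hw)) (zpowers_le.2 h3)
          exact fun x hx => hle hx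
        have hWX : ∀ w ∈ W, w ∈ X := fun w hw => mem_sup_left (mem_sup_left hw)
        have hT : ∀ t ∈ (S : Subgroup G) ⊓ M, ∀ x ∈ X, t * x * t⁻¹ ∈ X := fun t ht => hconj t
          (fun w hw => hWX _ (h.w_T ht hw)) (fun w hw => mem_sup_left (mem_sup_right (mem_cmap.2 (by
            have ht' : s⁻¹ * t * s ∈ (S : Subgroup G) ⊓ M := by
              rw [show s⁻¹ * t * s = (s * s)⁻¹ * (s * t * s⁻¹) * (s * s) by group]
              exact mul_mem (mul_mem (inv_mem hss) (hsT _ ht)) hss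
            rw [show s⁻¹ * (t * (s * w * s⁻¹) * t⁻¹) * s = (s⁻¹ * t * s) * w * (s⁻¹ * t * s)⁻¹ by group]
            exact h.w_T ht' hw))))
          (by rw [h.max.hyp.zc t ht.1, mul_inv_cancel_right]; exact mem_sup_right (mem_zpowers z))
        have hf : ∀ x ∈ X, f * x * f⁻¹ ∈ X := by
          intro x hx
          obtain ⟨w, hw, r, hr, rfl⟩ := h.form_w x (hXQ hx)
          have hr' : r ∈ X := by
            have := X.mul_mem (X.inv_mem (hWX w hw)) hx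
            rwa [inv_mul_cancel_left] at this
          rw [show f * (w * r) * f⁻¹ = (f * w * f⁻¹) * (f * r * f⁻¹) by group, ← (mem_fix.1 hr).2,
            mul_inv_cancel_right]
          exact mul_mem (hWX _ (h.w_f hw)) hr'
        refine hsM (h.max.no_move hXQ (mem_sup_right (mem_zpowers z)) (fun m hm x hx => ?_) (hconj s
          (fun w hw => mem_sup_left (mem_sup_right (conj_mem_cmap hw)))
          (fun w hw => hWX _ (by
            rw [show s * (s * w * s⁻¹) * s⁻¹ = (s * s) * w * (s * s)⁻¹ by group]; exact h.w_T hss hw))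
          (by rw [h.max.hyp.zc s hsS, mul_inv_cancel_right]; exact mem_sup_right (mem_zpowers z))))
        obtain ⟨t, ht, e | e | e⟩ := hgen m hm <;> rw [e]
        · exact hT t ht x hx
        · rw [show f * t * x * (f * t)⁻¹ = f * (t * x * t⁻¹) * f⁻¹ by group]; exact hf _ (hT t ht x hx)
        · rw [show f * f * t * x * (f * f * t)⁻¹ = f * (f * (t * x * t⁻¹) * f⁻¹) * f⁻¹ by group]
          exact hf _ (hf _ (hT t ht x hx))
      set e := s * w' * s⁻¹ with he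
      have heT : e ∈ (S : Subgroup G) ⊓ M := hsT _ (h.max.core_le_T (h.w_vee hw').1)
      refine ⟨e, heT, hw'Q, sq_conj (hsq w' hw'), fun r hr => ?_⟩
      set Ws := cmap s W with hWs
      have heWs : e ∈ Ws := conj_mem_cmap hw'
      have hWsT : ∀ t ∈ (S : Subgroup G) ⊓ M, ∀ x ∈ Ws, t * x * t⁻¹ ∈ Ws := by
        intro t ht x hx
        refine mem_cmap.2 ?_
        have ht' : s⁻¹ * t * s ∈ (S : Subgroup G) ⊓ M := by
          rw [show s⁻¹ * t * s = (s * s)⁻¹ * (s * t * s⁻¹) * (s * s) by group]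
          exact mul_mem (mul_mem (inv_mem hss) (hsT _ ht)) hss
        rw [show s⁻¹ * (t * x * t⁻¹) * s = (s⁻¹ * t * s) * (s⁻¹ * x * s) * (s⁻¹ * t * s)⁻¹ by group]
        exact h.w_T ht' (mem_cmap.1 hx)
      -- the commutator with `w₁`
      obtain ⟨q, hq, hqe⟩ := h.form_T heT hw'Q
      have hew : e * w₁ * e⁻¹ = w₁ * w₀ := by
        rw [hqe, show q * a * w₁ * (q * a)⁻¹ = q * (a * w₁ * a⁻¹) * q⁻¹ by group, hprod,
          h.conj_core (mul_mem hw₁ hw₀W) hq]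
      have hw0s : w₀ ∈ Ws := by
        have h1 : w₁ * e * w₁⁻¹ ∈ Ws := hWsT w₁ (h.max.core_le_T (h.w_vee hw₁).1) e heWs
        have h2 := mul_mem (Ws.inv_mem h1) heWs
        have hei : e⁻¹ = e := inv_eq_of_mul_eq_one_right (sq_conj (hsq w' hw'))
        have hw₁i : w₁⁻¹ = w₁ := inv_eq_of_mul_eq_one_right (hsq w₁ hw₁)
        have e1 : (w₁ * e * w₁⁻¹)⁻¹ * e = w₀ := by
          rw [mul_inv_rev, mul_inv_rev, inv_inv, hei, hw₁i, show w₁ * (e * w₁) * e = w₁ * (e * w₁ * e) by group]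
          nth_rw 2 [← hei]
          rw [hew, ← mul_assoc, hsq w₁ hw₁, one_mul]
        rwa [e1] at h2
      -- the meet with the core is small
      have hsmall : ∀ x ∈ Ws, x ∈ Q → x = 1 ∨ x = w₀ := by
        have h1 : Ws ⊓ Q < Ws := lt_of_le_of_ne inf_le_left fun k => hw'Q (k.symm ▸ heWs : e ∈ Ws ⊓ Q).2
        have h2 := two_mul_le_of_lt h1
        rw [hWs, card_cmap, show Nat.card W = 4 from h.w_card, ← hWs] at h2
        intro x hx hxQ
        by_contra hne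
        push Not at hne
        have h3 : ({1, w₀, x} : Set G) ⊆ ↑(Ws ⊓ Q) := by
          rintro y (rfl | rfl | rfl)
          exacts [one_mem _, ⟨hw0s, (h.w_vee hw₀W).1⟩, ⟨hx, hxQ⟩]
        have h4 : ({1, w₀, x} : Set G).ncard = 3 := Set.ncard_eq_three.2 ⟨1, w₀, x, hw0ne.symm, hne.1.symm, hne.2.symm, rfl⟩
        have h5 := Set.ncard_le_ncard h3 (Set.toFinite _)
        rw [h4, ← Nat.card_coe_set_eq] at h5
        change 3 ≤ Nat.card ↥(Ws ⊓ Q) at h5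
        omega
      have hr' := h.fix_T heT hr
      have h1 : e * r * e⁻¹ * r⁻¹ ∈ Ws := by
        rw [show e * r * e⁻¹ * r⁻¹ = e * (r * e⁻¹ * r⁻¹) by group]
        exact mul_mem heWs (hWsT r (h.max.core_le_T hr.1) _ (inv_mem heWs))
      have h2 : e * r * e⁻¹ * r⁻¹ ∈ Fix M f := mul_mem hr' (inv_mem hr)
      rcases hsmall _ h1 h2.1 with k | k
      · calc e * r = (e * r * e⁻¹ * r⁻¹) * (r * e) := by group
          _ = r * e := by rw [k, one_mul]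
      · exact absurd (h.w_fix hw₀W (k ▸ h2)) hw0ne
    · -- elementary core
      have hQel : ∀ q ∈ Q, q * q = 1 := fun q hq => (hV.symm ▸ hq : q ∈ Vee M).2.1
      have hQc : ∀ q ∈ Q, ∀ p ∈ Q, p * q = q * p := fun q hq p hp => (hV.symm ▸ hq : q ∈ Vee M).2.2 p hp
      obtain ⟨q, hq, hqQ⟩ : ∃ q ∈ Q, s * q * s⁻¹ ∉ Q := by
        by_contra hne
        push Not at hne
        exact hsM (h.max.no_move le_rfl h.max.z_mem (fun m hm x hx => core_conj hm hx) hne)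
      set b := s * q * s⁻¹ with hb
      have hbT : b ∈ (S : Subgroup G) ⊓ M := hsT _ (h.max.core_le_T hq)
      refine ⟨b, hbT, hqQ, sq_conj (hQel q hq), fun r hr => ?_⟩
      -- `a` moves only a subgroup of order two
      obtain ⟨C, hCV, hCc, hCcard⟩ := h.fixed
      have hkey : a * r * a⁻¹ = r := by
        haveI : IsMulCommutative Q := ⟨⟨fun x y => Subtype.ext (hQc y y.2 x x.2)⟩⟩
        let m : Q →* Q := MonoidHom.mk' (fun x => ⟨a * x * a⁻¹ * (x : G)⁻¹, mul_mem (core_conj h.aT.2 x.2) (inv_mem x.2)⟩)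
          fun x y => Subtype.ext (by
            show a * ((x : G) * y) * a⁻¹ * ((x : G) * y)⁻¹ = a * x * a⁻¹ * (x : G)⁻¹ * (a * y * a⁻¹ * (y : G)⁻¹)
            rw [show a * ((x : G) * y) * a⁻¹ * ((x : G) * y)⁻¹ = a * x * a⁻¹ * ((a * y * a⁻¹ * (y : G)⁻¹) * (x : G)⁻¹) by group,
              hQc _ (inv_mem x.2) _ (mul_mem (core_conj h.aT.2 y.2) (inv_mem y.2))]
            group)
        have hker : C.subgroupOf Q ≤ m.ker := fun x hx => MonoidHom.mem_ker.2 (Subtype.ext (by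
          show a * x * a⁻¹ * (x : G)⁻¹ = 1
          rw [hCc x hx, mul_inv_cancel_right, mul_inv_cancel]))
        have hrange : Nat.card m.range ≤ 2 := by
          rw [← Subgroup.index_ker]
          have h1 := m.ker.card_mul_index
          have h2 := Nat.card_le_card_of_injective _ (Subgroup.inclusion_injective hker)
          rw [Nat.card_congr (subgroupOfEquivOfLe (hCV.trans (vee_le M))).toEquiv] at h2
          have h3 : Nat.card m.ker * m.ker.index ≤ Nat.card m.ker * 2 := by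
            rw [h1]
            calc Nat.card Q = Nat.card (Vee M) := by rw [hV]
              _ ≤ 2 * Nat.card C := hCcard
              _ ≤ Nat.card m.ker * 2 := by omega
          exact Nat.le_of_mul_le_mul_left h3 Nat.card_pos
        have hrQ : r ∈ Q := hr.1
        set x : Q := ⟨r, hrQ⟩ with hx
        set y : Q := ⟨w₁, (h.w_vee hw₁).1⟩ with hy
        have hmy : ((m y : Q) : G) = w₀ := by
          show a * w₁ * a⁻¹ * w₁⁻¹ = w₀
          rw [hw₀, inv_eq_of_mul_eq_one_right (hsq w₁ hw₁), hcomm _ haw₁ _ hw₁]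
        by_contra hne
        have hmx : ((m x : Q) : G) ≠ 1 := fun e => hne (mul_inv_eq_one.1 e)
        have h3 : ({1, m x, m y} : Set Q) ⊆ m.range := by
          rintro v (rfl | rfl | rfl)
          exacts [one_mem _, ⟨x, rfl⟩, ⟨y, rfl⟩]
        have hxy : m x ≠ m y := fun e => by
          have hf : ((m x : Q) : G) ∈ Fix M f := mul_mem (h.fix_T h.aT hr) (inv_mem hr)
          rw [e, hmy] at hf
          exact hw0ne (h.w_fix hw₀W hf)
        have h4 : ({1, m x, m y} : Set Q).ncard = 3 := Set.ncard_eq_three.2 ⟨1, m x, m y,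
          fun e => hmx (congrArg Subtype.val e.symm), fun e => hw0ne (hmy ▸ congrArg Subtype.val e.symm),
          hxy, rfl⟩
        have h5 := Set.ncard_le_ncard h3 (Set.toFinite _)
        rw [h4, ← Nat.card_coe_set_eq] at h5
        change 3 ≤ Nat.card m.range at h5
        omega
      obtain ⟨p, hp, hpb⟩ := h.form_T hbT hqQ
      calc b * r = p * (a * r * a⁻¹) * a := by rw [hpb]; group
        _ = r * b := by rw [hkey, hpb, hQc r hr.1 p hp, mul_assoc]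
  obtain ⟨p, hp, hpb⟩ := h.form_T hbT hbQ
  have hbi : b⁻¹ = b := inv_eq_of_mul_eq_one_right hb2
  refine ⟨b, w₀, w₁, h.max, hbT, hbQ, hb2, fun t ht => ?_, h.fM, h.f3, h.w_vee hw₀W, h.w_vee hw₁, hw0ne, hw1ne,
    hw01, ?_, ?_, hbR, fun w hw hf => h.w_fix (hfourW w hw) hf, fun q hq => ?_, fun w hw => helems _ (h.w_f (hfourW w hw)),
    fun t ht r hr => h.fix_T ht hr, h.card_core, ?_⟩
  · by_cases ht' : t ∈ Q
    · exact Or.inl ht'
    · exact Or.inr (by have := h.mulT ht hbT ht' hbQ; rwa [hbi] at this)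
  · refine mul_inv_eq_iff_eq_mul.1 ?_
    rw [hpb, show p * a * w₀ * (p * a)⁻¹ = p * (a * w₀ * a⁻¹) * p⁻¹ by group, haw₀, h.conj_core hw₀W hp]
  · conv_lhs => arg 2; rw [← hbi]
    rw [hpb, show p * a * w₁ * (p * a)⁻¹ = p * (a * w₁ * a⁻¹) * p⁻¹ by group, hprod,
      h.conj_core (mul_mem hw₁ hw₀W) hp]
  · obtain ⟨w, hw, r, hr, e⟩ := h.form_w q hq
    exact ⟨w, helems w hw, r, hr, e⟩
  · rcases h.shape with k | ⟨k, k16⟩
    · exact Or.inl k
    · exact Or.inr ⟨fun q hq => (k.symm ▸ hq : q ∈ Vee M).2.1, k16⟩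

end Pre

end Cfsg.Agent.ChainEight
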