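import Mathlib
import Cfsg.Agent.Lib.ChainEight.Shape

/-!
Local analysis of the shapes `S₄ × R`: `R` has order at most two or is cyclic of order four.
-/

set_option autoImplicit false
set_option linter.all false

namespace Cfsg.Agent.ChainEight

open Subgroup
open scoped Pointwise

universe u

variable {G : Type u} [Group G] [Finite G]

/-- Commuting with the whole Sylow subgroup of the maximal subgroup. -/
def Ucent (S : Sylow 2 G) (M : Subgroup G) : Subgroup G :=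
  Cfsg.pCoreOf 2 M ⊓ centralizer (((S : Subgroup G) ⊓ M : Subgroup G) : Set G)

namespace Shape

variable {S : Sylow 2 G} {z : G} {M : Subgroup G} {f b w₀ w₁ : G} (h : Shape S z M f b w₀ w₁)
include h

theorem f3' : f * f * f = 1 := by
  rw [show f * f * f = f ^ 3 by rw [pow_succ, pow_two], ← h.f3, pow_orderOf_eq_one]

theorem f_not {X : Subgroup G} (hX : IsPGroup 2 X) : f ∉ X := by
  intro hf
  obtain ⟨k, hk⟩ := hX ⟨f, hf⟩
  have := orderOf_dvd_of_pow_eq_one (congrArg Subtype.val hk : f ^ 2 ^ k = 1)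
  rw [h.f3] at this
  have := Nat.prime_three.dvd_of_dvd_pow this
  omega

theorem bi : b⁻¹ = b := inv_eq_of_mul_eq_one_right h.b2

theorem w0sq : w₀ * w₀ = 1 := h.w0V.2.1

theorem w1sq : w₁ * w₁ = 1 := h.w1V.2.1

theorem four_vee {w : G} (hw : w ∈ fourOf w₀ w₁) : w ∈ Vee M := by
  rcases hw with rfl | rfl | rfl | rfl
  exacts [one_mem _, h.w0V, h.w1V, mul_mem h.w1V h.w0V]

theorem w1b : b * w₁ = w₁ * w₀ * b := by
  calc b * w₁ = (b * w₁ * b) * b := by rw [mul_assoc (b * w₁), h.b2, mul_one]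
    _ = w₁ * w₀ * b := by rw [h.bw1]

/-- An element of order two in the fixed points is not central in `S`. -/
theorem no_fixed {r : G} (hr : r ∈ Fix M f) (hc : ∀ s ∈ (S : Subgroup G), s * r = r * s) : r = 1 := by
  by_contra hne
  have hrS : r ∈ (S : Subgroup G) := (h.max.core_le_T hr.1).1
  have h1 := h.max.hyp.norm_eq (D := zpowers r) (fun e => hne (zpowers_eq_bot.1 e)) (zpowers_le.2 hrS)
    fun s hs d hd => by
      obtain ⟨k, rfl⟩ := mem_zpowers_iff.1 hd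
      rw [← conj_zpow, hc s hs, mul_inv_cancel_right]; exact zpow_mem (mem_zpowers r) k
  refine h.f_not S.2 (h1 ▸ mem_normalizer_of_map_le fun d hd => ?_)
  obtain ⟨k, rfl⟩ := mem_zpowers_iff.1 hd
  rw [← conj_zpow, ← (mem_fix.1 hr).2, mul_inv_cancel_right]; exact zpow_mem (mem_zpowers r) k

/-- An element commuting with `S` and fixed by `f` in the core. -/
theorem z_not_fix : z ∉ Fix M f := fun k => h.max.hyp.z1 (h.no_fixed k h.max.hyp.zc)

theorem form_T {t : G} (ht : t ∈ (S : Subgroup G) ⊓ M) (hn : t ∉ Cfsg.pCoreOf 2 M) :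
    ∃ q ∈ Cfsg.pCoreOf 2 M, t = q * b :=
  ⟨t * b, (h.idxT t ht).resolve_left hn, by rw [mul_assoc, h.b2, mul_one]⟩

theorem card_T : Nat.card ↥((S : Subgroup G) ⊓ M) = 2 * Nat.card (Cfsg.pCoreOf 2 M) := by
  set T := (S : Subgroup G) ⊓ M with hT
  have hlt : Cfsg.pCoreOf 2 M < T := lt_of_le_of_ne h.max.core_le_T fun e => h.bQ (e.symm ▸ h.bT)
  refine le_antisymm ?_ (two_mul_le_of_lt hlt)
  let φ : T → Bool × ↥(Cfsg.pCoreOf 2 M) := fun x => by
    classical
    exact if hx : (x : G) ∈ Cfsg.pCoreOf 2 M then (true, ⟨x, hx⟩) else (false, ⟨(x : G) * b, (h.idxT x x.2).resolve_left hx⟩)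
  have hφ : Function.Injective φ := by
    classical
    intro x y e
    simp only [φ] at e
    split_ifs at e with h1 h2 h2
    · exact Subtype.ext (congrArg (fun p => ((p.2 : ↥(Cfsg.pCoreOf 2 M)) : G)) e)
    · exact absurd (congrArg Prod.fst e) (by simp)
    · exact absurd (congrArg Prod.fst e) (by simp)
    · exact Subtype.ext (mul_right_cancel (congrArg (fun p => ((p.2 : ↥(Cfsg.pCoreOf 2 M)) : G)) e))
  have := Nat.card_le_card_of_injective φ hφ
  rwa [Nat.card_prod, Nat.card_eq_fintype_card (α := Bool), Fintype.card_bool] at this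

/-- An element of the core commuting with the involution `b`. -/
theorem comm_b {q : G} (hq : q ∈ Cfsg.pCoreOf 2 M) :
    b * q = q * b ↔ q ∈ Fix M f ∨ w₀ * q ∈ Fix M f := by
  obtain ⟨w, hw, r, hr, rfl⟩ := h.form q hq
  have hcw : b * r = r * b := h.bR r hr
  have hkey : b * (w * r) = (w * r) * b ↔ b * w = w * b := by
    constructor
    · intro e
      refine mul_right_cancel (b := r) ?_
      rw [mul_assoc b, e, mul_assoc w r, ← hcw, mul_assoc]
    · intro e; rw [← mul_assoc, e, mul_assoc, hcw, mul_assoc]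
  rw [hkey]
  constructor
  · intro e
    rcases hw with rfl | rfl | rfl | rfl
    · left; rwa [one_mul]
    · right; rwa [← mul_assoc, h.w0sq, one_mul]
    · exfalso; rw [h.w1b] at e; exact h.w0ne (mul_eq_left.1 (mul_right_cancel e))
    · exfalso
      rw [← mul_assoc, h.w1b, mul_assoc (w₁ * w₀) b w₀, h.bw0, ← mul_assoc (w₁ * w₀), mul_assoc w₁ w₀ w₀,
        h.w0sq, mul_one] at e
      exact h.w0ne (left_eq_mul.1 (mul_right_cancel e))
  · intro e
    rcases hw with rfl | rfl | rfl | rfl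
    · rw [one_mul, mul_one]
    · exact h.bw0
    all_goals exfalso
    · rcases e with e | e
      · have h1 : w ∈ Fix M f := by
          have := mul_mem e (inv_mem hr); rwa [mul_inv_cancel_right] at this
        exact h.w1ne (h.inFix w (by simp [fourOf]) h1)
      · have h1 : w * w₀ ∈ Fix M f := by
          have := mul_mem e (inv_mem hr)
          rwa [show w₀ * (w * r) * r⁻¹ = w₀ * w by group,
            show w₀ * w = w * w₀ from (vee_el M).2 w₀ h.w0V w h.w1V] at this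
        exact h.w01 (by
          rw [← one_mul w₀, ← h.w1sq, mul_assoc, h.inFix _ (by simp [fourOf]) h1, mul_one])
    · rcases e with e | e
      · have h1 : w₁ * w₀ ∈ Fix M f := by
          have := mul_mem e (inv_mem hr); rwa [mul_inv_cancel_right] at this
        exact h.w01 (by
          rw [← one_mul w₀, ← h.w1sq, mul_assoc, h.inFix _ (by simp [fourOf]) h1, mul_one])
      · have h1 : w₁ ∈ Fix M f := by
          have := mul_mem e (inv_mem hr)
          rwa [show w₀ * (w₁ * w₀ * r) * r⁻¹ = w₀ * (w₁ * w₀) by group,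
            (vee_el M).2 w₁ h.w1V w₀ h.w0V, ← mul_assoc, h.w0sq, one_mul] at this
        exact h.w1ne (h.inFix _ (by simp [fourOf]) h1)

theorem core_comm (hRc : ∀ r ∈ Fix M f, ∀ r' ∈ Fix M f, r * r' = r' * r) :
    ∀ p ∈ Cfsg.pCoreOf 2 M, ∀ q ∈ Cfsg.pCoreOf 2 M, p * q = q * p := by
  intro p hp q hq
  obtain ⟨w, hw, r, hr, rfl⟩ := h.form p hp
  obtain ⟨w', hw', r', hr', rfl⟩ := h.form q hq
  have h1 : Commute r w' := (h.four_vee hw').2.2 r hr.1
  have h2 : Commute r' w := (h.four_vee hw).2.2 r' hr'.1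
  rw [h1.mul_mul_mul_comm, h2.mul_mul_mul_comm, (vee_el M).2 w (h.four_vee hw) w' (h.four_vee hw'), hRc r hr r' hr']

/-- Order four. -/
theorem fix_four_comm (h4 : Nat.card (Fix M f) ≤ 4) : ∀ r ∈ Fix M f, ∀ r' ∈ Fix M f, r * r' = r' * r := by
  haveI : Fact (Nat.Prime 2) := ⟨Nat.prime_two⟩
  obtain ⟨n, hn⟩ := IsPGroup.iff_card.1 ((core_isPGroup M).to_le (inf_le_left : Fix M f ≤ Cfsg.pCoreOf 2 M))
  change Nat.card (Fix M f) = 2 ^ n at hn
  have hn2 : n ≤ 2 := by rw [hn] at h4; exact (Nat.pow_le_pow_iff_right (by norm_num : 1 < 2)).1 (h4.trans_eq (by norm_num))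
  intro r hr r' hr'
  interval_cases n
  · rw [pow_zero] at hn
    rw [(Subgroup.eq_bot_of_card_eq _ hn ▸ hr : r ∈ (⊥ : Subgroup G)) |> mem_bot.1]; simp
  · haveI : IsCyclic (Fix M f) := isCyclic_of_prime_card (p := 2) hn
    letI := IsCyclic.commGroup (α := Fix M f)
    exact congrArg Subtype.val (mul_comm (⟨r, hr⟩ : Fix M f) ⟨r', hr'⟩)
  · haveI := IsPGroup.isMulCommutative_of_card_eq_prime_sq hn
    exact setLike_mul_comm hr hr'

/-- No shape with fixed points of order eight. -/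
theorem fix_le_four : Nat.card (Fix M f) ≤ 4 := by
  classical
  haveI : Fact (Nat.Prime 2) := ⟨Nat.prime_two⟩
  by_contra hgt
  set Q := Cfsg.pCoreOf 2 M with hQ
  set T := (S : Subgroup G) ⊓ M with hT
  set R := Fix M f with hR
  obtain ⟨n, hn⟩ := IsPGroup.iff_card.1 ((core_isPGroup M).to_le (inf_le_left : R ≤ Q))
  change Nat.card R = 2 ^ n at hn
  have hTc := h.card_T
  have hT64 := h.max.card_T_le
  have hQc := h.core4
  rw [← hQ, ← hR] at hQc
  rw [← hQ, ← hT] at hTc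
  rw [← hT] at hT64
  have hR8 : Nat.card R = 8 := by
    have h1 : 2 ^ n ≤ 2 ^ 3 := by rw [← hn]; omega
    have h2 : n ≤ 3 := (Nat.pow_le_pow_iff_right (by norm_num : 1 < 2)).1 h1
    interval_cases n <;> omega
  rcases h.gen with hgen | ⟨-, h16⟩
  swap
  · rw [← hQ] at h16; omega
  obtain ⟨s, hsS, hsM, hsT, hss⟩ := h.max.exists_s
  have hsT' : ∀ t ∈ T, s⁻¹ * t * s ∈ T := fun t ht => by
    rw [show s⁻¹ * t * s = (s * s)⁻¹ * (s * t * s⁻¹) * (s * s) by group]
    exact T.mul_mem (T.mul_mem (T.inv_mem hss) (hsT _ ht)) hss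
  -- `S` is generated by `T` and `s`
  have hS : ∀ g ∈ (S : Subgroup G), g ∈ T ∨ g * s ∈ T := by
    have hidx : (T.subgroupOf (S : Subgroup G)).index = 2 := by
      have e := (T.subgroupOf (S : Subgroup G)).card_mul_index
      rw [Nat.card_congr (subgroupOfEquivOfLe (inf_le_left : T ≤ (S : Subgroup G))).toEquiv, h.max.hyp.card,
        show Nat.card T = 64 by omega] at e
      omega
    intro g hg
    by_cases hgT : g ∈ T
    · exact Or.inl hgT
    · exact Or.inr ((mul_mem_iff_of_index_two hidx (a := (⟨g, hg⟩ : (S : Subgroup G))) (b := ⟨s, hsS⟩)).2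
        ⟨fun k => absurd k hgT, fun k => absurd (k : s ∈ T) (fun k' => hsM k'.2)⟩)
  set R₁ := cmap s R with hR₁
  have hR₁T : R₁ ≤ T := by rintro _ ⟨r, hr, rfl⟩; exact hsT r (h.max.core_le_T hr.1)
  have hR₁n : ∀ t ∈ T, ∀ x ∈ R₁, t * x * t⁻¹ ∈ R₁ := fun t ht x hx => mem_cmap.2 (by
    rw [show s⁻¹ * (t * x * t⁻¹) * s = (s⁻¹ * t * s) * (s⁻¹ * x * s) * (s⁻¹ * t * s)⁻¹ by group]
    exact h.fixT _ (hsT' t ht) _ (mem_cmap.1 hx))
  have hbot : R ⊓ R₁ = ⊥ := by
    by_contra hne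
    set X := R ⊓ R₁ with hX
    have hXT : ∀ t ∈ T, ∀ x ∈ X, t * x * t⁻¹ ∈ X := fun t ht x hx => ⟨h.fixT t ht x hx.1, hR₁n t ht x hx.2⟩
    have hXs : ∀ x ∈ X, s * x * s⁻¹ ∈ X := by
      intro x hx
      refine ⟨?_, conj_mem_cmap hx.1⟩
      obtain ⟨r, hr, rfl⟩ := hx.2
      show s * (s * r * s⁻¹) * s⁻¹ ∈ R
      rw [show s * (s * r * s⁻¹) * s⁻¹ = (s * s) * r * (s * s)⁻¹ by group]
      exact h.fixT _ hss r hr
    have hN := h.max.hyp.norm_eq hne (inf_le_left.trans (inf_le_left.trans (h.max.core_le_T.trans inf_le_left)))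
      fun g hg x hx => by
        rcases hS g hg with k | k
        · exact hXT g k x hx
        · have h1 := hXT _ k
          have h2 : s⁻¹ * x * s ∈ X := by
            have h3 := hXs x hx
            have h4 := hXT _ (T.inv_mem hss) _ h3
            rwa [show (s * s)⁻¹ * (s * x * s⁻¹) * (s * s)⁻¹⁻¹ = s⁻¹ * x * s by group] at h4
          rw [show g * x * g⁻¹ = (g * s) * (s⁻¹ * x * s) * (g * s)⁻¹ by group]
          exact h1 _ h2
    refine h.f_not S.2 (hN ▸ mem_normalizer_of_map_le fun x hx => ?_)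
    rw [← (mem_fix.1 hx.1).2, mul_inv_cancel_right]; exact hx
  have hcomm : ∀ r ∈ R, ∀ x ∈ R₁, r * x = x * r := by
    intro r hr x hx
    have h1 : r * x * r⁻¹ * x⁻¹ ∈ R ⊓ R₁ :=
      ⟨by rw [show r * x * r⁻¹ * x⁻¹ = r * (x * r⁻¹ * x⁻¹) by group]
          exact R.mul_mem hr (h.fixT x (hR₁T hx) _ (R.inv_mem hr)),
        R₁.mul_mem (hR₁n r (h.max.core_le_T hr.1) x hx) (R₁.inv_mem hx)⟩
    rw [hbot, mem_bot] at h1
    calc r * x = (r * x * r⁻¹ * x⁻¹) * (x * r) := by group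
      _ = x * r := by rw [h1, one_mul]
  set P := Q ⊓ R₁ with hP
  have hR₁c : Nat.card R₁ = 8 := by rw [hR₁, card_cmap, hR8]
  have hinj : Nat.card P * Nat.card R ≤ Nat.card Q := by
    rw [← Nat.card_prod]
    refine Nat.card_le_card_of_injective
      (fun p : ↥P × ↥R => (⟨(p.1 : G) * p.2, mul_mem p.1.2.1 p.2.2.1⟩ : ↥Q)) ?_
    rintro ⟨p, r⟩ ⟨p', r'⟩ e
    have e' : (p : G) * r = p' * r' := congrArg Subtype.val e
    have h1 : (p' : G)⁻¹ * p = r' * (r : G)⁻¹ := by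
      rw [eq_mul_inv_iff_mul_eq, mul_assoc, e', inv_mul_cancel_left]
    have h2 : (p' : G)⁻¹ * p ∈ R ⊓ R₁ :=
      ⟨h1 ▸ R.mul_mem r'.2 (R.inv_mem r.2), R₁.mul_mem (R₁.inv_mem p'.2.2) p.2.2⟩
    rw [hbot, mem_bot] at h2
    have h3 : p' = p := Subtype.ext (inv_mul_eq_one.1 h2)
    subst h3
    exact Prod.ext rfl (Subtype.ext (mul_left_cancel e'))
  have hP4 : Nat.card P = 4 := by
    have hlow : Nat.card R₁ ≤ 2 * Nat.card P := by
      by_cases hy : ∃ y ∈ R₁, y ∉ Q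
      swap
      · push Not at hy
        rw [show P = R₁ from inf_eq_right.2 hy]
        omega
      obtain ⟨y₀, hy₀, hy₀Q⟩ := hy
      let φ : R₁ → Bool × ↥P := fun x =>
        if hx : (x : G) ∈ Q then (true, ⟨x, hx, x.2⟩) else (false, ⟨(x : G) * y₀⁻¹, by
            have h1 := (h.idxT x (hR₁T x.2)).resolve_left hx
            have h2 := (h.idxT _ (hR₁T hy₀)).resolve_left hy₀Q
            have := Q.mul_mem h1 (Q.inv_mem h2)
            rwa [show (x : G) * b * (y₀ * b)⁻¹ = x * y₀⁻¹ by group] at this,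
            R₁.mul_mem x.2 (R₁.inv_mem hy₀)⟩)
      have hφ : Function.Injective φ := by
        intro x y e
        simp only [φ] at e
        split_ifs at e with h1 h2
        · exact Subtype.ext (congrArg (fun p => ((p.2 : ↥P) : G)) e)
        · exact absurd (congrArg Prod.fst e) (by simp)
        · exact absurd (congrArg Prod.fst e) (by simp)
        · have e' : (x : G) * y₀⁻¹ = y * y₀⁻¹ := congrArg (fun p => ((p.2 : ↥P) : G)) e
          exact Subtype.ext (mul_right_cancel e')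
      have := Nat.card_le_card_of_injective φ hφ
      rwa [Nat.card_prod, Nat.card_eq_fintype_card (α := Bool), Fintype.card_bool] at this
    rw [hR₁c] at hlow
    rw [hR8] at hinj
    omega
  have hbij : ∀ q ∈ Q, ∃ p ∈ P, ∃ r ∈ R, q = p * r := by
    let ψ : ↥P × ↥R → ↥Q := fun p => ⟨(p.1 : G) * p.2, mul_mem p.1.2.1 p.2.2.1⟩
    have hψ : Function.Injective ψ := by
      rintro ⟨p, r⟩ ⟨p', r'⟩ e
      have e' : (p : G) * r = p' * r' := congrArg Subtype.val e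
      have h1 : (p' : G)⁻¹ * p = r' * (r : G)⁻¹ := by
        rw [eq_mul_inv_iff_mul_eq, mul_assoc, e', inv_mul_cancel_left]
      have h2 : (p' : G)⁻¹ * p ∈ R ⊓ R₁ :=
        ⟨h1 ▸ R.mul_mem r'.2 (R.inv_mem r.2), R₁.mul_mem (R₁.inv_mem p'.2.2) p.2.2⟩
      rw [hbot, mem_bot] at h2
      have h3 : p' = p := Subtype.ext (inv_mul_eq_one.1 h2)
      subst h3
      exact Prod.ext rfl (Subtype.ext (mul_left_cancel e'))
    have hb := (Nat.bijective_iff_injective_and_card ψ).2 ⟨hψ, by rw [Nat.card_prod, hP4, hR8, hQc, hR8]⟩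
    intro q hq
    obtain ⟨⟨p, r⟩, e⟩ := hb.2 ⟨q, hq⟩
    exact ⟨p, p.2, r, r.2, (congrArg Subtype.val e).symm⟩
  set P₁ := cmap s P with hP₁
  have hP₁R : P₁ ≤ R := by
    rintro _ ⟨p, ⟨hp, hp1⟩, rfl⟩
    obtain ⟨r, hr, rfl⟩ := hp1
    show s * (s * r * s⁻¹) * s⁻¹ ∈ R
    rw [show s * (s * r * s⁻¹) * s⁻¹ = (s * s) * r * (s * s)⁻¹ by group]
    exact h.fixT _ hss r hr
  set X := P ⊔ P₁ ⊔ zpowers z with hX
  have hW : ∀ w ∈ fourOf w₀ w₁, w ∈ X := by
    intro w hw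
    obtain ⟨p, hp, ρ, hρ, e⟩ := hbij w (h.four_vee hw).1
    rw [e]
    refine X.mul_mem (mem_sup_left (mem_sup_left hp)) (mem_sup_left (mem_sup_right ?_))
    have hρc : ∀ r ∈ R, r * ρ = ρ * r := by
      intro r hr
      refine mul_left_cancel (a := p) ?_
      calc p * (r * ρ) = r * (p * ρ) := by rw [← mul_assoc, ← hcomm r hr p hp.2, mul_assoc]
        _ = p * ρ * r := by rw [← e, (h.four_vee hw).2.2 r hr.1]
        _ = p * (ρ * r) := mul_assoc _ _ _
    by_contra hρP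
    -- then the fixed points, and the Sylow subgroup, would be abelian
    have hP₁c : Nat.card P₁ = 4 := by rw [hP₁, card_cmap, hP4]
    have hidx : (P₁.subgroupOf R).index = 2 := by
      have e1 := (P₁.subgroupOf R).card_mul_index
      rw [Nat.card_congr (subgroupOfEquivOfLe hP₁R).toEquiv, hP₁c, hR8] at e1
      omega
    have hP₁ab : ∀ x ∈ P₁, ∀ y ∈ P₁, x * y = y * x := fun x hx y hy => by
      haveI := IsPGroup.isMulCommutative_of_card_eq_prime_sq (p := 2) (hP₁c.trans (by norm_num) : Nat.card P₁ = 2 ^ 2)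
      exact setLike_mul_comm hx hy
    have hRab : ∀ x ∈ R, ∀ y ∈ R, x * y = y * x := by
      have hform : ∀ x ∈ R, x ∈ P₁ ∨ x * ρ ∈ P₁ := fun x hx => by
        by_cases k : x ∈ P₁
        · exact Or.inl k
        · exact Or.inr ((mul_mem_iff_of_index_two hidx (a := (⟨x, hx⟩ : R)) (b := ⟨ρ, hρ⟩)).2
            ⟨fun k' => absurd k' k, fun k' => absurd k' hρP⟩)
      intro x hx y hy
      have hcr : ∀ r ∈ R, Commute ρ r := fun r hr => (hρc r hr).symm
      rcases hform x hx with kx | kx <;> rcases hform y hy with ky | ky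
      · exact hP₁ab x kx y ky
      · have h1 := hP₁ab x kx _ ky
        exact mul_right_cancel (b := ρ) (by rw [mul_assoc, h1, mul_assoc y ρ x, (hcr x hx).eq, mul_assoc])
      · have h1 := hP₁ab _ kx y ky
        exact mul_right_cancel (b := ρ) (by rw [mul_assoc x y, ← (hcr y hy).eq, ← mul_assoc, h1, mul_assoc])
      · have h1 := hP₁ab _ kx _ ky
        rw [(hcr y hy).mul_mul_mul_comm, (hcr x hx).mul_mul_mul_comm] at h1
        exact mul_right_cancel h1
    have hTab : ∀ x ∈ T, ∀ y ∈ T, x * y = y * x := by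
      let χ : ↥R × ↥R₁ → ↥T := fun p => ⟨(p.1 : G) * p.2, T.mul_mem (h.max.core_le_T p.1.2.1) (hR₁T p.2.2)⟩
      have hχ : Function.Injective χ := by
        rintro ⟨r, x⟩ ⟨r', x'⟩ e
        have e' : (r : G) * x = r' * x' := congrArg Subtype.val e
        have h1 : (r' : G)⁻¹ * r = x' * (x : G)⁻¹ := by
          rw [eq_mul_inv_iff_mul_eq, mul_assoc, e', inv_mul_cancel_left]
        have h2 : (r' : G)⁻¹ * r ∈ R ⊓ R₁ :=
          ⟨R.mul_mem (R.inv_mem r'.2) r.2, h1 ▸ R₁.mul_mem x'.2 (R₁.inv_mem x.2)⟩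
        rw [hbot, mem_bot] at h2
        have h3 : r' = r := Subtype.ext (inv_mul_eq_one.1 h2)
        subst h3
        exact Prod.ext rfl (Subtype.ext (mul_left_cancel e'))
      have hb := (Nat.bijective_iff_injective_and_card χ).2 ⟨hχ, by rw [Nat.card_prod, hR₁c, hR8]; omega⟩
      intro x hx y hy
      obtain ⟨⟨r, x₁⟩, e1⟩ := hb.2 ⟨x, hx⟩
      obtain ⟨⟨r', y₁⟩, e2⟩ := hb.2 ⟨y, hy⟩
      rw [show x = (r : G) * x₁ from (congrArg Subtype.val e1).symm, show y = (r' : G) * y₁ from (congrArg Subtype.val e2).symm]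
      have hR₁ab : (x₁ : G) * y₁ = y₁ * x₁ := by
        obtain ⟨u, hu, hu'⟩ := x₁.2
        obtain ⟨v, hv, hv'⟩ := y₁.2
        rw [← hu', ← hv', ← map_mul, ← map_mul, hRab u hu v hv]
      rw [(show Commute (x₁ : G) r' from (hcomm r' r'.2 x₁ x₁.2).symm).mul_mul_mul_comm,
        (show Commute (y₁ : G) r from (hcomm r r.2 y₁ y₁.2).symm).mul_mul_mul_comm, hRab r r.2 r' r'.2, hR₁ab]
    have := hTab b h.bT w₁ (h.max.core_le_T h.w1V.1)
    rw [h.w1b] at this
    exact h.w0ne (mul_eq_left.1 (mul_right_cancel this))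
  have hPQ : X ≤ Q := sup_le (sup_le inf_le_left (hP₁R.trans inf_le_left)) (zpowers_le.2 h.max.z_mem)
  have hconj : ∀ g : G, (∀ p ∈ P, g * p * g⁻¹ ∈ X) → (∀ p ∈ P, g * (s * p * s⁻¹) * g⁻¹ ∈ X) →
      g * z * g⁻¹ ∈ X → ∀ x ∈ X, g * x * g⁻¹ ∈ X := by
    intro g h1 h2 h3
    have hle : X ≤ X.comap (MulAut.conj g).toMonoidHom :=
      sup_le (sup_le h1 (by rintro _ ⟨p, hp, rfl⟩; exact h2 p hp)) (zpowers_le.2 h3)
    exact fun x hx => hle hx
  have hPT : ∀ t ∈ T, ∀ p ∈ P, t * p * t⁻¹ ∈ P := fun t ht p hp => ⟨core_conj ht.2 hp.1, hR₁n t ht p hp.2⟩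
  have hT' : ∀ t ∈ T, ∀ x ∈ X, t * x * t⁻¹ ∈ X := fun t ht => hconj t
    (fun p hp => mem_sup_left (mem_sup_left (hPT t ht p hp)))
    (fun p hp => mem_sup_left (mem_sup_right (mem_cmap.2 (by
      rw [show s⁻¹ * (t * (s * p * s⁻¹) * t⁻¹) * s = (s⁻¹ * t * s) * p * (s⁻¹ * t * s)⁻¹ by group]
      exact hPT _ (hsT' t ht) p hp))))
    (by rw [h.max.hyp.zc t ht.1, mul_inv_cancel_right]; exact mem_sup_right (mem_zpowers z))
  have hf : ∀ x ∈ X, f * x * f⁻¹ ∈ X := by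
    intro x hx
    obtain ⟨w, hw, r, hr, rfl⟩ := h.form x (hPQ hx)
    have hr' : r ∈ X := by
      have := X.mul_mem (X.inv_mem (hW w hw)) hx
      rwa [inv_mul_cancel_left] at this
    rw [show f * (w * r) * f⁻¹ = (f * w * f⁻¹) * (f * r * f⁻¹) by group, ← (mem_fix.1 hr).2, mul_inv_cancel_right]
    exact X.mul_mem (hW _ (h.fw w hw)) hr'
  refine hsM (h.max.no_move hPQ (mem_sup_right (mem_zpowers z)) (fun m hm x hx => ?_) (hconj s
    (fun p hp => mem_sup_left (mem_sup_right (conj_mem_cmap hp)))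
    (fun p hp => mem_sup_left (mem_sup_left (by
      rw [show s * (s * p * s⁻¹) * s⁻¹ = (s * s) * p * (s * s)⁻¹ by group]; exact hPT _ hss p hp)))
    (by rw [h.max.hyp.zc s hsS, mul_inv_cancel_right]; exact mem_sup_right (mem_zpowers z))))
  obtain ⟨t, ht, e | e | e⟩ := hgen m hm <;> rw [e]
  · exact hT' t ht x hx
  · rw [show f * t * x * (f * t)⁻¹ = f * (t * x * t⁻¹) * f⁻¹ by group]; exact hf _ (hT' t ht x hx)
  · rw [show f * f * t * x * (f * f * t)⁻¹ = f * (f * (t * x * t⁻¹) * f⁻¹) * f⁻¹ by group]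
    exact hf _ (hf _ (hT' t ht x hx))

theorem fix_comm : ∀ r ∈ Fix M f, ∀ r' ∈ Fix M f, r * r' = r' * r := h.fix_four_comm h.fix_le_four

theorem Qc : ∀ p ∈ Cfsg.pCoreOf 2 M, ∀ q ∈ Cfsg.pCoreOf 2 M, p * q = q * p := h.core_comm h.fix_comm

/-- The centralizer of `w₁` in `S` is the core. -/
theorem cent_w1 {g : G} (hg : g ∈ (S : Subgroup G)) (hc : g * w₁ = w₁ * g) : g ∈ Cfsg.pCoreOf 2 M := by
  haveI : Fact (Nat.Prime 2) := ⟨Nat.prime_two⟩
  by_contra hgQ
  set K := (S : Subgroup G) ⊓ centralizer ({w₁} : Set G) with hK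
  set Q := Cfsg.pCoreOf 2 M with hQ
  have hQK : Q ≤ K := fun q hq => ⟨(h.max.core_le_T hq).1, mem_centralizer_singleton_iff.2 (h.w1V.2.2 q hq)⟩
  haveI := (S.2.to_le (inf_le_left : K ≤ (S : Subgroup G))).isNilpotent
  have hne : Q.subgroupOf K < ⊤ := lt_top_iff_ne_top.2 fun e => hgQ (by
    have h1 : (⟨g, hg, mem_centralizer_singleton_iff.2 hc⟩ : K) ∈ Q.subgroupOf K := by rw [e]; exact mem_top _
    exact h1)
  obtain ⟨y, hyN, hyQ⟩ := SetLike.exists_of_lt (Group.normalizerCondition_of_isNilpotent _ hne)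
  have hyM : (y : G) ∈ M := h.max.no_move le_rfl h.max.z_mem (fun m hm x hx => core_conj hm hx) fun x hx => by
    have h4 := conj_mem_of_normalizer hyN (show (⟨x, hQK hx⟩ : K) ∈ Q.subgroupOf K from hx)
    exact h4
  obtain ⟨q, hq, e⟩ := h.form_T (t := (y : G)) ⟨y.2.1, hyM⟩ hyQ
  have h1 := mem_centralizer_singleton_iff.1 y.2.2
  rw [e, mul_assoc, h.w1b, ← mul_assoc, ← mul_assoc, h.w1V.2.2 q hq] at h1
  have h2 : w₁ * (q * (w₀ * b)) = w₁ * (q * b) := by simpa [mul_assoc] using h1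
  exact h.w0ne (mul_eq_right.1 (mul_left_cancel (mul_left_cancel h2)))

theorem w0_T : ∀ t ∈ (S : Subgroup G) ⊓ M, t * w₀ = w₀ * t := by
  intro t ht
  by_cases hn : t ∈ Cfsg.pCoreOf 2 M
  · exact h.w0V.2.2 t hn
  · obtain ⟨q, hq, rfl⟩ := h.form_T ht hn
    rw [mul_assoc, h.bw0, ← mul_assoc, h.w0V.2.2 q hq, mul_assoc]

theorem mem_U {x : G} : x ∈ Ucent S M ↔ x ∈ Cfsg.pCoreOf 2 M ∧ b * x = x * b := by
  constructor
  · exact fun hx => ⟨hx.1, mem_centralizer_iff.1 hx.2 b h.bT⟩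
  · rintro ⟨hx, hb⟩
    refine ⟨hx, mem_centralizer_iff.2 fun t ht => ?_⟩
    by_cases hn : t ∈ Cfsg.pCoreOf 2 M
    · exact h.Qc t hn x hx
    · obtain ⟨q, hq, rfl⟩ := h.form_T ht hn
      rw [mul_assoc, hb, ← mul_assoc, h.Qc q hq x hx, mul_assoc]

theorem U_form {x : G} (hx : x ∈ Ucent S M) : x ∈ Fix M f ∨ w₀ * x ∈ Fix M f :=
  (h.comm_b hx.1).1 (h.mem_U.1 hx).2

theorem fix_U {r : G} (hr : r ∈ Fix M f) : r ∈ Ucent S M := h.mem_U.2 ⟨hr.1, h.bR r hr⟩

theorem w0_U : w₀ ∈ Ucent S M := h.mem_U.2 ⟨h.w0V.1, h.bw0⟩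

theorem q_form {q : G} (hq : q ∈ Cfsg.pCoreOf 2 M) : q ∈ Ucent S M ∨ w₁ * q ∈ Ucent S M := by
  obtain ⟨w, hw, r, hr, rfl⟩ := h.form q hq
  rcases hw with rfl | rfl | rfl | rfl
  · left; rw [one_mul]; exact h.fix_U hr
  · exact Or.inl (mul_mem h.w0_U (h.fix_U hr))
  · right; rw [← mul_assoc, h.w1sq, one_mul]; exact h.fix_U hr
  · right; rw [← mul_assoc, ← mul_assoc, h.w1sq, one_mul]; exact mul_mem h.w0_U (h.fix_U hr)

theorem w1_notU : w₁ ∉ Ucent S M := fun k => by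
  have := (h.mem_U.1 k).2
  rw [h.w1b] at this
  exact h.w0ne (mul_eq_left.1 (mul_right_cancel this))

/-- A conjugate of the core inside `T`, other than the core. -/
theorem conj_in_T {g : G} (hg : g ∈ (S : Subgroup G)) (hgM : g ∉ M)
    (hgT : ∀ q ∈ Cfsg.pCoreOf 2 M, g * q * g⁻¹ ∈ (S : Subgroup G) ⊓ M) :
    ∀ x, x ∈ cmap g (Cfsg.pCoreOf 2 M) ↔ x ∈ Ucent S M ∨ x * b ∈ Ucent S M := by
  classical
  set Q := Cfsg.pCoreOf 2 M with hQ
  set U := Ucent S M with hU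
  set Q₁ := cmap g Q with hQ₁
  have hQ₁T : Q₁ ≤ (S : Subgroup G) ⊓ M := by rintro _ ⟨q, hq, rfl⟩; exact hgT q hq
  have hQ₁c : ∀ x ∈ Q₁, ∀ y ∈ Q₁, x * y = y * x := by
    rintro _ ⟨p, hp, rfl⟩ _ ⟨q, hq, rfl⟩
    rw [← map_mul, ← map_mul, h.Qc p hp q hq]
  obtain ⟨q₀, hq₀, hn⟩ : ∃ q ∈ Q, g * q * g⁻¹ ∉ Q := by
    by_contra hne
    push Not at hne
    exact hgM (h.max.no_move le_rfl h.max.z_mem (fun m hm x hx => core_conj hm hx) hne)
  obtain ⟨p₀, hp₀, he₀⟩ := h.form_T (hgT q₀ hq₀) hn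
  -- the meet with the core commutes with `b`
  have hmeet : ∀ y ∈ Q₁, y ∈ Q → y ∈ U := by
    intro y hy hyQ
    refine h.mem_U.2 ⟨hyQ, ?_⟩
    have h1 := hQ₁c _ (conj_mem_cmap hq₀) y hy
    rw [he₀, mul_assoc, ← mul_assoc y, h.Qc y hyQ p₀ hp₀, mul_assoc p₀ y] at h1
    exact mul_left_cancel h1
  -- some involution of the conjugate is outside `U`
  obtain ⟨v, hv, hv2, hvU⟩ : ∃ v ∈ Q, v * v = 1 ∧ g * v * g⁻¹ ∉ U := by
    by_contra hne
    push Not at hne
    let I : Set G := {v | v ∈ Q ∧ v * v = 1}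
    let J : Set G := {v | v ∈ U ∧ v * v = 1}
    have h1 : (fun v => g * v * g⁻¹) '' I ⊆ J := by
      rintro _ ⟨v, hv, rfl⟩
      exact ⟨hne v hv.1 hv.2, sq_conj hv.2⟩
    have h2 := Set.ncard_le_ncard h1 (Set.toFinite _)
    rw [Set.ncard_image_of_injective _ (fun x y e => mul_left_cancel (mul_right_cancel e))] at h2
    have h3 : J ⊂ I := ⟨fun v hv => ⟨hv.1.1, hv.2⟩, fun k => h.w1_notU (k ⟨h.w1V.1, h.w1sq⟩).1⟩
    have := Set.ncard_lt_ncard h3 (Set.toFinite _)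
    omega
  set x₀ := g * v * g⁻¹ with hx₀
  have hx₀Q₁ : x₀ ∈ Q₁ := conj_mem_cmap hv
  have hx₀Q : x₀ ∉ Q := fun k => hvU (hmeet _ hx₀Q₁ k)
  obtain ⟨p, hp, he⟩ := h.form_T (hQ₁T hx₀Q₁) hx₀Q
  have hpU : p ∈ U := by
    rcases h.q_form hp with k | k
    · exact k
    exfalso
    -- then its square would be a non-trivial multiple of `w₀`
    have hsq : x₀ * x₀ = 1 := sq_conj hv2
    set u := w₁ * p with hu
    have hp' : p = w₁ * u := by rw [hu, ← mul_assoc, h.w1sq, one_mul]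
    have hub := (h.mem_U.1 k).2
    rw [he, hp'] at hsq
    rw [show w₁ * u * b * (w₁ * u * b) = w₁ * u * (b * w₁) * u * b by group, h.w1b,
      show w₁ * u * (w₁ * w₀ * b) * u * b = w₁ * (u * w₁) * w₀ * (b * u) * b by group, hub,
      h.w1V.2.2 u k.1, show w₁ * (w₁ * u) * w₀ * (u * b) * b = (w₁ * w₁) * (u * w₀) * u * (b * b) by group,
      h.w1sq, h.b2, one_mul, mul_one, h.w0V.2.2 u k.1, mul_assoc] at hsq
    have hf : w₀ ∈ Fix M f := by
      rw [eq_inv_of_mul_eq_one_left hsq]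
      refine inv_mem ?_
      rcases h.U_form k with e | e
      · exact mul_mem e e
      · have : u * u = (w₀ * u) * (w₀ * u) := by
          rw [show w₀ * u * (w₀ * u) = w₀ * (u * w₀) * u by group, h.w0V.2.2 u k.1, ← mul_assoc w₀, h.w0sq,
            one_mul]
        rw [this]; exact mul_mem e e
    exact h.w0ne (h.inFix _ (by simp [fourOf]) hf)
  -- hence the conjugate is `U ∪ U b`
  have hsub : ∀ x ∈ Q₁, x ∈ U ∨ x * b ∈ U := by
    intro x hx
    by_cases hxQ : x ∈ Q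
    · exact Or.inl (hmeet x hx hxQ)
    · right
      have h1 : x * b ∈ Q := (h.idxT x (hQ₁T hx)).resolve_left hxQ
      have h2 : x * x₀⁻¹ ∈ U := by
        refine hmeet _ (mul_mem hx (inv_mem hx₀Q₁)) ?_
        rw [he, show x * (p * b)⁻¹ = (x * b⁻¹) * p⁻¹ by group, h.bi]
        exact mul_mem h1 (inv_mem hp)
      rw [show x * b = (x * x₀⁻¹) * (x₀ * b) by group, show x₀ * b = p by rw [he, mul_assoc, h.b2, mul_one]]
      exact mul_mem h2 hpU
  -- counting
  intro x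
  refine ⟨hsub x, fun hx => ?_⟩
  let ψ : Bool × ↥(Ucent S M) → G := fun k => if k.1 then (k.2 : G) else (k.2 : G) * b
  have hUb : ∀ u ∈ U, u * b ∉ U := fun u hu k => h.bQ (by
    have := Q.mul_mem (Q.inv_mem hu.1) k.1
    rwa [inv_mul_cancel_left] at this)
  have hψ : Function.Injective ψ := by
    rintro ⟨i, u⟩ ⟨j, v⟩ e
    rcases i with _ | _ <;> rcases j with _ | _ <;> simp only [ψ, if_true, if_false, Bool.false_eq_true] at e
    · exact Prod.ext rfl (Subtype.ext (mul_right_cancel e))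
    · exact absurd (e ▸ v.2) (hUb _ u.2)
    · exact absurd (e.symm ▸ u.2) (hUb _ v.2)
    · exact Prod.ext rfl (Subtype.ext e)
  have hrange : Set.range ψ = {x | x ∈ U ∨ x * b ∈ U} := by
    ext y
    constructor
    · rintro ⟨⟨i, u⟩, rfl⟩
      rcases i with _ | _
      · exact Or.inr (by simp only [ψ, Bool.false_eq_true, if_false, mul_assoc, h.b2, mul_one]; exact u.2)
      · exact Or.inl u.2
    · rintro (k | k)
      · exact ⟨(true, ⟨y, k⟩), rfl⟩
      · exact ⟨(false, ⟨y * b, k⟩), by simp [ψ, mul_assoc, h.b2]⟩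
  have hcard : Nat.card (Bool × ↥U) ≤ Nat.card Q₁ := by
    rw [hQ₁, card_cmap, Nat.card_prod, Nat.card_eq_fintype_card (α := Bool), Fintype.card_bool]
    exact two_mul_le_of_lt (lt_of_le_of_ne inf_le_left fun e =>
      h.w1_notU (show w₁ ∈ U by rw [show U = Q from e]; exact h.w1V.1))
  have hQeq : (Q₁ : Set G) = Set.range ψ := by
    refine Set.eq_of_subset_of_ncard_le (fun y hy => hrange ▸ hsub y hy) ?_ (Set.toFinite _)
    rw [Set.ncard_range_of_injective hψ, ← Nat.card_coe_set_eq]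
    exact hcard
  have : x ∈ Set.range ψ := hrange ▸ hx
  exact (hQeq ▸ this : x ∈ (Q₁ : Set G))

end Shape

end Cfsg.Agent.ChainEight
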