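import Mathlib
import Cfsg.Agent.Lib.ChainEight.Cases

/-!
Fixed points of order four: they are cyclic, and the square lies in a quarter of the Sylow subgroup
with a commutator of order eight.
-/

set_option autoImplicit false
set_option linter.all false

namespace Cfsg.Agent.ChainEight

open Subgroup
open scoped Pointwise

universe u

variable {G : Type u} [Group G] [Finite G]

/-- What is kept when the fixed points have order four. -/
def FourData (S : Sylow 2 G) (z w : G) : Prop :=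
  ∃ σ e : G, σ * σ = 1 ∧ σ ≠ 1 ∧ σ ≠ z ∧ (∃ r ∈ (S : Subgroup G), σ = r * r) ∧ σ * w = w * σ ∧
    (∃ g ∈ (S : Subgroup G), g * w * g⁻¹ * w = e) ∧ e * σ = σ * e ∧ orderOf e = 8 ∧ e ^ 4 = z ∧
    ∃ g ∈ (S : Subgroup G), g * σ ≠ σ * g

namespace Shape

variable {S : Sylow 2 G} {z : G} {M : Subgroup G} {f b w₀ w₁ : G} (h : Shape S z M f b w₀ w₁)
include h

theorem U_sq {u : G} (hu : u ∈ Ucent S M) : ∃ r ∈ Fix M f, u * u = r * r := by
  rcases h.U_form hu with k | k
  · exact ⟨u, k, rfl⟩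
  · exact ⟨_, k, by
      rw [(show Commute u w₀ from h.w0V.2.2 u hu.1).mul_mul_mul_comm, h.w0sq, one_mul]⟩

theorem Q_sq {q : G} (hq : q ∈ Cfsg.pCoreOf 2 M) : ∃ r ∈ Fix M f, q * q = r * r := by
  obtain ⟨w, hw, r, hr, rfl⟩ := h.form q hq
  refine ⟨r, hr, ?_⟩
  rw [(show Commute r w from (h.four_vee hw).2.2 r hr.1).mul_mul_mul_comm, (h.four_vee hw).2.1, one_mul]

theorem sq_outside {u : G} (hu : u ∈ Ucent S M) : w₁ * u * b * (w₁ * u * b) = u * u * w₀ := by
  have hub : b * u = u * b := (h.mem_U.1 hu).2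
  calc w₁ * u * b * (w₁ * u * b) = w₁ * u * (b * w₁) * u * b := by group
    _ = w₁ * (u * w₁) * w₀ * (b * u) * b := by rw [h.w1b]; group
    _ = w₁ * w₁ * (u * w₀ * u) * (b * b) := by rw [hub, h.w1V.2.2 u hu.1]; group
    _ = u * (w₀ * u) := by rw [h.w1sq, h.b2]; group
    _ = u * u * w₀ := by rw [← h.w0V.2.2 u hu.1]; group

theorem four (hR : Nat.card (Fix M f) = 4) : (∃ r ∈ Fix M f, r * r ≠ 1) ∧ FourData S z w₁ := by
  classical
  haveI : Fact (Nat.Prime 2) := ⟨Nat.prime_two⟩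
  set Q := Cfsg.pCoreOf 2 M with hQ
  set T := (S : Subgroup G) ⊓ M with hT
  set R := Fix M f with hRdef
  set U := Ucent S M with hU
  have hQc : Nat.card Q = 16 := by rw [h.core4, hR]
  have hTc : Nat.card T = 32 := by rw [h.card_T, hQc]
  have hQT : Q ≤ T := h.max.core_le_T
  obtain ⟨s, hsS, hsM, hsT, hss⟩ := h.max.exists_s
  -- elements outside `M` sending the core into `T`
  have hsame : ∀ g ∈ (S : Subgroup G), g ∉ M → (∀ q ∈ Q, g * q * g⁻¹ ∈ T) →
      ∀ g' ∈ (S : Subgroup G), g' ∉ M → (∀ q ∈ Q, g' * q * g'⁻¹ ∈ T) → g⁻¹ * g' ∈ T := by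
    intro g hg hgM hgT g' hg' hg'M hg'T
    refine ⟨(S : Subgroup G).mul_mem ((S : Subgroup G).inv_mem hg) hg', h.max.no_move le_rfl h.max.z_mem (fun m hm x hx => core_conj hm hx) fun q hq => ?_⟩
    have h1 := (h.conj_in_T hg hgM hgT _).2 ((h.conj_in_T hg' hg'M hg'T _).1 (conj_mem_cmap hq))
    rw [mem_cmap] at h1
    rwa [show g⁻¹ * g' * q * (g⁻¹ * g')⁻¹ = g⁻¹ * (g' * q * g'⁻¹) * g by group]
  -- the normalizer of `T`
  set T₁ := (S : Subgroup G) ⊓ normalizer (T : Set G) with hT₁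
  have hTT₁ : T ≤ T₁ := fun t ht => ⟨ht.1, le_normalizer ht⟩
  have hsT₁ : s ∈ T₁ := ⟨hsS, mem_normalizer_of_map_le hsT⟩
  have hT₁q : ∀ x ∈ T₁, ∀ q ∈ Q, x * q * x⁻¹ ∈ T := fun x hx q hq => conj_mem_of_normalizer hx.2 (hQT hq)
  have hT₁M : ∀ x ∈ T₁, x ∈ M → x ∈ T := fun x hx hxM => ⟨hx.1, hxM⟩
  have hdich : ∀ x ∈ T₁, x ∉ M → ∀ y ∈ T₁, y ∈ T ∨ x⁻¹ * y ∈ T := fun x hx hxM y hy => by
    by_cases k : y ∈ M
    · exact Or.inl ⟨hy.1, k⟩
    · exact Or.inr (hsame x hx.1 hxM (hT₁q x hx) y hy.1 k (hT₁q y hy))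
  have hsplit : ∀ X : Subgroup G, X ≤ T₁ → ∀ x ∈ X, x ∉ M → Nat.card X ≤ 2 * Nat.card ↥(X ⊓ T) := by
    intro X hX x hx hxM
    let φ : X → Bool × ↥(X ⊓ T) := fun y =>
      if hy : (y : G) ∈ T then (true, ⟨y, y.2, hy⟩) else
        (false, ⟨x⁻¹ * y, X.mul_mem (X.inv_mem hx) y.2, (hdich x (hX hx) hxM y (hX y.2)).resolve_left hy⟩)
    have hφ : Function.Injective φ := by
      intro y y' e
      simp only [φ] at e
      split_ifs at e with h1 h2
      · exact Subtype.ext (congrArg (fun p => ((p.2 : ↥(X ⊓ T)) : G)) e)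
      · exact absurd (congrArg Prod.fst e) (by simp)
      · exact absurd (congrArg Prod.fst e) (by simp)
      · have e' : x⁻¹ * (y : G) = x⁻¹ * y' := congrArg (fun p => ((p.2 : ↥(X ⊓ T)) : G)) e
        exact Subtype.ext (mul_left_cancel e')
    have := Nat.card_le_card_of_injective φ hφ
    rwa [Nat.card_prod, Nat.card_eq_fintype_card (α := Bool), Fintype.card_bool] at this
  have hT₁c : Nat.card T₁ = 64 := by
    have h1 := hsplit T₁ le_rfl s hsT₁ hsM
    rw [inf_eq_right.2 hTT₁, hTc] at h1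
    have h2 := two_mul_le_of_lt (lt_of_le_of_ne hTT₁ fun e => hsM (e ▸ hsT₁ : s ∈ T).2)
    rw [hTc] at h2
    omega
  have hidx : (T₁.subgroupOf (S : Subgroup G)).index = 2 := by
    have e := (T₁.subgroupOf (S : Subgroup G)).card_mul_index
    rw [Nat.card_congr (subgroupOfEquivOfLe (inf_le_left : T₁ ≤ (S : Subgroup G))).toEquiv, hT₁c,
      h.max.hyp.card] at e
    omega
  haveI hnorm := Subgroup.normal_of_index_eq_two hidx
  have hconj1 : ∀ g ∈ (S : Subgroup G), ∀ x ∈ T₁, g * x * g⁻¹ ∈ T₁ := fun g hg x hx =>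
    hnorm.conj_mem ⟨x, hx.1⟩ hx ⟨g, hg⟩
  obtain ⟨g, hg, hgT₁⟩ : ∃ g ∈ (S : Subgroup G), g ∉ T₁ := by
    by_contra hne
    push Not at hne
    have := Nat.card_le_card_of_injective _ (Subgroup.inclusion_injective (show (S : Subgroup G) ≤ T₁ from hne))
    rw [h.max.hyp.card, hT₁c] at this
    omega
  have hgM : g ∉ M := fun k => hgT₁ (hTT₁ ⟨hg, k⟩)
  have hS : ∀ k ∈ (S : Subgroup G), k ∈ T₁ ∨ k * g ∈ T₁ := fun k hk => by
    by_cases hk1 : k ∈ T₁
    · exact Or.inl hk1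
    · exact Or.inr ((mul_mem_iff_of_index_two hidx (a := (⟨k, hk⟩ : (S : Subgroup G))) (b := ⟨g, hg⟩)).2
        ⟨fun k' => absurd k' hk1, fun k' => absurd k' hgT₁⟩)
  have hg2 : g * g ∈ T₁ :=
    (mul_mem_iff_of_index_two hidx (a := (⟨g, hg⟩ : (S : Subgroup G))) (b := ⟨g, hg⟩)).2 Iff.rfl
  -- central elements of `T`
  have hUT : ∀ c ∈ T, (∀ t ∈ T, c * t = t * c) → c ∈ U := fun c hc hcc => by
    have hcQ : c ∈ Q := h.cent_w1 hc.1 (hcc w₁ (hQT h.w1V.1))
    exact h.mem_U.2 ⟨hcQ, (hcc b h.bT).symm⟩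
  have hUc : ∀ u ∈ U, ∀ t ∈ T, u * t = t * u := fun u hu t ht => (mem_centralizer_iff.1 hu.2 t ht).symm
  have hUle : U ≤ T := fun u hu => hQT hu.1
  have hxU : ∀ x ∈ T₁, ∀ u ∈ U, x * u * x⁻¹ ∈ U := fun x hx u hu => by
    refine hUT _ (conj_mem_of_normalizer hx.2 (hUle hu)) fun t ht => ?_
    have h1 := hUc u hu (x⁻¹ * t * x) (by simpa using conj_mem_of_normalizer (inv_mem hx.2) ht)
    calc x * u * x⁻¹ * t = x * (u * (x⁻¹ * t * x)) * x⁻¹ := by group
      _ = x * (x⁻¹ * t * x * u) * x⁻¹ := by rw [h1]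
      _ = t * (x * u * x⁻¹) := by group
  have hU8 : Nat.card U ≤ 8 := by
    have := two_mul_le_of_lt (lt_of_le_of_ne (inf_le_left : U ≤ Q) fun e =>
      h.w1_notU (show w₁ ∈ U by rw [show U = Q from e]; exact h.w1V.1))
    change 2 * Nat.card U ≤ Nat.card Q at this
    omega
  -- no element outside `T` centralizes `U`
  have hnc : ∀ x ∈ T₁, x ∉ M → (∀ u ∈ U, x * u = u * x) → False := by
    intro x hx hxM hxc
    have hc1 : ∀ k ∈ T₁, ∀ u ∈ U, k * u = u * k := fun k hk u hu => by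
      rcases hdich x hx hxM k hk with e | e
      · exact (hUc u hu k e).symm
      · have h1 : Commute (x⁻¹ * k) u := (hUc u hu _ e).symm
        have h2 := (show Commute x u from hxc u hu).mul_left h1
        rwa [mul_inv_cancel_left] at h2
    have hgU : ∀ u ∈ U, g * u * g⁻¹ ∈ U := by
      intro u hu
      have hcomm : ∀ k ∈ T₁, k * (g * u * g⁻¹) = g * u * g⁻¹ * k := fun k hk => by
        have h1 := hc1 (g⁻¹ * k * g) (by simpa using hconj1 g⁻¹ (inv_mem hg) k hk) u hu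
        calc k * (g * u * g⁻¹) = g * (g⁻¹ * k * g * u) * g⁻¹ := by group
          _ = g * (u * (g⁻¹ * k * g)) * g⁻¹ := by rw [h1]
          _ = g * u * g⁻¹ * k := by group
      have hm : g * u * g⁻¹ ∈ T₁ := hconj1 g hg u (hTT₁ (hUle hu))
      have hM' : g * u * g⁻¹ ∈ M := h.max.no_move le_rfl h.max.z_mem (fun m hm x hx => core_conj hm hx) fun q hq => by
        rw [← hcomm q (hTT₁ (hQT hq)), mul_inv_cancel_right]; exact hq
      exact hUT _ (hT₁M _ hm hM') fun t ht => (hcomm t (hTT₁ ht)).symm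
    have hkey : ∀ r ∈ R, g * r = r * g → r = 1 := fun r hr e => h.no_fixed hr fun k hk => by
      rcases hS k hk with e' | e'
      · exact hc1 k e' r (h.fix_U hr)
      · have h1 : Commute (k * g) r := hc1 _ e' r (h.fix_U hr)
        have h2 := h1.mul_left (show Commute g r from e).inv_left
        rwa [mul_inv_cancel_right] at h2
    by_cases hel : ∀ r ∈ R, r * r = 1
    · have hU2 : ∀ u ∈ U, u * u = 1 := fun u hu => by
        obtain ⟨r, hr, e⟩ := h.U_sq hu
        rw [e, hel r hr]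
      have hUcom : ∀ u ∈ U, ∀ v ∈ U, u * v = v * u := fun u hu v hv => hUc u hu v (hUle hv)
      let D : G → G := fun u => u * (g * u * g⁻¹)
      have hDg : ∀ r ∈ R, g * D r = D r * g := fun r hr => by
        have h1 : g * g * r * (g * g)⁻¹ = r := by rw [hc1 _ hg2 r (h.fix_U hr), mul_inv_cancel_right]
        have h2 : g * D r * g⁻¹ = D r := by
          calc g * (r * (g * r * g⁻¹)) * g⁻¹ = g * r * g⁻¹ * (g * g * r * (g * g)⁻¹) := by group
            _ = g * r * g⁻¹ * r := by rw [h1]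
            _ = r * (g * r * g⁻¹) := hUcom _ (hgU r (h.fix_U hr)) _ (h.fix_U hr)
        exact mul_inv_eq_iff_eq_mul.1 h2
      have hDmul : ∀ r ∈ R, ∀ r' ∈ R, D (r * r') = D r * D r' := fun r hr r' hr' => by
        show r * r' * (g * (r * r') * g⁻¹) = r * (g * r * g⁻¹) * (r' * (g * r' * g⁻¹))
        rw [(show Commute (g * r * g⁻¹) r' from hUcom _ (hgU r (h.fix_U hr)) _ (h.fix_U hr')).mul_mul_mul_comm]
        group
      have hw : ∀ r ∈ R, r ≠ 1 → w₀ * D r ∈ R := fun r hr hr1 => by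
        have hDU : D r ∈ U := U.mul_mem (h.fix_U hr) (hgU r (h.fix_U hr))
        refine (h.U_form hDU).resolve_left fun k => hr1 (hkey r hr ?_)
        have hD1 : r * (g * r * g⁻¹) = 1 := hkey _ k (hDg r hr)
        have h3 := mul_eq_one_iff_inv_eq.1 hD1
        rw [inv_eq_of_mul_eq_one_right (hel r hr)] at h3
        exact (mul_inv_eq_iff_eq_mul.1 h3.symm)
      haveI : Nontrivial R := Finite.one_lt_card_iff_nontrivial.1 (by omega)
      obtain ⟨r, hr⟩ := exists_ne (1 : R)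
      obtain ⟨r', hr', hrr⟩ : ∃ r' : R, r' ≠ 1 ∧ r' ≠ r := by
        by_contra hno
        push Not at hno
        have : Nat.card R ≤ Nat.card Bool := by
          refine Nat.card_le_card_of_injective (fun x : R => decide (x = 1)) fun x y e => ?_
          by_cases hx : x = 1
          · simp [hx] at e; rw [hx, e]
          · simp [hx] at e; rw [hno x hx, hno y e]
        rw [Nat.card_eq_fintype_card (α := Bool), Fintype.card_bool] at this
        omega
      have h1 := hw r r.2 fun e => hr (Subtype.ext e)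
      have h2 := hw r' r'.2 fun e => hr' (Subtype.ext e)
      have h3 := hw ((r : G) * r') (R.mul_mem r.2 r'.2) fun e => hrr (Subtype.ext (by
        rw [← mul_one (r : G), ← hel r' r'.2, ← mul_assoc, e, one_mul]))
      rw [hDmul r r.2 r' r'.2] at h3
      have hcD : Commute (D r) w₀ :=
        h.w0V.2.2 _ (U.mul_mem (h.fix_U r.2) (hgU r (h.fix_U r.2))).1
      have h4 : w₀ * D r * (w₀ * D r') ∈ R := R.mul_mem h1 h2
      rw [hcD.mul_mul_mul_comm, h.w0sq, one_mul] at h4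
      refine h.w0ne (h.inFix w₀ (by simp [fourOf]) ?_)
      have := R.mul_mem h3 (R.inv_mem h4)
      rwa [mul_inv_cancel_right] at this
    · push Not at hel
      obtain ⟨r₀, hr₀, hr₀'⟩ := hel
      have hsq4 : ∀ r ∈ R, r * r = 1 ∨ r * r = r₀ * r₀ := by
        intro r hr
        by_contra hne
        push Not at hne
        -- two cyclic generators of a group of order four
        have ho : orderOf (⟨r₀, hr₀⟩ : R) = 4 := by
          have hd : orderOf (⟨r₀, hr₀⟩ : R) ∣ 2 ^ 2 := (_root_.orderOf_dvd_natCard _).trans (dvd_of_eq (hR.trans (by norm_num)))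
          refine orderOf_eq_prime_pow (p := 2) (n := 1) (fun e => hr₀' ?_) (orderOf_dvd_iff_pow_eq_one.1 hd)
          simpa [pow_two] using congrArg Subtype.val e
        haveI : IsCyclic R := isCyclic_of_orderOf_eq_card _ (ho.trans hR.symm)
        have hz := (Nat.card_zpowers (⟨r₀, hr₀⟩ : R)).trans (ho.trans hR.symm)
        rw [card_eq_iff_eq_top] at hz
        obtain ⟨k, hk⟩ := mem_zpowers_iff.1 (hz ▸ mem_top (⟨r, hr⟩ : R))
        have hk' : r₀ ^ k = r := congrArg Subtype.val hk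
        have hs2 : (r₀ * r₀) ^ k = r * r := by rw [(Commute.refl r₀).mul_zpow, hk']
        have h4 : (r₀ * r₀) ^ (2 : ℤ) = 1 := by
          rw [zpow_two, show r₀ * r₀ * (r₀ * r₀) = r₀ ^ 4 by rw [pow_succ, pow_succ, pow_two]; group]
          exact congrArg Subtype.val (orderOf_dvd_iff_pow_eq_one.1 (dvd_of_eq ho) : (⟨r₀, hr₀⟩ : R) ^ 4 = 1)
        rw [← Int.mul_ediv_add_emod k 2, zpow_add, zpow_mul, h4, one_zpow, one_mul] at hs2
        rcases Int.emod_two_eq_zero_or_one k with e | e <;> rw [e] at hs2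
        · exact hne.1 (by rw [← hs2, zpow_zero])
        · exact hne.2 (by rw [← hs2, zpow_one])
      refine hr₀' (hkey _ (R.mul_mem hr₀ hr₀) ?_)
      obtain ⟨r, hr, e⟩ := h.U_sq (hgU r₀ (h.fix_U hr₀))
      have e1 : g * (r₀ * r₀) * g⁻¹ = r * r := by rw [← e]; group
      rcases hsq4 r hr with k | k <;> rw [k] at e1
      · exact absurd (conj_eq_one_iff.1 e1) hr₀'
      · exact mul_inv_eq_iff_eq_mul.1 e1
  -- the conjugate of the core
  set E := cmap g Q with hE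
  have hET : E ≤ T₁ := by rintro _ ⟨q, hq, rfl⟩; exact hconj1 g hg q (hTT₁ (hQT hq))
  have hEc : ∀ x ∈ E, ∀ y ∈ E, x * y = y * x := by
    rintro _ ⟨p, hp, rfl⟩ _ ⟨q, hq, rfl⟩
    rw [← map_mul, ← map_mul, h.Qc p hp q hq]
  obtain ⟨x', hx'E, hx'M⟩ : ∃ x ∈ E, x ∉ M := by
    by_contra hne
    push Not at hne
    have hgT : ∀ q ∈ Q, g * q * g⁻¹ ∈ T := fun q hq => hT₁M _ (hET (conj_mem_cmap hq)) (hne _ (conj_mem_cmap hq))
    have := hsame s hsS hsM (hT₁q s hsT₁) g hg hgM hgT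
    exact hgT₁ (by rw [← mul_inv_cancel_left s g]; exact mul_mem hsT₁ (hTT₁ this))
  have hmeet : ∀ y ∈ E, y ∈ T → y ∈ U ∨ ∃ u ∈ U, y = w₁ * u * b := by
    intro y hy hyT
    have hx := h.conj_in_T (hET hx'E).1 hx'M (hT₁q x' (hET hx'E))
    by_cases hyQ : y ∈ Q
    · rcases (hx y).1 (by rw [← mul_inv_cancel_right y x', ← hEc x' hx'E y hy]; exact conj_mem_cmap hyQ) with k | k
      · exact Or.inl k
      · refine absurd ?_ h.bQ
        have := Q.mul_mem (Q.inv_mem hyQ) k.1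
        rwa [inv_mul_cancel_left] at this
    · obtain ⟨q, hq, e⟩ := h.form_T hyT hyQ
      rcases h.q_form hq with k | k
      · exfalso
        have h1 := (hx y).2 (Or.inr (by rw [e, mul_assoc, h.b2, mul_one]; exact k))
        rw [mem_cmap, mul_assoc, hEc y hy x' hx'E, inv_mul_cancel_left] at h1
        exact hyQ h1
      · exact Or.inr ⟨w₁ * q, k, by rw [e, ← mul_assoc w₁ w₁, h.w1sq, one_mul]⟩
  have hu2 : ∀ u ∈ U, u * u * w₀ ≠ 1 := fun u hu e => by
    obtain ⟨r, hr, e'⟩ := h.U_sq hu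
    refine h.w0ne (h.inFix w₀ (by simp [fourOf]) ?_)
    rw [eq_inv_of_mul_eq_one_right e, e']
    exact inv_mem (mul_mem hr hr)
  set x := g * w₁ * g⁻¹ with hxdef
  have hxE : x ∈ E := conj_mem_cmap h.w1V.1
  have hx1 : x ∈ T₁ := hET hxE
  have hx2 : x * x = 1 := sq_conj h.w1sq
  have hxi : x⁻¹ = x := inv_eq_of_mul_eq_one_right hx2
  have hxM : x ∉ M := fun k => by
    rcases hmeet x hxE (hT₁M x hx1 k) with e | ⟨u, hu, e⟩
    · -- it would be central in `T`
      have hle : cmap g⁻¹ T ≤ Q := by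
        rintro _ ⟨t, ht, rfl⟩
        refine h.cent_w1 ?_ ?_
        · show g⁻¹ * t * g⁻¹⁻¹ ∈ (S : Subgroup G)
          exact mul_mem (mul_mem (inv_mem hg) ht.1) (by simpa using hg)
        · show g⁻¹ * t * g⁻¹⁻¹ * w₁ = w₁ * (g⁻¹ * t * g⁻¹⁻¹)
          calc g⁻¹ * t * g⁻¹⁻¹ * w₁ = g⁻¹ * (t * x) * g := by rw [hxdef]; group
            _ = g⁻¹ * (x * t) * g := by rw [hUc x e t ht]
            _ = w₁ * (g⁻¹ * t * g⁻¹⁻¹) := by rw [hxdef]; group
      have := Nat.card_le_card_of_injective _ (Subgroup.inclusion_injective hle)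
      rw [card_cmap, hTc, hQc] at this
      omega
    · rw [e, h.sq_outside hu] at hx2
      exact hu2 u hu hx2
  obtain ⟨y, hyE, hyT, hyU⟩ : ∃ y ∈ E, y ∈ T ∧ y ∉ U := by
    by_contra hne
    push Not at hne
    have hle : E ⊓ T ≤ U := fun y hy => hne y hy.1 hy.2
    have h1 := hsplit E hET x hxE hxM
    rw [show Nat.card E = 16 from (card_cmap g Q).trans hQc] at h1
    have h2 : E ⊓ T = U := eq_of_le_of_card_ge hle (by omega)
    exact hnc x hx1 hxM fun u hu => hEc x hxE u (h2 ▸ hu : u ∈ E ⊓ T).1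
  obtain ⟨u, hu, hy⟩ := (hmeet y hyE hyT).resolve_left hyU
  by_cases hel : ∀ r ∈ R, r * r = 1
  · exfalso
    have hy2 : y * y = 1 := by
      obtain ⟨q, hq, rfl⟩ := hyE
      obtain ⟨r, hr, e⟩ := h.Q_sq hq
      rw [← map_mul, e, hel r hr, map_one]
    rw [hy, h.sq_outside hu] at hy2
    exact hu2 u hu hy2
  push Not at hel
  obtain ⟨r₀, hr₀, hr₀'⟩ := hel
  set σ := r₀ * r₀ with hσ
  have hσR : σ ∈ R := R.mul_mem hr₀ hr₀
  have ho : orderOf r₀ = 4 := by
    have hd : orderOf (⟨r₀, hr₀⟩ : R) ∣ 2 ^ 2 := (_root_.orderOf_dvd_natCard _).trans (dvd_of_eq (hR.trans (by norm_num)))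
    rw [← Subgroup.orderOf_mk r₀ hr₀]
    refine orderOf_eq_prime_pow (p := 2) (n := 1) (fun e => hr₀' ?_) (orderOf_dvd_iff_pow_eq_one.1 hd)
    simpa [pow_two] using congrArg Subtype.val e
  have hR4 : ∀ r ∈ R, r = 1 ∨ r = r₀ ∨ r = σ ∨ r = σ * r₀ := by
    intro r hr
    have hle : zpowers r₀ = R := eq_of_le_of_card_ge (zpowers_le.2 hr₀) (by rw [Nat.card_zpowers, ho, hR])
    obtain ⟨k, hk, rfl⟩ : ∃ k < 4, r₀ ^ k = r := by
      have := (isOfFinOrder_of_finite r₀).mem_zpowers_iff_mem_range_orderOf.1 (hle.symm ▸ hr : r ∈ zpowers r₀)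
      simp only [Finset.mem_image, Finset.mem_range] at this
      rwa [ho] at this
    interval_cases k
    · exact Or.inl (pow_zero _)
    · exact Or.inr (Or.inl (pow_one _))
    · exact Or.inr (Or.inr (Or.inl (pow_two _)))
    · exact Or.inr (Or.inr (Or.inr (by rw [pow_succ, pow_two])))
  have hσ2 : σ * σ = 1 := by
    rw [hσ, show r₀ * r₀ * (r₀ * r₀) = r₀ ^ 4 by rw [pow_succ, pow_succ, pow_two]; group, ← ho, pow_orderOf_eq_one]
  have hRsq : ∀ r ∈ R, r * r = 1 ∨ r * r = σ := fun r hr => by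
    rcases hR4 r hr with rfl | rfl | rfl | rfl
    · exact Or.inl (one_mul 1)
    · exact Or.inr rfl
    · exact Or.inl hσ2
    · right
      rw [(show Commute r₀ σ from (Commute.refl r₀).mul_right (Commute.refl r₀)).mul_mul_mul_comm, hσ2, one_mul]
  have hRinv : ∀ r ∈ R, r * r = 1 → r = 1 ∨ r = σ := fun r hr e => by
    rcases hR4 r hr with rfl | rfl | rfl | rfl
    · exact Or.inl rfl
    · exact absurd e hr₀'
    · exact Or.inr rfl
    · rw [(show Commute r₀ σ from (Commute.refl r₀).mul_right (Commute.refl r₀)).mul_mul_mul_comm, hσ2, one_mul] at e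
      exact absurd e hr₀'
  have hw0R : w₀ ∉ R := fun k => h.w0ne (h.inFix w₀ (by simp [fourOf]) k)
  -- the element `c`
  set v := x * w₁ * x with hv
  have hvU : v * b ∈ U := by
    rcases (h.conj_in_T hx1.1 hxM (hT₁q x hx1) v).1
      (by have := conj_mem_cmap (g := x) h.w1V.1; rwa [hxi] at this) with k | k
    · exfalso
      have h1 := hxU x hx1 v k
      rw [hxi, hv, show x * (x * w₁ * x) * x = (x * x) * w₁ * (x * x) by group, hx2, one_mul, mul_one] at h1
      exact h.w1_notU h1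
    · exact k
  set u₁ := v * b with hu₁
  have hv' : v = u₁ * b := by rw [hu₁, mul_assoc, h.b2, mul_one]
  have hu₁b : b * u₁ = u₁ * b := (h.mem_U.1 hvU).2
  have hu₁2 : u₁ * u₁ = 1 := by
    have hv2 : v * v = 1 := by
      rw [hv, show x * w₁ * x * (x * w₁ * x) = x * w₁ * (x * x) * w₁ * x by group, hx2, mul_one,
        mul_assoc x, h.w1sq, mul_one, hx2]
    rwa [hv', (show Commute b u₁ from hu₁b).mul_mul_mul_comm, h.b2, mul_one] at hv2
  set c := w₁ * u₁ * b with hc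
  have hc2 : c * c = w₀ := by rw [hc, h.sq_outside hvU, hu₁2, one_mul]
  have hcv : c = w₁ * v := by rw [hc, hv', mul_assoc]
  have hxc : x * c * x = c⁻¹ := by
    refine eq_inv_of_mul_eq_one_left ?_
    rw [hcv, hv, show x * (w₁ * (x * w₁ * x)) * x * (w₁ * (x * w₁ * x)) =
      x * w₁ * x * w₁ * (x * x) * w₁ * x * w₁ * x by group, hx2, mul_one, mul_assoc _ w₁ w₁, h.w1sq, mul_one,
      mul_assoc _ x x, hx2, mul_one, mul_assoc _ w₁ w₁, h.w1sq, mul_one, hx2]
  set u₂ := u₁⁻¹ * u with hu₂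
  have hu₂U : u₂ ∈ U := U.mul_mem (U.inv_mem hvU) hu
  have hyc : y = c * u₂ := by
    rw [hy, hc, mul_assoc _ b u₂, (h.mem_U.1 hu₂U).2, hu₂]; group
  have hxu : x * u₂ * x = w₀ * u₂ := by
    have h1 : x * y * x = y := by rw [hEc x hxE y hyE, mul_assoc, hx2, mul_one]
    rw [hyc, show x * (c * u₂) * x = x * c * (1 * (u₂ * x)) by group, ← hx2,
      show x * c * (x * x * (u₂ * x)) = x * c * x * (x * u₂ * x) by group, hxc, inv_mul_eq_iff_eq_mul] at h1
    rw [h1, ← mul_assoc, hc2]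
  have hxw : x * w₀ * x = w₀ := by
    rw [← hc2, show x * (c * c) * x = x * c * (1 * (c * x)) by group, ← hx2,
      show x * c * (x * x * (c * x)) = x * c * x * (x * c * x) by group, hxc, ← mul_inv_rev, hc2,
      inv_eq_of_mul_eq_one_right h.w0sq]
  have hxσ : x * σ * x = σ := by
    obtain ⟨r, hr, e⟩ := h.U_sq (hxU x hx1 r₀ (h.fix_U hr₀))
    have e1 : x * σ * x⁻¹ = r * r := by rw [← e, hσ]; group
    rw [hxi] at e1
    rcases hRsq r hr with k | k <;> rw [k] at e1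
    · exfalso
      refine hr₀' ?_
      rw [show σ = x * x * σ * (x * x) by rw [hx2]; group, show x * x * σ * (x * x) = x * (x * σ * x) * x by group,
        e1, mul_one, hx2]
    · exact e1
  have hu₂2 : u₂ * u₂ = σ := by
    obtain ⟨r, hr, e⟩ := h.U_sq hu₂U
    refine ((hRsq r hr).resolve_left fun k => ?_) ▸ e
    rw [k] at e
    have hfix : x * u₂ * x = u₂ := by
      rcases h.U_form hu₂U with m | m
      · rcases hRinv u₂ m e with rfl' | rfl'
        · rw [rfl', mul_one, hx2]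
        · rw [rfl', hxσ]
      · have e' : w₀ * u₂ * (w₀ * u₂) = 1 := by
          rw [(show Commute u₂ w₀ from h.w0V.2.2 u₂ hu₂U.1).mul_mul_mul_comm, h.w0sq, e, mul_one]
        have hu' : u₂ = w₀ * (w₀ * u₂) := by rw [← mul_assoc, h.w0sq, one_mul]
        rcases hRinv _ m e' with k' | k' <;> rw [hu', k']
        · rw [mul_one, hxw]
        · rw [show x * (w₀ * σ) * x = x * w₀ * (1 * (σ * x)) by group, ← hx2,
            show x * w₀ * (x * x * (σ * x)) = x * w₀ * x * (x * σ * x) by group, hxw, hxσ]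
    rw [hfix] at hxu
    exact h.w0ne (right_eq_mul.1 hxu)
  have hcu : Commute u₂ c := hUc u₂ hu₂U c (by
    rw [hc]; exact T.mul_mem (T.mul_mem (hQT h.w1V.1) (hUle hvU)) h.bT)
  have hy2 : y * y = w₀ * σ := by rw [hyc, hcu.mul_mul_mul_comm, hc2, hu₂2]
  have hgσ : g * σ * g⁻¹ = w₀ * σ := by
    obtain ⟨q, hq, hqy⟩ := hyE
    change g * q * g⁻¹ = y at hqy
    obtain ⟨r, hr, e⟩ := h.Q_sq hq
    have e1 : g * (r * r) * g⁻¹ = w₀ * σ := by rw [← hy2, ← hqy, ← e]; group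
    rcases hRsq r hr with k | k <;> rw [k] at e1
    · rw [mul_one, mul_inv_cancel] at e1
      exact absurd (eq_inv_of_mul_eq_one_left e1.symm ▸ R.inv_mem hσR) hw0R
    · exact e1
  have hzU : z ∈ U := hUT z (hQT h.max.z_mem) fun t ht => (h.max.hyp.zc t ht.1).symm
  have hz0 : z = w₀ := by
    have hk := (h.U_form hzU).resolve_left h.z_not_fix
    have e' : w₀ * z * (w₀ * z) = 1 := by
      rw [(show Commute z w₀ from h.w0V.2.2 z hzU.1).mul_mul_mul_comm, h.w0sq, h.max.hyp.z2, mul_one]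
    have hz' : z = w₀ * (w₀ * z) := by rw [← mul_assoc, h.w0sq, one_mul]
    rcases hRinv _ hk e' with k' | k'
    · rw [hz', k', mul_one]
    · exfalso
      rw [k'] at hz'
      have : g * σ * g⁻¹ = g * z * g⁻¹ := by rw [hgσ, h.max.hyp.zc g hg, mul_inv_cancel_right, hz']
      exact h.z_not_fix (mul_left_cancel (mul_right_cancel this) ▸ hσR)
  have he2 : x * w₁ * (x * w₁) = c⁻¹ := by rw [← hxc, hcv, hv]; calc
    x * w₁ * (x * w₁) = x * w₁ * x * w₁ * (x * x) := by rw [hx2]; group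
    _ = _ := by group
  have he4 : (x * w₁) ^ 4 = z := by
    rw [show (x * w₁) ^ 4 = x * w₁ * (x * w₁) * (x * w₁ * (x * w₁)) by rw [pow_succ, pow_succ, pow_two]; group,
      he2, ← mul_inv_rev, hc2, inv_eq_of_mul_eq_one_right h.w0sq, hz0]
  have hσw : σ * w₁ = w₁ * σ := h.w1V.2.2 σ hσR.1
  refine ⟨⟨r₀, hr₀, hr₀'⟩, σ, x * w₁, hσ2, hr₀', fun e => h.z_not_fix (e ▸ hσR), ⟨r₀, (hQT hr₀.1).1, hσ⟩, hσw,
    ⟨g, hg, rfl⟩, ?_, ?_, he4, g, hg, ?_⟩
  · have hxσ' : Commute x σ := by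
      show x * σ = σ * x
      conv_rhs => rw [← hxσ, mul_assoc, hx2, mul_one]
    exact (hxσ'.mul_left (show Commute w₁ σ from hσw.symm)).eq
  · refine orderOf_eq_prime_pow (p := 2) (n := 2) ?_ ?_
    · show ¬ (x * w₁) ^ 4 = 1
      rw [he4]; exact h.max.hyp.z1
    · show (x * w₁) ^ 8 = 1
      rw [show (8 : ℕ) = 4 * 2 from rfl, pow_mul, he4, pow_two, h.max.hyp.z2]
  · intro e
    rw [e, mul_inv_cancel_right] at hgσ
    exact h.w0ne (right_eq_mul.1 hgσ)

end Shape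

end Cfsg.Agent.ChainEight
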