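import Mathlib
import Cfsg.Agent.Lib.ChainEight.Four

/-!
A 2-subgroup with an odd automorphism inside the local subgroup lies in its core.
-/

set_option autoImplicit false
set_option linter.all false

namespace Cfsg.Agent.ChainEight

open Subgroup

universe u

variable {G : Type u} [Group G] [Finite G]

/-- The vectors of the shapes. -/
def Vec (S : Sylow 2 G) (z w : G) : Prop := ∃ (M : Subgroup G) (f b w₀ : G), Shape S z M f b w₀ w

namespace Shape

variable {S : Sylow 2 G} {z : G} {M : Subgroup G} {f b w₀ w₁ : G} (h : Shape S z M f b w₀ w₁)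
include h

theorem gen_left : ∀ m ∈ M, ∃ t ∈ (S : Subgroup G) ⊓ M, m = t ∨ m = f * t ∨ m = f * f * t := by
  rcases h.gen with k | ⟨hel, h16⟩
  · exact k
  · exfalso
    have h4 : Nat.card (Fix M f) = 4 := by have := h.core4; omega
    obtain ⟨⟨r, hr, hr'⟩, -⟩ := h.four h4
    exact hr' (hel r hr.1)

theorem fix_central {r : G} (hr : r ∈ Fix M f) {m : G} (hm : m ∈ M) : m * r = r * m := by
  have hf : Commute f r := (mul_inv_eq_iff_eq_mul.1 (show f * r * f⁻¹ = r by rw [← (mem_fix.1 hr).2, mul_inv_cancel_right]) : f * r = r * f)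
  have hT : ∀ t ∈ (S : Subgroup G) ⊓ M, Commute t r := fun t ht => by
    by_cases k : t ∈ Cfsg.pCoreOf 2 M
    · exact h.Qc t k r hr.1
    · obtain ⟨q, hq, rfl⟩ := h.form_T ht k
      exact (show Commute q r from h.Qc q hq r hr.1).mul_left (h.bR r hr)
  obtain ⟨t, ht, rfl | rfl | rfl⟩ := h.gen_left m hm
  · exact (hT m ht).eq
  · exact (hf.mul_left (hT t ht)).eq
  · exact ((hf.mul_left hf).mul_left (hT t ht)).eq

theorem four_conj {w m : G} (hw : w ∈ fourOf w₀ w₁) (hm : m ∈ M) : m * w * m⁻¹ ∈ fourOf w₀ w₁ := by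
  have hT : ∀ t ∈ (S : Subgroup G) ⊓ M, ∀ v ∈ fourOf w₀ w₁, t * v * t⁻¹ ∈ fourOf w₀ w₁ := by
    intro t ht v hv
    by_cases k : t ∈ Cfsg.pCoreOf 2 M
    · rwa [(h.four_vee hv).2.2 t k, mul_inv_cancel_right]
    · obtain ⟨q, hq, rfl⟩ := h.form_T ht k
      have hb : b * v * b ∈ fourOf w₀ w₁ := by
        rcases hv with rfl | rfl | rfl | rfl
        · rw [mul_one, h.b2]; simp [fourOf]
        · rw [h.bw0, mul_assoc, h.b2, mul_one]; simp [fourOf]
        · rw [h.bw1]; simp [fourOf]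
        · rw [show b * (w₁ * w₀) * b = b * w₁ * (1 * (w₀ * b)) by group, ← h.b2,
            show b * w₁ * (b * b * (w₀ * b)) = b * w₁ * b * (b * w₀ * b) by group, h.bw1, h.bw0,
            mul_assoc w₀ b b, h.b2, mul_one, mul_assoc w₁ w₀ w₀, h.w0sq, mul_one]
          simp [fourOf]
      rw [show q * b * v * (q * b)⁻¹ = q * (b * v * b⁻¹) * q⁻¹ by group, h.bi, (h.four_vee hb).2.2 q hq,
        mul_inv_cancel_right]
      exact hb
  obtain ⟨t, ht, rfl | rfl | rfl⟩ := h.gen_left m hm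
  · exact hT m ht w hw
  · rw [show f * t * w * (f * t)⁻¹ = f * (t * w * t⁻¹) * f⁻¹ by group]
    exact h.fw _ (hT t ht w hw)
  · rw [show f * f * t * w * (f * f * t)⁻¹ = f * (f * (t * w * t⁻¹) * f⁻¹) * f⁻¹ by group]
    exact h.fw _ (h.fw _ (hT t ht w hw))

theorem le_core_of_norm {E : Subgroup G} (hE : IsPGroup 2 E) (hEM : E ≤ M) {n : G} (hn : n ∈ M)
    (hodd : Odd (orderOf n)) (hn1 : n ≠ 1) (hnE : ∀ x ∈ E, n * x * n⁻¹ ∈ E) : E ≤ Cfsg.pCoreOf 2 M := by
  classical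
  haveI : Fact (Nat.Prime 2) := ⟨Nat.prime_two⟩
  haveI : Fact (Nat.Prime 3) := ⟨Nat.prime_three⟩
  set Q := Cfsg.pCoreOf 2 M with hQ
  haveI : (Q.subgroupOf M).Normal := ⟨fun x hx m => core_conj m.2 hx⟩
  let K := (↥M ⧸ Q.subgroupOf M)
  let π : ↥M →* K := QuotientGroup.mk' (Q.subgroupOf M)
  have hker : ∀ m : M, π m = 1 ↔ (m : G) ∈ Q := fun m => QuotientGroup.eq_one_iff m
  have hπs : Function.Surjective π := QuotientGroup.mk'_surjective _
  set F := π ⟨f, h.fM⟩ with hF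
  set B := π ⟨b, h.bT.2⟩ with hB
  have hbT : ∀ m : M, (m : G) ∈ (S : Subgroup G) ⊓ M → π m = 1 ∨ π m = B := fun m hm => by
    by_cases k : (m : G) ∈ Q
    · exact Or.inl ((hker m).2 k)
    · refine Or.inr ?_
      have h1 : π (m * ⟨b, h.bT.2⟩) = 1 := (hker _).2 ((h.idxT m hm).resolve_left k)
      rw [map_mul] at h1
      have hBB : B * B = 1 := by rw [hB, ← map_mul, show (⟨b, h.bT.2⟩ : M) * ⟨b, h.bT.2⟩ = 1 from Subtype.ext h.b2, map_one]
      exact (eq_inv_of_mul_eq_one_left h1).trans (inv_eq_of_mul_eq_one_right hBB)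
  have hform : ∀ k : K, ∃ i : Fin 3, ∃ j : Bool, k = F ^ (i : ℕ) * (if j then B else 1) := by
    intro k
    obtain ⟨m, rfl⟩ := hπs k
    obtain ⟨t, ht, e⟩ := h.gen_left m m.2
    obtain ⟨j, hj⟩ : ∃ j : Bool, π ⟨t, ht.2⟩ = if j then B else 1 := by
      rcases hbT ⟨t, ht.2⟩ ht with e' | e'
      · exact ⟨false, by simpa using e'⟩
      · exact ⟨true, by simpa using e'⟩
    rcases e with e | e | e
    · exact ⟨0, j, by rw [show m = (⟨t, ht.2⟩ : M) from Subtype.ext e, hj]; simp⟩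
    · exact ⟨1, j, by rw [show m = ⟨f, h.fM⟩ * (⟨t, ht.2⟩ : M) from Subtype.ext e, map_mul, hj]; simp [hF]⟩
    · exact ⟨2, j, by rw [show m = ⟨f, h.fM⟩ * ⟨f, h.fM⟩ * (⟨t, ht.2⟩ : M) from Subtype.ext e, map_mul, map_mul, hj]; simp [hF, pow_two]⟩
  have hncomm : ¬ ∀ x y : K, x * y = y * x := by
    intro hc
    refine h.bQ (le_core inf_le_right h.max.T_isPGroup (fun m hm t ht => ?_) h.bT)
    have h1 : π (⟨m, hm⟩ * ⟨t, ht.2⟩ * ⟨m, hm⟩⁻¹ * ⟨t, ht.2⟩⁻¹) = 1 := by
      rw [map_mul, map_mul, map_mul, map_inv, map_inv, hc (π ⟨m, hm⟩), mul_inv_cancel_right, mul_inv_cancel]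
    have h2 := ((S : Subgroup G) ⊓ M).mul_mem (h.max.core_le_T ((hker _).1 h1)) ht
    simpa using h2
  have hcard : Nat.card K ≤ 6 := by
    have := Nat.card_le_card_of_surjective (fun p : Fin 3 × Bool => F ^ (p.1 : ℕ) * (if p.2 then B else 1))
      (fun k => by obtain ⟨i, j, e⟩ := hform k; exact ⟨(i, j), e.symm⟩)
    rw [Nat.card_prod, Nat.card_fin, Nat.card_eq_fintype_card (α := Bool), Fintype.card_bool] at this
    omega
  have hoF : orderOf F = 3 := orderOf_eq_prime (by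
    rw [hF, ← map_pow, show (⟨f, h.fM⟩ : M) ^ 3 = 1 from Subtype.ext (by rw [SubmonoidClass.coe_pow]; exact h.f3 ▸ pow_orderOf_eq_one f), map_one])
    fun e => h.f_not (core_isPGroup M) ((hker _).1 e)
  have hB2 : orderOf B = 2 := orderOf_eq_prime (by
    rw [hB, pow_two, ← map_mul, show (⟨b, h.bT.2⟩ : M) * ⟨b, h.bT.2⟩ = 1 from Subtype.ext h.b2, map_one])
    fun e => h.bQ ((hker _).1 e)
  have h6 : Nat.card K = 6 := by
    have h2 : 2 ∣ Nat.card K := hB2 ▸ _root_.orderOf_dvd_natCard B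
    have h3 : 3 ∣ Nat.card K := hoF ▸ _root_.orderOf_dvd_natCard F
    have := Nat.card_pos (α := K)
    omega
  intro x hx
  by_contra hxQ
  set u := π ⟨x, hEM hx⟩ with hu
  have hu1 : u ≠ 1 := fun e => hxQ ((hker _).1 e)
  set N := π ⟨n, hn⟩ with hN
  have hN1 : N ≠ 1 := fun e => hn1 (by
    obtain ⟨k, hk⟩ := core_isPGroup M ⟨n, (hker _).1 e⟩
    have hd : orderOf n ∣ 2 ^ k := orderOf_dvd_of_pow_eq_one (congrArg Subtype.val hk)
    rw [← orderOf_eq_one_iff]
    exact Nat.Coprime.eq_one_of_dvd ((Nat.coprime_two_right.2 hodd).pow_right k) hd)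
  have hN3 : orderOf N = 3 := by
    have hd : orderOf N ∣ 6 := h6 ▸ _root_.orderOf_dvd_natCard N
    have ho : Odd (orderOf N) := by
      refine Odd.of_dvd_nat hodd ?_
      rw [hN]
      have := orderOf_map_dvd π (⟨n, hn⟩ : M)
      rwa [Subgroup.orderOf_mk] at this
    have hne : orderOf N ≠ 1 := fun e => hN1 (orderOf_eq_one_iff.1 e)
    have : orderOf N ≤ 6 := Nat.le_of_dvd (by norm_num) hd
    rw [Nat.odd_iff] at ho
    interval_cases hh : orderOf N <;> omega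
  -- the image of `E` has order two
  set I := (E.subgroupOf M).map π with hI
  have hI2 : Nat.card I = 2 := by
    obtain ⟨k, hk⟩ := IsPGroup.iff_card.1 ((hE.of_equiv (subgroupOfEquivOfLe hEM).symm).map π)
    change Nat.card I = 2 ^ k at hk
    have hd : Nat.card I ∣ 6 := h6 ▸ I.card_subgroup_dvd_card
    have hne : k ≠ 0 := fun e => by
      rw [e, pow_zero] at hk
      exact hu1 (mem_bot.1 (eq_bot_of_card_eq I hk ▸ (⟨_, hx, rfl⟩ : u ∈ I)))
    rw [hk] at hd ⊢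
    obtain ⟨k', rfl⟩ := Nat.exists_eq_succ_of_ne_zero hne
    rcases k' with _ | k'
    · rfl
    · exfalso
      rw [pow_succ, pow_succ, mul_assoc] at hd
      exact absurd ((Dvd.intro_left _ rfl : 4 ∣ 2 ^ k' * (2 * 2)).trans hd) (by norm_num)
  have hconj : N * u * N⁻¹ = u := by
    have h1 : N * u * N⁻¹ ∈ I := by
      refine ⟨⟨n * x * n⁻¹, hEM (hnE x hx)⟩, hnE x hx, ?_⟩
      rw [hN, hu, ← map_inv, ← map_mul, ← map_mul]; rfl
    obtain ⟨v, hv, hu'⟩ := (Nat.card_eq_two_iff' (1 : I)).1 hI2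
    have e1 := hu' ⟨_, h1⟩ fun e => hu1 (conj_eq_one_iff.1 (congrArg Subtype.val e))
    have e2 := hu' ⟨u, _, hx, rfl⟩ fun e => hu1 (congrArg Subtype.val e)
    exact congrArg Subtype.val (e1.trans e2.symm)
  have hu2 : orderOf u = 2 := by
    have huI : u ∈ I := mem_map_of_mem π (show (⟨x, hEM hx⟩ : M) ∈ E.subgroupOf M from hx)
    have hd : orderOf (⟨u, huI⟩ : I) ∣ 2 := hI2 ▸ _root_.orderOf_dvd_natCard _
    rw [Subgroup.orderOf_mk] at hd
    exact ((Nat.dvd_prime Nat.prime_two).1 hd).resolve_left fun e => hu1 (orderOf_eq_one_iff.1 e)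
  have hNu : Commute N u := mul_inv_eq_iff_eq_mul.1 hconj
  haveI : IsCyclic K := isCyclic_of_orderOf_eq_card (N * u) (by
    rw [hNu.orderOf_mul_eq_mul_orderOf_of_coprime (by rw [hN3, hu2]; norm_num), hN3, hu2, h6])
  exact hncomm fun a c => by letI := IsCyclic.commGroup (α := K); exact mul_comm a c

end Shape

end Cfsg.Agent.ChainEight
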