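import Mathlib
import Cfsg.Agent.Lib.ChainEight.Local
import Cfsg.Agent.Techniques.Alperin.Basic

/-!
The Sylow subgroup is generated by its commutators and the vectors of the shapes.
-/

set_option autoImplicit false
set_option linter.all false

namespace Cfsg.Agent.ChainEight

open Subgroup
open scoped commutatorElement
open Cfsg.Agent.Techniques.Alperin.Basic Cfsg.Agent.CharP

universe u

variable {G : Type u} [Group G] [Finite G] {S : Sylow 2 G} {z : G}

theorem Cj.trans_conj {w : G} (h : Cj z w) (g : G) : Cj (g * z * g⁻¹) w := by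
  obtain ⟨k, rfl⟩ := h
  exact ⟨k * g⁻¹, by group⟩

theorem Cj.of_conj {w : G} {g : G} (h : Cj (g * z * g⁻¹) w) : Cj z w := by
  obtain ⟨k, rfl⟩ := h
  exact ⟨k * g, by group⟩

/-- A maximal local subgroup has a position with respect to a conjugate of `S`. -/
theorem exists_maxLoc (h : Hyp S z) {M : Subgroup G} (hM : Loc z M)
    (hmax : ∀ K : Subgroup G, Loc z K → M ≤ K → K = M) :
    ∃ g : G, MaxLoc (g • S) (g * z * g⁻¹) M := by
  haveI : Fact (Nat.Prime 2) := ⟨Nat.prime_two⟩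
  haveI := h.simple
  set Q := Cfsg.pCoreOf 2 M with hQ
  obtain ⟨X, hXM, hX, hMX, w, hwX, hzw⟩ := hM.2.2
  have hXQ : X ≤ Q := le_core hXM hX fun m hm x hx => conj_mem_of_normalizer (hMX hm) hx
  have hwQ : w ∈ Q := hXQ hwX
  have hN : normalizer (Q : Set G) = M := by
    have hle : M ≤ normalizer (Q : Set G) := le_normalizer_of_conj fun m hm x hx => core_conj hm hx
    refine hmax _ ⟨fun e => ?_, fun k => hM.2.1 (k.to_le hle), Q, le_normalizer, core_isPGroup M, le_rfl, w, hwQ, hzw⟩ hle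
    have hn : Q.Normal := normalizer_eq_top_iff.1 e
    rcases hn.eq_bot_or_eq_top with k | k
    · obtain ⟨g, rfl⟩ := hzw
      rw [k, mem_bot, conj_eq_one_iff] at hwQ
      exact h.z1 hwQ
    · exact hM.1 (top_le_iff.1 (k ▸ core_le M))
  obtain ⟨T, hT⟩ := exists_isSylIn 2 M
  obtain ⟨P, hP⟩ := hT.isPGroup.exists_le_sylow
  obtain ⟨g, rfl⟩ := MulAction.exists_smul_eq G S P
  have hh := h.conj g
  have hQT : Q ≤ T := pCoreOf_le_of_isSylIn hT
  have hzQ : ∀ q ∈ Q, q * (g * z * g⁻¹) = g * z * g⁻¹ * q := fun q hq => hh.zc q (hP (hQT hq))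
  have hzM : g * z * g⁻¹ ∈ M := hN ▸ mem_normalizer_of_map_le fun q hq => by
    rw [← hzQ q hq, mul_inv_cancel_right]; exact hq
  refine ⟨g, hh, ⟨hM.1, hM.2.1, X, hXM, hX, hMX, w, hwX, hzw.trans_conj g⟩,
    fun K hK hle => hmax K ⟨hK.1, hK.2.1, by
      obtain ⟨Y, h1, h2, h3, v, hv, hv'⟩ := hK.2.2
      exact ⟨Y, h1, h2, h3, v, hv, hv'.of_conj⟩⟩ hle, ?_, ?_⟩
  · have e : ((g • S : Sylow 2 G) : Subgroup G) ⊓ M = T :=
      hT.eq_of_le ((g • S).2.to_le inf_le_left) inf_le_right (le_inf hP hT.le)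
    rw [e]; exact hT.not_dvd
  · refine le_core (N := M ⊓ centralizer (Q : Set G)) inf_le_left
      (h.two_cent hzw fun k hk => (mem_centralizer_iff.1 hk.2 w hwQ).symm)
      (fun m hm x hx => ⟨M.mul_mem (M.mul_mem hm hx.1) (M.inv_mem hm), mem_centralizer_iff.2 fun q hq => ?_⟩)
      ⟨hzM, mem_centralizer_iff.2 hzQ⟩
    have h1 := mem_centralizer_iff.1 hx.2 (m⁻¹ * q * m) (by simpa using core_conj (inv_mem hm) hq)
    calc q * (m * x * m⁻¹) = m * (m⁻¹ * q * m * x) * m⁻¹ := by group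
      _ = m * (x * (m⁻¹ * q * m)) * m⁻¹ := by rw [h1]
      _ = m * x * m⁻¹ * q := by group

/-- The effect of an odd element on a subgroup containing `z`. -/
theorem odd_commutator (h : Hyp S z) (K : Subgroup G)
    (hcomm : ∀ x ∈ (S : Subgroup G), ∀ y ∈ (S : Subgroup G), x * y * x⁻¹ * y⁻¹ ∈ K)
    (hvec : ∀ w, Vec S z w → w ∈ K) {E : Subgroup G} (hE : E ≤ (S : Subgroup G)) (hzE : z ∈ E)
    {n : G} (hn : n ∈ normalizer (E : Set G)) (hodd : Odd (orderOf n)) {d : G} (hd : d ∈ E) :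
    d⁻¹ * (n⁻¹ * d * n) ∈ K := by
  classical
  haveI : Fact (Nat.Prime 2) := ⟨Nat.prime_two⟩
  haveI := h.simple
  by_cases hn1 : n = 1
  · subst hn1; simpa using one_mem K
  have hnp : ∀ X : Subgroup G, IsPGroup 2 X → n ∉ X := fun X hX hnX => hn1 (by
    obtain ⟨k, hk⟩ := hX ⟨n, hnX⟩
    have hd : orderOf n ∣ 2 ^ k := orderOf_dvd_of_pow_eq_one (congrArg Subtype.val hk)
    rw [← orderOf_eq_one_iff]
    exact Nat.Coprime.eq_one_of_dvd ((Nat.coprime_two_right.2 hodd).pow_right k) hd)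
  set N := normalizer (E : Set G) with hN
  have hLN : Loc z N := by
    refine ⟨fun e => ?_, fun k => hnp N k hn, E, le_normalizer, S.2.to_le hE, le_rfl, z, hzE, Cj.refl z⟩
    have hnor : E.Normal := normalizer_eq_top_iff.1 e
    rcases hnor.eq_bot_or_eq_top with k | k
    · exact h.z1 (mem_bot.1 (k ▸ hzE))
    · exact h.S_ne_top (top_le_iff.1 (k ▸ hE))
  obtain ⟨M, ⟨hM, hNM⟩, hmaxc⟩ := Set.exists_max_image {K : Subgroup G | Loc z K ∧ N ≤ K}
    (fun K => Nat.card K) (Set.toFinite _) ⟨N, hLN, le_rfl⟩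
  have hmax : ∀ K : Subgroup G, Loc z K → M ≤ K → K = M := fun K hK hle =>
    (eq_of_le_of_card_ge hle (hmaxc K ⟨hK, hNM.trans hle⟩)).symm
  obtain ⟨g, hML⟩ := exists_maxLoc h hM hmax
  obtain ⟨a, f, hpre⟩ := hML.exists_pre
  obtain ⟨b, w₀, w₁, hsh⟩ := hpre.exists_shape
  have hEQ : E ≤ Cfsg.pCoreOf 2 M := hsh.le_core_of_norm (S.2.to_le hE) (le_normalizer.trans hNM)
    (hNM hn) hodd hn1 fun x hx => conj_mem_of_normalizer hn hx
  have hzQ : z ∈ Cfsg.pCoreOf 2 M := hEQ hzE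
  have hfS : f ∉ (S : Subgroup G) := hsh.f_not S.2
  -- move the four group
  obtain ⟨v, hv, r, hr, hzv⟩ := hsh.form z hzQ
  have hfr : Commute f r := (mul_inv_eq_iff_eq_mul.1 (show f * r * f⁻¹ = r by rw [← (mem_fix.1 hr).2, mul_inv_cancel_right]) : f * r = r * f)
  have hv1 : v ≠ 1 := fun e => hfS (h.mem_S_of_comm (by rw [hzv, e, one_mul]; exact hfr.eq))
  obtain ⟨x, hxM, hxv, hxr⟩ : ∃ x ∈ M, x * w₀ * x⁻¹ = v ∧ Commute x r := by
    have hp := hsh.fw w₀ (by simp [fourOf])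
    have hne : f * w₀ * f⁻¹ ≠ w₀ := fun e => hsh.w0ne (hsh.inFix w₀ (by simp [fourOf])
      (mem_fix.2 ⟨hsh.w0V.1, by nth_rw 1 [← e]; rw [inv_mul_cancel_right]⟩))
    have hne1 : f * w₀ * f⁻¹ ≠ 1 := fun e => hsh.w0ne (conj_eq_one_iff.1 e)
    set p := f * w₀ * f⁻¹ with hp'
    have hq := hsh.fw p hp
    have hqp : f * p * f⁻¹ ≠ p := fun e => hne (mul_left_cancel (mul_right_cancel e))
    have hq1 : f * p * f⁻¹ ≠ 1 := fun e => hne1 (conj_eq_one_iff.1 e)
    have hq0 : f * p * f⁻¹ ≠ w₀ := fun e => hne (by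
      calc p = f * w₀ * f⁻¹ := hp'
        _ = f * (f * p * f⁻¹) * f⁻¹ := by rw [e]
        _ = f * (f * (f * w₀ * f⁻¹) * f⁻¹) * f⁻¹ := by rw [hp']
        _ = (f * f * f) * w₀ * (f * f * f)⁻¹ := by group
        _ = w₀ := by rw [hsh.f3']; group)
    by_cases h0 : v = w₀
    · exact ⟨1, one_mem M, by rw [h0]; group, Commute.one_left r⟩
    by_cases hpv : v = p
    · exact ⟨f, hsh.fM, hpv.symm, hfr⟩
    · refine ⟨f * f, M.mul_mem hsh.fM hsh.fM, ?_, hfr.mul_left hfr⟩
      rw [show f * f * w₀ * (f * f)⁻¹ = f * p * f⁻¹ by rw [hp']; group]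
      rcases hv with e | e | e | e
      · exact absurd e hv1
      · exact absurd e h0
      all_goals
        subst e
        rcases hp with k | k | k | k
        all_goals first | exact absurd k hne1 | exact absurd k hne | exact absurd k.symm hpv | skip
        all_goals
          rcases hq with q | q | q | q
          all_goals first | exact absurd q hq1 | exact absurd q hq0 | exact q | exact absurd (q.trans k.symm) hqp
  set T := ((g • S : Sylow 2 G) : Subgroup G) ⊓ M with hT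
  have hTS : cmap x T ≤ (S : Subgroup G) ⊓ M := by
    rintro _ ⟨t, ht, rfl⟩
    refine ⟨h.mem_S_of_comm ?_, M.mul_mem (M.mul_mem hxM ht.2) (M.inv_mem hxM)⟩
    show Commute (x * t * x⁻¹) z
    rw [hzv]
    refine (show Commute (x * t * x⁻¹) v from ?_).mul_right ?_
    · rw [← hxv]
      show x * t * x⁻¹ * (x * w₀ * x⁻¹) = x * w₀ * x⁻¹ * (x * t * x⁻¹)
      rw [show x * t * x⁻¹ * (x * w₀ * x⁻¹) = x * (t * w₀) * x⁻¹ by group, hsh.w0_T t ht]; group
    · exact ((hxr.mul_left (show Commute t r from hsh.fix_central hr ht.2)).mul_left hxr.inv_left)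
  have hML' : MaxLoc S z M := by
    refine ⟨h, hM, hmax, fun h2 => hML.sylow ?_, hzQ⟩
    have e : (cmap x T).relIndex M = T.relIndex M := by
      rw [cmap]
      conv_lhs => rw [show M = M.map (MulAut.conj x).toMonoidHom from
        (mem_normalizer_iff_map_conj_eq.1 (le_normalizer hxM)).symm]
      exact relIndex_map_map_of_injective T M (MulAut.conj x).injective
    show 2 ∣ T.relIndex M
    rw [← e, ← relIndex_mul_relIndex (cmap x T) ((S : Subgroup G) ⊓ M) M hTS inf_le_right]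
    exact h2.mul_left _
  obtain ⟨a', f', hpre'⟩ := hML'.exists_pre
  obtain ⟨b', u₀, u₁, hs⟩ := hpre'.exists_shape
  have hu₁ : u₁ ∈ K := hvec u₁ ⟨M, f', b', u₀, hs⟩
  have hu₀ : u₀ ∈ K := by
    have h1 := hcomm u₁ (hs.max.core_le_T hs.w1V.1).1 b' hs.bT.1
    rwa [hs.bi, inv_eq_of_mul_eq_one_right hs.w1sq, mul_assoc (u₁ * b'), mul_assoc, ← mul_assoc b' u₁ b',
      hs.bw1, ← mul_assoc, hs.w1sq, one_mul] at h1
  have hfour : ∀ w ∈ fourOf u₀ u₁, w ∈ K := by
    rintro w (rfl | rfl | rfl | rfl)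
    exacts [one_mem K, hu₀, hu₁, K.mul_mem hu₁ hu₀]
  obtain ⟨w, hw, r', hr', rfl⟩ := hs.form d (hEQ hd)
  have hnw := hs.four_conj hw (inv_mem (hNM hn))
  rw [inv_inv] at hnw
  have hnr : n⁻¹ * r' * n = r' := by rw [mul_assoc, ← hs.fix_central hr' (hNM hn), inv_mul_cancel_left]
  have hr'w : Commute r' w := (hs.four_vee hw).2.2 r' hr'.1
  rw [show n⁻¹ * (w * r') * n = (n⁻¹ * w * n) * (n⁻¹ * r' * n) by group, hnr,
    show (w * r')⁻¹ * (n⁻¹ * w * n * r') = r'⁻¹ * (w⁻¹ * (n⁻¹ * w * n)) * r' by group,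
    ← ((show Commute r' w⁻¹ from hr'w.inv_right).mul_right
      (show Commute r' (n⁻¹ * w * n) from (hs.four_vee hnw).2.2 r' hr'.1)).inv_left.eq |>.symm,
    inv_mul_cancel_right]
  exact K.mul_mem (K.inv_mem (hfour w hw)) (hfour _ hnw)

/-- The generators. -/
theorem le_of_gen (h : Hyp S z) (K : Subgroup G)
    (hcomm : ∀ x ∈ (S : Subgroup G), ∀ y ∈ (S : Subgroup G), x * y * x⁻¹ * y⁻¹ ∈ K)
    (hvec : ∀ w, Vec S z w → w ∈ K) : (S : Subgroup G) ≤ K := by
  classical
  haveI : Fact (Nat.Prime 2) := ⟨Nat.prime_two⟩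
  haveI := h.simple
  let Φ : Subgroup G → G → Prop := fun D g => ∀ d ∈ D, d⁻¹ * (g⁻¹ * d * g) ∈ K
  have hall : ∀ (D : Subgroup G) (g : G), D ≤ (S : Subgroup G) → cv g D ≤ (S : Subgroup G) → Φ D g := by
    intro D g hD hg
    refine induction (p := 2) (P := S) Φ ?_ ?_ ?_ ?_ D g hD hg
    · exact fun D D' g hle hΦ d hd => hΦ d (hle hd)
    · intro D a b ha hb d hd
      have h2 := hb _ (conj_mem_cv hd)
      have := K.mul_mem (ha d hd) h2
      rwa [show d⁻¹ * (a⁻¹ * d * a) * ((a⁻¹ * d * a)⁻¹ * (b⁻¹ * (a⁻¹ * d * a) * b)) =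
        d⁻¹ * ((a * b)⁻¹ * d * (a * b)) by group] at this
    · intro D a ha d hd
      have := K.inv_mem (ha _ (mem_cv.1 hd))
      rwa [show ((a * d * a⁻¹)⁻¹ * (a⁻¹ * (a * d * a⁻¹) * a))⁻¹ = d⁻¹ * (a⁻¹⁻¹ * d * a⁻¹) by group] at this
    intro E hE ih n hn
    by_cases hzE : z ∈ E
    · -- generated by the Sylow subgroup and odd elements
      have hmul : ∀ a b : G, a ∈ normalizer (E : Set G) → Φ E a → Φ E b → Φ E (a * b) := by
        intro a b ha h1 h2 d hd
        have h3 := h2 (a⁻¹ * d * a) (by simpa using conj_mem_of_normalizer (inv_mem ha) hd)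
        have := K.mul_mem (h1 d hd) h3
        rwa [show d⁻¹ * (a⁻¹ * d * a) * ((a⁻¹ * d * a)⁻¹ * (b⁻¹ * (a⁻¹ * d * a) * b)) =
          d⁻¹ * ((a * b)⁻¹ * d * (a * b)) by group] at this
      let H : Subgroup G :=
        { carrier := {m | m ∈ normalizer (E : Set G) ∧ Φ E m}
          one_mem' := ⟨one_mem _, fun d _ => by simpa using one_mem K⟩
          mul_mem' := fun {a b} ha hb => ⟨mul_mem ha.1 hb.1, hmul a b ha.1 ha.2 hb.2⟩
          inv_mem' := fun {a} ha => ⟨inv_mem ha.1, fun d hd => by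
            have := K.inv_mem (ha.2 (a * d * a⁻¹) (conj_mem_of_normalizer ha.1 hd))
            rwa [show ((a * d * a⁻¹)⁻¹ * (a⁻¹ * (a * d * a⁻¹) * a))⁻¹ = d⁻¹ * (a⁻¹⁻¹ * d * a⁻¹) by group] at this⟩ }
      have hPH : (S : Subgroup G) ⊓ normalizer (E : Set G) ≤ H := fun x hx => ⟨hx.2, fun d hd => by
        have := hcomm d⁻¹ (inv_mem (hE.le hd)) x⁻¹ (inv_mem hx.1)
        simpa [mul_assoc] using this⟩
      have hHN : H ≤ normalizer (E : Set G) := fun x hx => hx.1
      have hidx : H.relIndex (normalizer (E : Set G)) = 1 := by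
        by_contra hne
        obtain ⟨q, hq, hqd⟩ := Nat.exists_prime_and_dvd hne
        haveI : Fact q.Prime := ⟨hq⟩
        rcases eq_or_ne q 2 with rfl | hq2
        · exact hE.syl.not_dvd (hqd.trans (Dvd.intro_left _
            (relIndex_mul_relIndex _ H _ hPH hHN)))
        · obtain ⟨P, hP⟩ := exists_isSylIn q (normalizer (E : Set G))
          have hPle : P ≤ H := fun x hx => ⟨hP.le hx, fun d hd => odd_commutator h K hcomm hvec hE.le hzE (hP.le hx) (by
            obtain ⟨k, hk⟩ := hP.isPGroup ⟨x, hx⟩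
            exact Odd.of_dvd_nat ((hq.odd_of_ne_two hq2).pow) (orderOf_dvd_of_pow_eq_one (congrArg Subtype.val hk))) hd⟩
          exact hP.not_dvd (hqd.trans (Dvd.intro_left _ (relIndex_mul_relIndex _ H _ hPle hHN)))
      exact (relIndex_eq_one.1 hidx hn).2
    · -- Frattini
      set C := centralizer (E : Set G) with hC
      set P₀ := (S : Subgroup G) ⊓ C with hP₀
      have hCN : ∀ m ∈ normalizer (E : Set G), C.map (MulAut.conj m).toMonoidHom = C := by
        intro m hm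
        refine eq_of_le_of_card_ge ?_ (card_map_of_injective (MulAut.conj m).injective).ge
        rintro _ ⟨c, hc, rfl⟩
        refine mem_centralizer_iff.2 fun e he => ?_
        have h1 := mem_centralizer_iff.1 hc (m⁻¹ * e * m) (by simpa using conj_mem_of_normalizer (inv_mem hm) he)
        show e * (m * c * m⁻¹) = m * c * m⁻¹ * e
        calc e * (m * c * m⁻¹) = m * (m⁻¹ * e * m * c) * m⁻¹ := by group
          _ = m * (c * (m⁻¹ * e * m)) * m⁻¹ := by rw [h1]
          _ = m * c * m⁻¹ * e := by group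
      have hCle : C ≤ normalizer (E : Set G) := le_normalizer_of_conj fun c hc e he => by
        rw [← mem_centralizer_iff.1 hc e he, mul_inv_cancel_right]; exact he
      have hP₀syl : IsSylIn 2 P₀ C := by
        obtain ⟨T₀, hT₀, hP₀T⟩ := exists_isSylIn_ge (P := P₀) (S.2.to_le inf_le_left) inf_le_right
        obtain ⟨T₁, hT₁, hT₀T⟩ := exists_isSylIn_ge hT₀.isPGroup (hT₀.le.trans hCle)
        obtain ⟨m, hm, e⟩ := hT₁.exists_conj hE.syl
        have hle : T₀.map (MulAut.conj m).toMonoidHom ≤ P₀ :=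
          le_inf (((map_mono hT₀T).trans e.le).trans inf_le_left) ((map_mono hT₀.le).trans (hCN m hm).le)
        have hc : Nat.card T₀ ≤ Nat.card P₀ := by
          rw [← card_map_of_injective (K := T₀) (f := (MulAut.conj m).toMonoidHom) (MulAut.conj m).injective]
          exact Nat.card_le_card_of_injective _ (Subgroup.inclusion_injective hle)
        rwa [eq_of_le_of_card_ge hP₀T hc]
      have h1 := hP₀syl.conj n
      rw [hCN n hn] at h1
      obtain ⟨c, hc, e⟩ := h1.exists_conj hP₀syl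
      rw [conj_map_map] at e
      set m := c * n with hm
      have hmN : m ∈ normalizer (E : Set G) := mul_mem (hCle hc) hn
      have hmF : cv m (E ⊔ P₀) = E ⊔ P₀ := by
        refine cv_of_mem (mem_normalizer_of_conj_map ?_)
        rw [Subgroup.map_sup, conj_map_of_mem hmN, e]
      have hlt : E < E ⊔ P₀ := lt_of_le_of_ne le_sup_left fun e' => hzE (by
        rw [e']
        exact mem_sup_right ⟨h.zS, mem_centralizer_iff.2 fun e he => h.zc e (hE.le he)⟩)
      have hFS : E ⊔ P₀ ≤ (S : Subgroup G) := sup_le hE.le inf_le_left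
      have h2 := ih _ m hlt hFS (hmF.le.trans hFS)
      intro d hd
      have h3 := h2 d (mem_sup_left hd)
      rwa [show m⁻¹ * d * m = n⁻¹ * (c⁻¹ * (d * c)) * n by rw [hm]; group, mem_centralizer_iff.1 hc d hd,
        inv_mul_cancel_left] at h3
  have hperf : commutator G = ⊤ := by
    rcases (inferInstance : (commutator G).Normal).eq_bot_or_eq_top with e | e
    · exfalso
      refine h.nonab ⟨⟨fun a b => ?_⟩⟩
      have : a * b * a⁻¹ * b⁻¹ ∈ commutator G := commutator_mem_commutator (mem_top a) (mem_top b)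
      rw [e, mem_bot] at this
      exact commutatorElement_eq_one_iff_mul_comm.1 this
    · exact e
  have hfoc := commutator_inf_eq_focalSubgroup S
  rw [hperf, top_inf_eq] at hfoc
  rw [hfoc, focalSubgroup_def, closure_le]
  rintro _ ⟨hS, x, hx, u, rfl⟩
  have hu : u * x⁻¹ * u⁻¹ ∈ (S : Subgroup G) := by
    have := (S : Subgroup G).mul_mem ((S : Subgroup G).inv_mem hx) hS
    rwa [commutatorElement_def, show x⁻¹ * (x * u * x⁻¹ * u⁻¹) = u * x⁻¹ * u⁻¹ by group] at this
  have h1 := hall (zpowers x) u⁻¹ (zpowers_le.2 hx) (by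
    rw [cv, inv_inv, MonoidHom.map_zpowers, zpowers_le]
    show u * x * u⁻¹ ∈ (S : Subgroup G)
    simpa [mul_assoc] using (S : Subgroup G).inv_mem hu) x⁻¹ (inv_mem (mem_zpowers x))
  show ⁅x, u⁆ ∈ K
  rw [commutatorElement_def]
  simpa [mul_assoc] using h1

end Cfsg.Agent.ChainEight
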