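import Mathlib
import Cfsg.Agent.Lib.ChainEight.Basic
import Cfsg.Agent.Lib.CentFour.TwoGroup
import Cfsg.Agent.Lib.SemiRankOne.Basic
import Cfsg.Agent.Lib.CIT.Theorem
import Cfsg.Agent.Lib.Suzuki3240.Models
import Cfsg.Agent.Lib.CIT.PlaneAut
import Cfsg.Agent.Lib.CIT.ModelsOffender
import Cfsg.Agent.Lib.Suzuki.Tori
import Cfsg.Agent.Lib.Suzuki.LieEquiv

/-!
An element of the Sylow subgroup with centralizer of order at most four there identifies the group.
-/

set_option autoImplicit false
set_option linter.all false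

namespace Cfsg.Agent.ChainEight

open Subgroup

universe u

variable {G : Type u} [Group G] [Finite G]

/-- The conclusion. -/
def IsTarget (G : Type u) [Group G] : Prop :=
  ∃ (F : Type) (_ : Field F) (_ : Fintype F),
    Fintype.card F = 127 ∧ Nonempty (G ≃* Matrix.ProjectiveSpecialLinearGroup (Fin 2) F)

namespace Hyp

variable {S : Sylow 2 G} {z : G} (h : Hyp S z)
include h

theorem perfect : commutator G = ⊤ := by
  haveI := h.simple
  rcases (inferInstance : (commutator G).Normal).eq_bot_or_eq_top with e | e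
  · exfalso
    refine h.nonab ⟨⟨fun a b => ?_⟩⟩
    have : a * b * a⁻¹ * b⁻¹ ∈ commutator G := commutator_mem_commutator (mem_top a) (mem_top b)
    rw [e, mem_bot] at this
    exact mul_inv_eq_iff_eq_mul.1 (mul_inv_eq_one.1 this)
  · exact e

theorem card_G : 128 ∣ Nat.card G ∧ ¬ 256 ∣ Nat.card G := by
  haveI : Fact (Nat.Prime 2) := ⟨Nat.prime_two⟩
  refine ⟨?_, fun hd => ?_⟩
  · have := (S : Subgroup G).card_subgroup_dvd_card
    rw [h.card] at this
    simpa using this
  · rw [← (S : Subgroup G).card_mul_index, h.card] at hd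
    refine S.not_dvd_index ?_
    exact Nat.dvd_of_mul_dvd_mul_left (by norm_num : 0 < 2 ^ 7) (by simpa using hd)

theorem target_of_list {x : G} (hx : orderOf x = 64) (hlist : CIT.CITList G) : IsTarget G := by
  obtain ⟨h128, h256⟩ := h.card_G
  rcases hlist with ⟨F, i1, i2, hF, ⟨e⟩⟩ | ⟨F, i1, i2, hF, ⟨e⟩⟩ | ⟨F, i1, i2, m, hm, hF, ⟨e⟩⟩
  · rcases hF with hF | ⟨n, -, hF⟩ | ⟨h5, hp, k, hk⟩
    · exfalso
      have hodd : Odd (Fintype.card F) := by rw [hF]; exact ⟨4, rfl⟩
      have h2 := CIT.card_psl_odd hodd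
      rw [← Nat.card_congr e.toEquiv, hF] at h2
      norm_num at h2
      omega
    · exfalso
      have h4 : e (x ^ 16) ^ 4 = 1 := by rw [← map_pow, ← pow_mul, show 16 * 4 = orderOf x by omega, pow_orderOf_eq_one, map_one]
      have h2 := Suzuki3240.pslTwo_even_sq hF _ h4
      rw [← map_pow, ← pow_mul] at h2
      have := orderOf_dvd_of_pow_eq_one (e.injective (h2.trans (map_one e).symm))
      rw [hx] at this
      norm_num at this
    · refine ⟨F, i1, i2, ?_, ⟨e⟩⟩
      set p := Fintype.card F with hpdef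
      have hodd : Odd p := hp.odd_of_ne_two (by omega)
      have h2 := CIT.card_psl_odd hodd
      rw [← Nat.card_congr e.toEquiv, ← hpdef] at h2
      have hk2 : 2 ≤ k := by
        by_contra hlt
        interval_cases k <;> norm_num at hk <;> omega
      obtain ⟨k', rfl⟩ := Nat.exists_eq_add_of_le' hk2
      have hpow : 2 ^ (k' + 2) = 4 * 2 ^ k' := by ring
      have hpos := Nat.two_pow_pos k'
      obtain ⟨M, hM, hG⟩ : ∃ M, Odd M ∧ Nat.card G = 2 ^ (k' + 2) * M := by
        rcases hk with hk | hk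
        · refine ⟨p * (2 * 2 ^ k' + 1), hodd.mul ⟨2 ^ k', rfl⟩, Nat.eq_of_mul_eq_mul_left two_pos (h2.trans ?_)⟩
          have : p ^ 2 - 1 = 4 * 2 ^ k' * (2 * (2 * 2 ^ k' + 1)) := by
            rw [hk, hpow]
            have : (4 * 2 ^ k' + 1) ^ 2 = 4 * 2 ^ k' * (2 * (2 * 2 ^ k' + 1)) + 1 := by ring
            omega
          rw [this, hpow]; ring
        · refine ⟨p * (2 * 2 ^ k' - 1), hodd.mul ⟨2 ^ k' - 1, by omega⟩,
            Nat.eq_of_mul_eq_mul_left two_pos (h2.trans ?_)⟩
          have : p ^ 2 - 1 = 4 * 2 ^ k' * (2 * (2 * 2 ^ k' - 1)) := by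
            obtain ⟨d, hd⟩ : ∃ d, 2 * 2 ^ k' = d + 1 := ⟨2 * 2 ^ k' - 1, by omega⟩
            have hp' : p = 2 * d + 1 := by omega
            have : p ^ 2 = (2 * d + 2) * (2 * d) + 1 := by rw [hp']; ring
            rw [show 4 * 2 ^ k' = 2 * d + 2 by omega, show 2 * 2 ^ k' - 1 = d by omega]
            omega
          rw [this, hpow]; ring
      rw [hG] at h128 h256
      have hco : ∀ j, Nat.Coprime (2 ^ j) M := fun j => (Nat.coprime_two_left.2 hM).pow_left j
      have hle : 2 ^ 7 ∣ 2 ^ (k' + 2) := (hco 7).dvd_of_dvd_mul_right (by simpa using h128)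
      have h7 : 7 ≤ k' + 2 := (Nat.pow_dvd_pow_iff_le_right (by norm_num : 1 < 2)).1 hle
      have h8 : k' + 2 < 8 := by
        by_contra hge
        exact h256 (Dvd.dvd.mul_right (dvd_trans (by norm_num : 256 ∣ 2 ^ 8) (Nat.pow_dvd_pow 2 (show 8 ≤ k' + 2 by omega))) M)
      have hk5 : k' = 5 := by omega
      subst hk5
      rcases hk with hk | hk
      · exact absurd hp (by rw [hk]; norm_num)
      · norm_num at hk; omega
  · exfalso
    rw [Nat.card_congr e.toEquiv, CIT.PlaneAut.card_psl hF] at h128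
    norm_num at h128
  · exfalso
    haveI := Suzuki.charTwo hF
    obtain ⟨e'⟩ := Suzuki.lieEquiv (m := m) hm hF
    rw [Nat.card_congr (e.trans e'.symm).toEquiv, Suzuki.card_eq hm hF] at h128 h256
    rcases Nat.lt_or_ge m 2 with hlt | hge
    · obtain rfl : m = 1 := by omega
      rw [hF] at h128
      norm_num at h128
    · refine h256 (Dvd.dvd.mul_right (Dvd.dvd.mul_right ?_ _) _)
      rw [hF, ← pow_mul]
      exact dvd_trans (by norm_num : 256 ∣ 2 ^ 8) (Nat.pow_dvd_pow 2 (show 8 ≤ (2 * m + 1) * 2 by omega))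

/-- A small centralizer. -/
theorem target_of_small {x : G} (hx : x ∈ (S : Subgroup G))
    (hC : Nat.card ↥((S : Subgroup G) ⊓ centralizer ({x} : Set G)) ≤ 4) : IsTarget G := by
  classical
  haveI : Fact (Nat.Prime 2) := ⟨Nat.prime_two⟩
  have hC' : Nat.card (centralizer ({⟨x, hx⟩} : Set (S : Subgroup G))) ≤ 4 := by
    refine le_trans (Nat.card_le_card_of_injective
      (fun c => (⟨((c : (S : Subgroup G)) : G), c.1.2, mem_centralizer_singleton_iff.2
        (congrArg Subtype.val (mem_centralizer_singleton_iff.1 c.2))⟩ :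
          ↥((S : Subgroup G) ⊓ centralizer ({x} : Set G)))) fun c d e => ?_) hC
    exact Subtype.ext (Subtype.ext (congrArg Subtype.val e :))
  rcases CentFour.structure_of_small_centralizer S.2 (⟨x, hx⟩ : (S : Subgroup G)) hC' with
    h4 | ⟨m, a, y, ha, hcard, hy, hcase⟩
  · rw [h.card] at h4; norm_num at h4
  have hm : m = 4 := by
    rw [h.card] at hcard
    have := Nat.pow_right_injective le_rfl hcard
    omega
  subst hm
  have ha' : orderOf (a : G) = 64 := by rw [Subgroup.orderOf_coe, ha]; norm_num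
  have hidx : (zpowers a).index = 2 := by
    have := (zpowers a).card_mul_index
    rw [Nat.card_zpowers, ha, h.card] at this
    norm_num at this
    omega
  set N := zpowers (a : G) with hN
  have hNS : N ≤ (S : Subgroup G) := zpowers_le.2 a.2
  have hmemN : ∀ s : (S : Subgroup G), (s : G) ∈ N ↔ s ∈ zpowers a := fun s => by
    rw [hN, show zpowers (a : G) = (zpowers a).map (S : Subgroup G).subtype from
      (MonoidHom.map_zpowers (S : Subgroup G).subtype a).symm]
    exact mem_map_iff_mem (S : Subgroup G).subtype_injective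
  -- `z` is the involution of the cyclic subgroup
  have hzN : z ∈ N := by
    by_contra hzN
    have hz' : (⟨z, h.zS⟩ : (S : Subgroup G)) ∉ zpowers a := fun k => hzN ((hmemN _).2 k)
    have hq : y⁻¹ * ⟨z, h.zS⟩ ∈ zpowers a := (mul_mem_iff_of_index_two hidx).2
      (iff_of_false (fun k => hy (by simpa using inv_mem k)) hz')
    obtain ⟨i, hi⟩ := hq
    simp only at hi
    have hya : y * a * y⁻¹ = a := by
      have hc : (⟨z, h.zS⟩ : (S : Subgroup G)) * a = a * ⟨z, h.zS⟩ :=
        Subtype.ext (h.zc a a.2).symm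
      have : y = ⟨z, h.zS⟩ * (a ^ i)⁻¹ := by rw [hi]; group
      rw [this, show ⟨z, h.zS⟩ * (a ^ i)⁻¹ * a * (⟨z, h.zS⟩ * (a ^ i)⁻¹)⁻¹ = ⟨z, h.zS⟩ * a * (⟨z, h.zS⟩ : (S : Subgroup G))⁻¹ by group, hc,
        mul_inv_cancel_right]
    have key : a ^ 2 = 1 ∨ a ^ 30 = 1 := by
      rcases hcase with ⟨hc, -⟩ | ⟨hc, -⟩ | ⟨-, hc, -⟩ <;> rw [hya] at hc
      · left; rw [pow_two]; nth_rw 1 [hc]; exact inv_mul_cancel a
      · left; rw [pow_two]; nth_rw 1 [hc]; exact inv_mul_cancel a
      · right
        norm_num at hc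
        exact mul_eq_right.1 (show a ^ 30 * a = a by rw [← pow_succ]; exact hc.symm)
    rcases key with k | k <;>
      · have := orderOf_dvd_of_pow_eq_one k
        rw [ha] at this
        norm_num at this
  have huniq : ∀ u ∈ N, u * u = 1 → u ≠ 1 → u = z := by
    intro u hu hu2 hu1
    haveI := Fintype.ofFinite N
    by_contra hne
    have hle := IsCyclic.card_pow_eq_one_le (α := N) (n := 2) two_pos
    have h3 : ({1, ⟨u, hu⟩, ⟨z, hzN⟩} : Finset N) ⊆ Finset.univ.filter (fun v => v ^ 2 = 1) := by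
      intro v hv
      simp only [Finset.mem_insert, Finset.mem_singleton] at hv
      simp only [Finset.mem_filter, Finset.mem_univ, true_and]
      rcases hv with rfl | rfl | rfl
      · exact one_pow 2
      · exact Subtype.ext (by rw [SubmonoidClass.coe_pow, pow_two]; exact hu2)
      · exact Subtype.ext (by rw [SubmonoidClass.coe_pow, pow_two]; exact h.z2)
    have := (Finset.card_le_card h3).trans hle
    rw [Finset.card_insert_of_notMem (by
        simp only [Finset.mem_insert, Finset.mem_singleton, not_or]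
        exact ⟨fun e => hu1 (congrArg Subtype.val e).symm, fun e => h.z1 (congrArg Subtype.val e).symm⟩),
      Finset.card_pair (fun e => hne (congrArg Subtype.val e))] at this
    omega
  haveI := h.simple
  have hCIT : CIT.IsCIT G := fun t ht => by
    obtain ⟨g, hg⟩ := SemiRankOne.transfer S h.perfect N hNS (v := (y : G)) y.2
      (fun k => hy ((hmemN y).1 k))
      (fun g hg => by
        by_cases k : (⟨g, hg⟩ : (S : Subgroup G)) ∈ zpowers a
        · exact Or.inl ((hmemN _).2 k)
        · exact Or.inr ((hmemN (⟨g, hg⟩ * y)).2 ((mul_mem_iff_of_index_two hidx).2 (iff_of_false k hy)))) ht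
    have ht2 : t * t = 1 := by rw [← pow_two, ← ht, pow_orderOf_eq_one]
    have hgt := huniq _ hg (sq_conj ht2) fun e => by
      rw [conj_eq_one_iff.1 e, orderOf_one] at ht; omega
    refine h.two_cent ⟨g⁻¹, by rw [← hgt]; group⟩ fun k hk => mem_centralizer_singleton_iff.1 hk
  exact h.target_of_list ha' (CIT.citTheorem G h.nonab hCIT)

end Hyp

end Cfsg.Agent.ChainEight
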