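import Mathlib
import Cfsg.Agent.Lib.ChainEight.Focal
import Cfsg.Agent.Lib.ChainEight.Small
import Cfsg.Agent.Solvable.Basics

/-!
The subgroup of squares of `S` and classes of vectors.
-/

set_option autoImplicit false
set_option linter.all false

namespace Cfsg.Agent.ChainEight

open Subgroup

universe u

variable {G : Type u} [Group G] [Finite G]

/-- The subgroup generated by the squares. -/
def Sq (S : Subgroup G) : Subgroup G := closure ((fun x => x * x) '' (S : Set G))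

variable {S : Subgroup G}

theorem sq_mem {x : G} (hx : x ∈ S) : x * x ∈ Sq S := subset_closure ⟨x, hx, rfl⟩

theorem sq_le : Sq S ≤ S := (closure_le _).2 (by rintro _ ⟨x, hx, rfl⟩; exact mul_mem hx hx)

theorem comm_sq {x y : G} (hx : x ∈ S) (hy : y ∈ S) : x * y * x⁻¹ * y⁻¹ ∈ Sq S := by
  rw [show x * y * x⁻¹ * y⁻¹ = (x * x) * ((x⁻¹ * y) * (x⁻¹ * y)) * (y⁻¹ * y⁻¹) by group]
  exact (Sq S).mul_mem ((Sq S).mul_mem (sq_mem hx) (sq_mem (S.mul_mem (S.inv_mem hx) hy))) (sq_mem (S.inv_mem hy))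

theorem sq_conj_mem {g φ : G} (hg : g ∈ S) (hφ : φ ∈ Sq S) : g * φ * g⁻¹ ∈ Sq S := by
  have := (Sq S).mul_mem (comm_sq hg (sq_le hφ)) hφ
  rwa [inv_mul_cancel_right] at this

/-- Squares do not generate. -/
theorem nongen (hS : IsPGroup 2 S) {L : Subgroup G} (hL : L ≤ S) (h : S ≤ L ⊔ Sq S) : S ≤ L := by
  haveI : Fact (Nat.Prime 2) := ⟨Nat.prime_two⟩
  have h1 : L.subgroupOf S ⊔ frattini S = ⊤ := by
    refine eq_top_iff.2 fun x _ => ?_
    have hle : L ⊔ Sq S ≤ (L.subgroupOf S ⊔ frattini S).map S.subtype := by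
      refine sup_le (fun y hy => ⟨⟨y, hL hy⟩, mem_sup_left hy, rfl⟩) ((closure_le _).2 ?_)
      rintro _ ⟨y, hy, rfl⟩
      exact ⟨⟨y, hy⟩ ^ 2, mem_sup_right (Solvable.Basics.pow_mem_frattini hS _), by simp [pow_two]⟩
    obtain ⟨y, hy, e⟩ := hle (h x.2)
    rwa [Subtype.ext e] at hy
  exact subgroupOf_eq_top.1 (frattini_nongenerating h1)

variable {P : Sylow 2 G} {z w : G}

/-- An involution whose class is a whole coset. -/
theorem class_full (hcard : Nat.card (P : Subgroup G) = 2 ^ 7) (hw : w ∈ (P : Subgroup G))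
    (hC : Nat.card ↥((P : Subgroup G) ⊓ centralizer ({w} : Set G)) = 8) (hSq : Nat.card (Sq (P : Subgroup G)) ≤ 16) :
    Nat.card (Sq (P : Subgroup G)) = 16 ∧ ∀ φ ∈ Sq (P : Subgroup G), ∃ g ∈ (P : Subgroup G), g * w * g⁻¹ = w * φ := by
  classical
  set C := ((P : Subgroup G) ⊓ centralizer ({w} : Set G)).subgroupOf (P : Subgroup G) with hCdef
  have hq : Nat.card ((P : Subgroup G) ⧸ C) = 16 := by
    have e := C.card_mul_index
    rw [Nat.card_congr (subgroupOfEquivOfLe inf_le_left).toEquiv, hC, hcard, Subgroup.index] at e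
    omega
  have hmem : ∀ g : (P : Subgroup G), w⁻¹ * (g * w * (g : G)⁻¹) ∈ Sq (P : Subgroup G) := fun g => by
    have := comm_sq ((P : Subgroup G).inv_mem hw) g.2
    simpa [mul_assoc] using this
  let ψ : (P : Subgroup G) ⧸ C → Sq (P : Subgroup G) := fun q =>
    Quotient.liftOn' q (fun g => ⟨w⁻¹ * (g * w * (g : G)⁻¹), hmem g⟩) fun g g' hgg => Subtype.ext (by
      have h1 : (g : G)⁻¹ * g' * w = w * ((g : G)⁻¹ * g') :=
        mem_centralizer_singleton_iff.1 (QuotientGroup.leftRel_apply.1 hgg).2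
      show w⁻¹ * (g * w * (g : G)⁻¹) = w⁻¹ * (g' * w * (g' : G)⁻¹)
      congr 1
      calc (g : G) * w * (g : G)⁻¹ = g * (w * ((g : G)⁻¹ * g')) * (g' : G)⁻¹ := by group
        _ = g * ((g : G)⁻¹ * g' * w) * (g' : G)⁻¹ := by rw [h1]
        _ = g' * w * (g' : G)⁻¹ := by group)
  have hinj : Function.Injective ψ := by
    rintro ⟨g⟩ ⟨g'⟩ e
    have e1 : (g : G) * w * (g : G)⁻¹ = g' * w * (g' : G)⁻¹ := mul_left_cancel (congrArg Subtype.val e)
    refine Quotient.sound' (QuotientGroup.leftRel_apply.2 ⟨(g⁻¹ * g').2, mem_centralizer_singleton_iff.2 ?_⟩)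
    show (g : G)⁻¹ * g' * w = w * ((g : G)⁻¹ * g')
    calc (g : G)⁻¹ * g' * w = (g : G)⁻¹ * (g' * w * (g' : G)⁻¹) * g' := by group
      _ = (g : G)⁻¹ * (g * w * (g : G)⁻¹) * g' := by rw [e1]
      _ = w * ((g : G)⁻¹ * g') := by group
  have h16 : Nat.card (Sq (P : Subgroup G)) = 16 := by
    have := Nat.card_le_card_of_injective ψ hinj
    omega
  refine ⟨h16, fun φ hφ => ?_⟩
  obtain ⟨⟨g⟩, e⟩ := ((Nat.bijective_iff_injective_and_card ψ).2 ⟨hinj, by rw [hq, h16]⟩).2 ⟨φ, hφ⟩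
  refine ⟨g, g.2, ?_⟩
  rw [← show w⁻¹ * (g * w * (g : G)⁻¹) = φ from congrArg Subtype.val e, mul_inv_cancel_left]

namespace Shape

variable {S : Sylow 2 G} {z : G} {M : Subgroup G} {f b w₀ w₁ : G} (h : Shape S z M f b w₀ w₁)
include h

theorem four_mul {u v : G} (hu : u ∈ fourOf w₀ w₁) (hv : v ∈ fourOf w₀ w₁) : u * v ∈ fourOf w₀ w₁ := by
  have hc : w₁ * w₀ = w₀ * w₁ := ((vee_el M).2 w₀ h.w0V w₁ h.w1V).symm
  have e1 : w₀ * (w₁ * w₀) = w₁ := by rw [hc, ← mul_assoc, h.w0sq, one_mul]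
  have e2 : w₁ * (w₁ * w₀) = w₀ := by rw [← mul_assoc, h.w1sq, one_mul]
  have e3 : w₁ * w₀ * w₀ = w₁ := by rw [mul_assoc, h.w0sq, mul_one]
  have e4 : w₁ * w₀ * w₁ = w₀ := by rw [hc, mul_assoc, h.w1sq, mul_one]
  have e5 : w₁ * w₀ * (w₁ * w₀) = 1 := by rw [mul_assoc, e1, h.w1sq]
  rcases hu with rfl | rfl | rfl | rfl <;> rcases hv with rfl | rfl | rfl | rfl <;>
    simp [fourOf, h.w0sq, h.w1sq, hc.symm, e1, e2, e3, e4, e5]

theorem trans_four {v : G} (hv : v ∈ fourOf w₀ w₁) (hv1 : v ≠ 1) : ∃ x ∈ M, x * w₀ * x⁻¹ = v := by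
  have hp := h.fw w₀ (by simp [fourOf])
  have hne : f * w₀ * f⁻¹ ≠ w₀ := fun e => h.w0ne (h.inFix w₀ (by simp [fourOf])
    (mem_fix.2 ⟨h.w0V.1, by nth_rw 1 [← e]; rw [inv_mul_cancel_right]⟩))
  have hne1 : f * w₀ * f⁻¹ ≠ 1 := fun e => h.w0ne (conj_eq_one_iff.1 e)
  set p := f * w₀ * f⁻¹ with hp'
  have hq := h.fw p hp
  have hqp : f * p * f⁻¹ ≠ p := fun e => hne (mul_left_cancel (mul_right_cancel e))
  have hq1 : f * p * f⁻¹ ≠ 1 := fun e => hne1 (conj_eq_one_iff.1 e)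
  have hq0 : f * p * f⁻¹ ≠ w₀ := fun e => hne (by
    calc p = f * w₀ * f⁻¹ := hp'
      _ = f * (f * p * f⁻¹) * f⁻¹ := by rw [e]
      _ = f * (f * (f * w₀ * f⁻¹) * f⁻¹) * f⁻¹ := by rw [hp']
      _ = (f * f * f) * w₀ * (f * f * f)⁻¹ := by group
      _ = w₀ := by rw [h.f3']; group)
  by_cases h0 : v = w₀
  · exact ⟨1, one_mem M, by rw [h0]; group⟩
  by_cases hpv : v = p
  · exact ⟨f, h.fM, hpv.symm⟩
  · refine ⟨f * f, M.mul_mem h.fM h.fM, ?_⟩
    rw [show f * f * w₀ * (f * f)⁻¹ = f * p * f⁻¹ by rw [hp']; group]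
    rcases hv with e | e | e | e
    · exact absurd e hv1
    · exact absurd e h0
    all_goals
      subst e
      rcases hp with k | k | k | k
      all_goals first | exact absurd k hne1 | exact absurd k hne | exact absurd k.symm hpv | skip
      all_goals
        rcases hq with q | q | q | q
        all_goals first | exact absurd q hq1 | exact absurd q hq0 | exact q | exact absurd (q.trans k.symm) hqp

theorem cent_eq_core : (S : Subgroup G) ⊓ centralizer ({w₁} : Set G) = Cfsg.pCoreOf 2 M :=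
  le_antisymm (fun g hg => h.cent_w1 hg.1 (mem_centralizer_singleton_iff.1 hg.2))
    fun q hq => ⟨(h.max.core_le_T hq).1, mem_centralizer_singleton_iff.2 (h.w1V.2.2 q hq)⟩

theorem fix_card : Nat.card (Fix M f) = 1 ∨ Nat.card (Fix M f) = 2 ∨ Nat.card (Fix M f) = 4 := by
  haveI : Fact (Nat.Prime 2) := ⟨Nat.prime_two⟩
  obtain ⟨n, hn⟩ := IsPGroup.iff_card.1 ((core_isPGroup M).to_le (inf_le_left : Fix M f ≤ Cfsg.pCoreOf 2 M))
  change Nat.card (Fix M f) = 2 ^ n at hn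
  have h4 := h.fix_le_four
  rw [hn] at h4 ⊢
  have : n ≤ 2 := (Nat.pow_le_pow_iff_right (by norm_num : 1 < 2)).1 (h4.trans_eq (by norm_num))
  interval_cases n <;> simp

theorem w0_sq : w₀ ∈ Sq (S : Subgroup G) := by
  have h1 := comm_sq (h.max.core_le_T h.w1V.1).1 h.bT.1
  rwa [h.bi, inv_eq_of_mul_eq_one_right h.w1sq, mul_assoc (w₁ * b), mul_assoc, ← mul_assoc b w₁ b,
    h.bw1, ← mul_assoc, h.w1sq, one_mul] at h1

end Shape

end Cfsg.Agent.ChainEight
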