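import Mathlib
import Cfsg.Agent.Lib.ChainEight.Squares
import Cfsg.Agent.ASolv.OddComplement

/-!
The only group with Sylow 2-subgroups of order `2 ^ 7` and chain length eight.
-/

set_option autoImplicit false
set_option linter.all false

namespace Cfsg.Agent.ChainEight

open Subgroup

universe u

variable {G : Type u} [Group G] [Finite G] {S : Sylow 2 G} {z : G}

theorem Vec.mem {w : G} (hw : Vec S z w) : w ∈ (S : Subgroup G) ∧ w * w = 1 := by
  obtain ⟨M, f, b, w₀, h⟩ := hw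
  exact ⟨(h.max.core_le_T h.w1V.1).1, h.w1sq⟩

/-- No centralizer of an element of `S` in `S` is small. -/
def Big (S : Sylow 2 G) : Prop :=
  ∀ x ∈ (S : Subgroup G), 4 < Nat.card ↥((S : Subgroup G) ⊓ centralizer ({x} : Set G))

/-- Two involutions do not generate. -/
theorem two_gen_false (hbig : Big S) {w v : G} (hw : w ∈ (S : Subgroup G)) (hv : v ∈ (S : Subgroup G))
    (hw2 : w * w = 1) (hv2 : v * v = 1) (h : (S : Subgroup G) ≤ zpowers w ⊔ zpowers v) : False := by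
  classical
  set a := w * v with ha
  set N := zpowers a with hN
  have hwa : w * a * w = a⁻¹ := by
    rw [ha, ← mul_assoc, hw2, one_mul, mul_inv_rev, inv_eq_of_mul_eq_one_right hw2,
      inv_eq_of_mul_eq_one_right hv2]
  have hwi : w⁻¹ = w := inv_eq_of_mul_eq_one_right hw2
  have hwN : ∀ x ∈ N, w * x * w = x⁻¹ := by
    intro x hx
    obtain ⟨k, rfl⟩ := mem_zpowers_iff.1 hx
    nth_rw 2 [← hwi]
    rw [← conj_zpow, hwi, hwa, inv_zpow]
  let D : Subgroup G :=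
    { carrier := {x | x ∈ N ∨ x * w ∈ N}
      one_mem' := Or.inl (one_mem N)
      mul_mem' := by
        rintro x y (hx | hx) (hy | hy)
        · exact Or.inl (N.mul_mem hx hy)
        · exact Or.inr (by rw [mul_assoc]; exact N.mul_mem hx hy)
        · refine Or.inr ?_
          have := N.mul_mem hx (N.inv_mem hy)
          rwa [← hwN y hy, show x * w * (w * y * w) = x * (w * w) * y * w by group, hw2, mul_one] at this
        · refine Or.inl ?_
          have := N.mul_mem hx (N.inv_mem hy)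
          rwa [← hwN _ hy, show x * w * (w * (y * w) * w) = x * (w * w) * y * (w * w) by group, hw2, mul_one, mul_one] at this
      inv_mem' := by
        rintro x (hx | hx)
        · exact Or.inl (N.inv_mem hx)
        · refine Or.inr ?_
          have h1 := hwN _ hx
          rw [← mul_assoc, mul_assoc (w * x), hw2, mul_one, mul_inv_rev, hwi] at h1
          rw [← mul_left_cancel h1]
          exact hx }
  have hle : (S : Subgroup G) ≤ D := h.trans (sup_le (zpowers_le.2 (Or.inr (by rw [hw2]; exact one_mem N)))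
    (zpowers_le.2 (Or.inr (by
      have : v * w = a⁻¹ := by rw [ha, mul_inv_rev, inv_eq_of_mul_eq_one_right hv2, hwi]
      rw [this]; exact N.inv_mem (mem_zpowers a)))))
  set J : Finset N := by
    haveI := Fintype.ofFinite N
    exact Finset.univ.filter (fun x => x ^ 2 = 1) with hJ
  have hJ2 : J.card ≤ 2 := by
    haveI := Fintype.ofFinite N
    refine le_trans (le_of_eq ?_) (IsCyclic.card_pow_eq_one_le (α := N) (n := 2) two_pos)
    rw [hJ]
    congr 1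
    ext x; simp
  have hmem : ∀ (x : G) (hx : x ∈ N), w * x = x * w → (⟨x, hx⟩ : N) ∈ J := by
    intro x hx hc
    have h1 := hwN x hx
    rw [hc, mul_assoc, hw2, mul_one] at h1
    have h2 : x * x = 1 := by nth_rw 2 [h1]; exact mul_inv_cancel x
    rw [hJ]
    simp only [Finset.mem_filter, Finset.mem_univ, true_and]
    exact Subtype.ext (by rw [SubmonoidClass.coe_pow, pow_two]; exact h2)
  set C := (S : Subgroup G) ⊓ centralizer ({w} : Set G) with hC
  let φ : C → Bool × J := fun c =>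
    if hc : (c : G) ∈ N then (true, ⟨⟨c, hc⟩, hmem c hc (mem_centralizer_singleton_iff.1 c.2.2).symm⟩)
    else (false, ⟨⟨(c : G) * w, (hle c.2.1).resolve_left hc⟩, hmem _ ((hle c.2.1).resolve_left hc) (by
      rw [← mul_assoc, ← mem_centralizer_singleton_iff.1 c.2.2])⟩)
  have hφ : Function.Injective φ := by
    intro x y e
    simp only [φ] at e
    split_ifs at e with h1 h2
    · exact Subtype.ext (congrArg (fun p => ((p.2 : N) : G)) e)
    · exact absurd (congrArg Prod.fst e) (by simp)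
    · exact absurd (congrArg Prod.fst e) (by simp)
    · have e' : (x : G) * w = y * w := congrArg (fun p => ((p.2 : N) : G)) e
      exact Subtype.ext (mul_right_cancel e')
  have h1 := Nat.card_le_card_of_injective φ hφ
  rw [Nat.card_prod, Nat.card_eq_fintype_card (α := Bool), Fintype.card_bool,
    Nat.card_eq_fintype_card (α := J), Fintype.card_coe] at h1
  have h4 := hbig w hw
  rw [← hC] at h4
  omega

theorem target (h : Hyp S z) : IsTarget G := by
  classical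
  haveI : Fact (Nat.Prime 2) := ⟨Nat.prime_two⟩
  by_contra hno
  have hbig : Big S := fun x hx => by
    by_contra hle
    exact hno (h.target_of_small hx (by omega))
  set Φ := Sq (S : Subgroup G) with hΦ
  set K := closure {w : G | Vec S z w} with hK
  have hKS : K ≤ (S : Subgroup G) := (closure_le _).2 fun w hw => hw.mem.1
  have hgen : (S : Subgroup G) ≤ K := nongen S.2 hKS (le_of_gen h _
    (fun x hx y hy => mem_sup_right (comm_sq hx hy)) fun w hw => mem_sup_left (subset_closure hw))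
  have hS2 : ∀ L : Subgroup G, (∀ w, Vec S z w → w ∈ L ⊔ Φ) → (S : Subgroup G) ≤ L ⊔ Φ :=
    fun L hL => hgen.trans ((closure_le _).2 hL)
  -- three independent vectors
  obtain ⟨w₁, hw₁, hw₁Φ⟩ : ∃ w, Vec S z w ∧ w ∉ Φ := by
    by_contra hne
    push Not at hne
    have := nongen S.2 bot_le (hS2 ⊥ fun w hw => mem_sup_right (hne w hw))
    have h1 := h.zS
    exact h.z1 (mem_bot.1 (this h1))
  set L₁ := zpowers w₁ ⊔ Φ with hL₁
  obtain ⟨w₂, hw₂, hw₂L⟩ : ∃ w, Vec S z w ∧ w ∉ L₁ := by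
    by_contra hne
    push Not at hne
    have := nongen S.2 (zpowers_le.2 hw₁.mem.1) (hS2 _ hne)
    exact two_gen_false hbig hw₁.mem.1 hw₁.mem.1 hw₁.mem.2 hw₁.mem.2 (this.trans le_sup_left)
  set L₂ := zpowers w₂ ⊔ L₁ with hL₂
  obtain ⟨w₃, hw₃, hw₃L⟩ : ∃ w, Vec S z w ∧ w ∉ L₂ := by
    by_contra hne
    push Not at hne
    have := nongen S.2 (sup_le (zpowers_le.2 hw₂.mem.1) (zpowers_le.2 hw₁.mem.1))
      (hS2 (zpowers w₂ ⊔ zpowers w₁) fun w hw => by rw [sup_assoc]; exact hne w hw)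
    exact two_gen_false hbig hw₂.mem.1 hw₁.mem.1 hw₂.mem.2 hw₁.mem.2 this
  have hΦS : Φ ≤ (S : Subgroup G) := sq_le
  have hL₂S : L₂ ≤ (S : Subgroup G) :=
    sup_le (zpowers_le.2 hw₂.mem.1) (sup_le (zpowers_le.2 hw₁.mem.1) hΦS)
  have hΦ16 : Nat.card Φ ≤ 16 := by
    have a1 := two_mul_le_of_lt (lt_of_le_of_ne (le_sup_right : Φ ≤ L₁) fun e =>
      hw₁Φ (by rw [e]; exact mem_sup_left (mem_zpowers w₁)))
    have a2 := two_mul_le_of_lt (lt_of_le_of_ne (le_sup_right : L₁ ≤ L₂) fun e =>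
      hw₂L (by rw [e]; exact mem_sup_left (mem_zpowers w₂)))
    have a3 := two_mul_le_of_lt (lt_of_le_of_ne hL₂S fun e => hw₃L (by rw [e]; exact hw₃.mem.1))
    change 2 * Nat.card Φ ≤ Nat.card L₁ at a1
    change 2 * Nat.card L₁ ≤ Nat.card L₂ at a2
    rw [h.card] at a3
    omega
  -- the fixed points have order two or four
  have hfix : ∀ (M : Subgroup G) (f b w₀ w : G), Shape S z M f b w₀ w →
      Nat.card (Fix M f) = 2 ∨ Nat.card (Fix M f) = 4 := fun M f b w₀ w hs =>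
    hs.fix_card.resolve_left fun k => by
      have := hbig w (hs.max.core_le_T hs.w1V.1).1
      rw [hs.cent_eq_core, hs.core4, k] at this
      omega
  have hfull : ∀ (M : Subgroup G) (f b w₀ w : G), Shape S z M f b w₀ w → Nat.card (Fix M f) = 2 →
      Nat.card Φ = 16 ∧ (∀ φ ∈ Φ, w * φ * w = φ⁻¹) ∧
        ∀ φ ∈ Φ, ∃ g ∈ (S : Subgroup G), g * w * g⁻¹ = w * φ := by
    intro M f b w₀ w hs h2
    obtain ⟨c1, c2⟩ := class_full h.card (hs.max.core_le_T hs.w1V.1).1 (w := w)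
      (by rw [hs.cent_eq_core, hs.core4, h2]) hΦ16
    refine ⟨c1, fun φ hφ => ?_, c2⟩
    obtain ⟨g, hg, e⟩ := c2 φ hφ
    refine eq_inv_of_mul_eq_one_left ?_
    rw [mul_assoc (w * φ), ← e]
    exact sq_conj hs.w1sq
  by_cases hfour : ∃ (M : Subgroup G) (f b w₀ w : G), Shape S z M f b w₀ w ∧ Nat.card (Fix M f) = 4
  · -- cyclic fixed points of order four
    obtain ⟨M, f, b, w₀, w, hs, h4⟩ := hfour
    obtain ⟨-, σ, e, hσ2, hσ1, hσz, ⟨r, hr, hσr⟩, hσw, ⟨g, hg, hge⟩, heσ, he8, he4, k, hk, hkσ⟩ := hs.four h4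
    have hσΦ : σ ∈ Φ := by rw [hσr]; exact sq_mem hr
    have heΦ : e ∈ Φ := by
      have h1 := comm_sq hg (hs.max.core_le_T hs.w1V.1).1
      rwa [inv_eq_of_mul_eq_one_right hs.w1sq, hge] at h1
    have hec : Commute e σ := heσ
    let ψ : Fin 8 × Bool → Φ := fun p =>
      ⟨e ^ (p.1 : ℕ) * (if p.2 then σ else 1), Φ.mul_mem (Φ.pow_mem heΦ _) (by split_ifs; exacts [hσΦ, one_mem Φ])⟩
    have hne : ∀ i : Fin 8, e ^ (i : ℕ) ≠ σ := fun i k' => by
      have h1 : e ^ ((i : ℕ) * 2) = 1 := by rw [pow_mul, k', pow_two, hσ2]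
      have h2 : 8 ∣ (i : ℕ) * 2 := (dvd_of_eq he8.symm).trans (orderOf_dvd_of_pow_eq_one h1)
      have : (i : ℕ) = 0 ∨ (i : ℕ) = 4 := by omega
      rcases this with k'' | k'' <;> rw [k''] at k'
      · exact hσ1 (by rw [← k', pow_zero])
      · exact hσz (k'.symm.trans he4)
    have hψ : Function.Injective ψ := by
      rintro ⟨i, x⟩ ⟨j, y⟩ e'
      have e'' : e ^ (i : ℕ) * (if x then σ else 1) = e ^ (j : ℕ) * (if y then σ else 1) := congrArg Subtype.val e'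
      have hij : ∀ i j : Fin 8, e ^ (i : ℕ) = e ^ (j : ℕ) → i = j := fun i j k' => by
        have := pow_inj_mod.1 k'
        rw [he8, Nat.mod_eq_of_lt i.2, Nat.mod_eq_of_lt j.2] at this
        exact Fin.ext this
      have hmix : ∀ i j : Fin 8, e ^ (i : ℕ) ≠ e ^ (j : ℕ) * σ := fun i j k' => by
        refine hne ⟨((i : ℕ) + (8 - j)) % 8, Nat.mod_lt _ (by norm_num)⟩ ?_
        show e ^ (((i : ℕ) + (8 - j)) % 8) = σ
        have hmod := pow_mod_orderOf e ((i : ℕ) + (8 - j))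
        rw [he8] at hmod
        have h1 : e ^ 8 = 1 := by have := pow_orderOf_eq_one e; rwa [he8] at this
        rw [hmod, pow_add, k', mul_assoc, ← (hec.pow_left _).eq, ← mul_assoc, ← pow_add,
          show (j : ℕ) + (8 - j) = 8 by omega, h1, one_mul]
      cases x <;> cases y <;> simp only [if_true, if_false, Bool.false_eq_true, mul_one] at e''
      · rw [hij i j e'']
      · exact absurd e'' (hmix i j)
      · exact absurd e''.symm (hmix j i)
      · rw [hij i j (mul_right_cancel e'')]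
    have hb := (Nat.bijective_iff_injective_and_card ψ).2 ⟨hψ, by
      have := Nat.card_le_card_of_injective ψ hψ
      rw [Nat.card_prod, Nat.card_fin, Nat.card_eq_fintype_card (α := Bool), Fintype.card_bool] at this ⊢
      omega⟩
    have hΦσ : ∀ φ ∈ Φ, Commute φ σ := fun φ hφ => by
      obtain ⟨⟨i, x⟩, e'⟩ := hb.2 ⟨φ, hφ⟩
      rw [← show e ^ (i : ℕ) * (if x then σ else 1) = φ from congrArg Subtype.val e']
      refine (hec.pow_left _).mul_left ?_
      split_ifs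
      exacts [Commute.refl σ, Commute.one_left σ]
    have hinv : ∀ φ ∈ Φ, φ * φ = 1 → φ ≠ 1 → φ ≠ z → φ = σ ∨ φ = z * σ := by
      intro φ hφ h2 h1 hz
      obtain ⟨⟨i, x⟩, e'⟩ := hb.2 ⟨φ, hφ⟩
      have e'' : e ^ (i : ℕ) * (if x then σ else 1) = φ := congrArg Subtype.val e'
      have h3 : e ^ ((i : ℕ) * 2) = 1 := by
        have hcx : Commute (if x then σ else 1) (e ^ (i : ℕ)) := by
          split_ifs
          exacts [(hec.pow_left _).symm, Commute.one_left _]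
        have hx2 : (if x then σ else 1) * (if x then σ else 1) = 1 := by
          split_ifs
          exacts [hσ2, one_mul 1]
        rw [← e'', hcx.mul_mul_mul_comm, hx2, mul_one] at h2
        rw [pow_mul, pow_two, h2]
      have h4' : 8 ∣ (i : ℕ) * 2 := (dvd_of_eq he8.symm).trans (orderOf_dvd_of_pow_eq_one h3)
      have : (i : ℕ) = 0 ∨ (i : ℕ) = 4 := by omega
      rcases this with k' | k' <;> rw [k'] at e'' <;> cases x <;>
        simp only [if_true, if_false, Bool.false_eq_true, mul_one, pow_zero, one_mul, he4] at e''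
      · exact absurd e''.symm h1
      · exact Or.inl e''.symm
      · exact absurd e''.symm hz
      · exact Or.inr e''.symm
    have hvec : ∀ v, Vec S z v → Commute v σ := by
      rintro v ⟨M', f', b', v₀, hs'⟩
      rcases hfix _ _ _ _ _ hs' with h2 | h4'
      · obtain ⟨-, c2, -⟩ := hfull _ _ _ _ _ hs' h2
        have h3 := c2 σ hσΦ
        rw [inv_eq_of_mul_eq_one_right hσ2] at h3
        have := congrArg (· * v) h3
        rw [mul_assoc, hs'.w1sq, mul_one] at this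
        exact this
      · obtain ⟨-, σ', e₂, q2, q1, qz, ⟨r', hr', qr⟩, qw, -⟩ := hs'.four h4'
        have hvz : Commute v z := h.zc v (hs'.max.core_le_T hs'.w1V.1).1
        rcases hinv σ' (by rw [qr]; exact sq_mem hr') q2 q1 qz with k' | k' <;> rw [k'] at qw
        · exact qw.symm
        · have h3 : Commute v (z * σ) := qw.symm
          have := hvz.mul_right h3
          rwa [← mul_assoc, h.z2, one_mul] at this
    have hle : (S : Subgroup G) ≤ centralizer ({σ} : Set G) :=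
      hgen.trans ((closure_le _).2 fun v hv => mem_centralizer_singleton_iff.2 (hvec v hv).eq)
    exact hkσ (mem_centralizer_singleton_iff.1 (hle hk))
  -- all fixed points have order two
  push Not at hfour
  have htwo : ∀ (M : Subgroup G) (f b w₀ w : G), Shape S z M f b w₀ w → Nat.card (Fix M f) = 2 :=
    fun M f b w₀ w hs => (hfix M f b w₀ w hs).resolve_right (hfour M f b w₀ w hs)
  obtain ⟨M₁, f₁, b₁, u₁, hs₁⟩ := id hw₁
  obtain ⟨hΦc, hinv₁, hclass⟩ := hfull _ _ _ _ _ hs₁ (htwo _ _ _ _ _ hs₁)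
  have hinv : ∀ v, Vec S z v → ∀ φ ∈ Φ, v * φ * v = φ⁻¹ := by
    rintro v ⟨M, f, b, v₀, hs⟩
    exact (hfull _ _ _ _ _ hs (htwo _ _ _ _ _ hs)).2.1
  have hw₁2 := hw₁.mem.2
  have hΦab : ∀ φ ∈ Φ, ∀ ψ ∈ Φ, φ * ψ = ψ * φ := by
    intro φ hφ ψ hψ
    have h1 : w₁ * (φ * ψ) * w₁ = (w₁ * φ * w₁) * (w₁ * ψ * w₁) := by
      rw [show w₁ * φ * w₁ * (w₁ * ψ * w₁) = w₁ * φ * (w₁ * w₁) * ψ * w₁ by group, hw₁2]; group
    rw [hinv₁ _ (Φ.mul_mem hφ hψ), hinv₁ φ hφ, hinv₁ ψ hψ, mul_inv_rev] at h1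
    have := congrArg (·⁻¹) h1
    simpa using this
  have hzuniq : ∀ φ ∈ Φ, φ * φ = 1 → φ ≠ 1 → φ = z := by
    intro φ hφ h2 h1
    have hcS : ∀ s ∈ (S : Subgroup G), s * φ = φ * s := fun s hs => by
      have hle : (S : Subgroup G) ≤ centralizer ({φ} : Set G) := hgen.trans ((closure_le _).2 fun v hv => by
        refine mem_centralizer_singleton_iff.2 ?_
        have h3 := congrArg (· * v) (hinv v hv φ hφ)
        simp only [mul_assoc, hv.mem.2, mul_one, inv_eq_of_mul_eq_one_right h2] at h3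
        exact h3)
      exact mem_centralizer_singleton_iff.1 (hle hs)
    have hφU : φ ∈ Ucent S M₁ := hs₁.mem_U.2 ⟨hs₁.cent_w1 (hΦS hφ) (hcS w₁ hw₁.mem.1).symm, hcS b₁ hs₁.bT.1⟩
    have hzU : z ∈ Ucent S M₁ := hs₁.mem_U.2 ⟨hs₁.max.z_mem, h.zc b₁ hs₁.bT.1⟩
    have k1 := (hs₁.U_form hφU).resolve_left fun k => h1 (hs₁.no_fixed k hcS)
    have k2 := (hs₁.U_form hzU).resolve_left hs₁.z_not_fix
    have k3 : φ * z ∈ Fix M₁ f₁ := by
      have := mul_mem k1 k2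
      rwa [(show Commute φ u₁ from hs₁.w0V.2.2 φ hφU.1).mul_mul_mul_comm, hs₁.w0sq, one_mul] at this
    have := hs₁.no_fixed k3 fun s hs => ((show Commute s φ from hcS s hs).mul_right (h.zc s hs)).eq
    rw [eq_inv_of_mul_eq_one_left this, inv_eq_of_mul_eq_one_right h.z2]
  have hΦp : IsPGroup 2 Φ := S.2.to_le hΦS
  obtain ⟨φ₀, hφ₀, hord⟩ : ∃ φ ∈ Φ, orderOf φ = 16 := by
    letI : CommGroup Φ := { (inferInstance : Group Φ) with mul_comm := fun a b => Subtype.ext (hΦab a a.2 b b.2) }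
    haveI : IsCyclic Φ := ASolv.OddComplement.isCyclic_of_unique_involution hΦp fun a b ha hb => by
      have key : ∀ a : Φ, orderOf a = 2 → (a : G) = z := fun a ha => hzuniq a a.2
        (congrArg Subtype.val (show a * a = 1 by rw [← pow_two, ← ha, pow_orderOf_eq_one]))
        fun e => by rw [show a = 1 from Subtype.ext e, orderOf_one] at ha; omega
      exact Subtype.ext ((key a ha).trans (key b hb).symm)
    obtain ⟨φ, hφ⟩ := IsCyclic.exists_generator (α := Φ)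
    exact ⟨φ, φ.2, by rw [Subgroup.orderOf_coe, orderOf_eq_card_of_forall_mem_zpowers hφ, hΦc]⟩
  have hΦgen : ∀ φ ∈ Φ, φ ∈ zpowers φ₀ := by
    have := eq_of_le_of_card_ge (zpowers_le.2 hφ₀) (by rw [Nat.card_zpowers, hord, hΦc])
    intro φ hφ; rw [this]; exact hφ
  have hnn : φ₀⁻¹ ≠ φ₀ := fun e => by
    have h1 : φ₀ ^ 2 = 1 := by rw [pow_two]; nth_rw 1 [← e]; exact inv_mul_cancel φ₀
    have := orderOf_dvd_of_pow_eq_one h1
    rw [hord] at this
    norm_num at this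
  set A := (S : Subgroup G) ⊓ centralizer ({φ₀} : Set G) with hA
  have hdich : ∀ s ∈ (S : Subgroup G), s * φ₀ * s⁻¹ = φ₀ ∨ s * φ₀ * s⁻¹ = φ₀⁻¹ := by
    let Lf : Subgroup G :=
      { carrier := {s | s * φ₀ * s⁻¹ = φ₀ ∨ s * φ₀ * s⁻¹ = φ₀⁻¹}
        one_mem' := Or.inl (by group)
        mul_mem' := by
          intro a b ha hb
          show a * b * φ₀ * (a * b)⁻¹ = φ₀ ∨ a * b * φ₀ * (a * b)⁻¹ = φ₀⁻¹
          rw [show a * b * φ₀ * (a * b)⁻¹ = a * (b * φ₀ * b⁻¹) * a⁻¹ by group]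
          rcases hb with k | k <;> rw [k]
          · exact ha
          · rw [← conj_inv]
            rcases ha with k' | k' <;> rw [k']
            · exact Or.inr rfl
            · exact Or.inl (inv_inv _)
        inv_mem' := by
          intro a ha
          show a⁻¹ * φ₀ * a⁻¹⁻¹ = φ₀ ∨ a⁻¹ * φ₀ * a⁻¹⁻¹ = φ₀⁻¹
          rcases ha with k | k
          · left; nth_rw 1 [← k]; group
          · right
            rw [show φ₀⁻¹ = a⁻¹ * (a * φ₀ * a⁻¹)⁻¹ * a by group, k]; group }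
    have hle : (S : Subgroup G) ≤ Lf := hgen.trans ((closure_le _).2 fun v hv => Or.inr (by
      rw [inv_eq_of_mul_eq_one_right hv.mem.2]; exact hinv v hv φ₀ hφ₀))
    exact fun s hs => hle hs
  have hAΦ : ∀ a ∈ A, ∀ φ ∈ Φ, Commute a φ := fun a ha φ hφ => by
    obtain ⟨k, rfl⟩ := mem_zpowers_iff.1 (hΦgen φ hφ)
    exact (show Commute a φ₀ from mem_centralizer_singleton_iff.1 ha.2).zpow_right k
  have hΦA : Φ ≤ A := fun φ hφ => ⟨hΦS hφ, mem_centralizer_singleton_iff.2 (hΦab φ hφ φ₀ hφ₀)⟩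
  have hmemA : ∀ s ∈ (S : Subgroup G), s * φ₀ * s⁻¹ = φ₀ → s ∈ A := fun s hs e =>
    ⟨hs, mem_centralizer_singleton_iff.2 (mul_inv_eq_iff_eq_mul.1 e)⟩
  have hw₁A : ∀ s ∈ (S : Subgroup G), s ∈ A ∨ s * w₁ ∈ A := fun s hs => by
    rcases hdich s hs with k | k
    · exact Or.inl (hmemA s hs k)
    · refine Or.inr (hmemA _ (mul_mem hs hw₁.mem.1) ?_)
      rw [show s * w₁ * φ₀ * (s * w₁)⁻¹ = s * (w₁ * φ₀ * w₁⁻¹) * s⁻¹ by group,
        inv_eq_of_mul_eq_one_right hw₁2, hinv₁ φ₀ hφ₀, ← conj_inv, k, inv_inv]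
  -- an involution of `A` for each vector
  have hu : ∀ v, Vec S z v → ∃ u ∈ A, u * u = 1 ∧ u ∉ Φ ∧ v * u = u * v ∧ ∀ v', Vec S z v' → v' * (v * u) ∉ Φ := by
    intro v hv
    have hvi : v⁻¹ = v := inv_eq_of_mul_eq_one_right hv.mem.2
    obtain ⟨M, f, b, v₀, hs⟩ := id hv
    have h2 := htwo _ _ _ _ _ hs
    haveI : Nontrivial (Fix M f) := Finite.one_lt_card_iff_nontrivial.1 (by omega)
    obtain ⟨⟨r, hr⟩, hr1⟩ := exists_ne (1 : Fix M f)
    have hr1' : r ≠ 1 := fun e => hr1 (Subtype.ext e)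
    have hr2 : r * r = 1 := by
      have := pow_card_eq_one' (x := (⟨r, hr⟩ : Fix M f))
      rw [h2, pow_two] at this
      exact congrArg Subtype.val this
    have hvr : Commute r v := hs.w1V.2.2 r hr.1
    have hrS : r ∈ (S : Subgroup G) := (hs.max.core_le_T hr.1).1
    have hrΦ : r ∉ Φ := fun k => hs.z_not_fix (hzuniq r k hr2 hr1' ▸ hr)
    have hQ8 : Nat.card (Cfsg.pCoreOf 2 M) = 8 := by rw [hs.core4, h2]
    -- a conjugate of a vector has a centralizer of order eight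
    have hvec8 : ∀ v', Vec S z v' → ∀ x ∈ (S : Subgroup G), v' * x ∈ Φ →
        ∃ (M' : Subgroup G) (f' b' y₀ t : G), Shape S z M' f' b' y₀ v' ∧ t ∈ (S : Subgroup G) ∧ x = t * v' * t⁻¹ := by
      rintro v' ⟨M', f', b', y₀, hs'⟩ x hx k
      obtain ⟨t, ht, e⟩ := (hfull _ _ _ _ _ hs' (htwo _ _ _ _ _ hs')).2.2 (v' * x) k
      exact ⟨M', f', b', y₀, t, hs', ht, by rw [e, ← mul_assoc, hs'.w1sq, one_mul]⟩
    rcases hdich r hrS with hrA | hrI
    · refine ⟨r, hmemA r hrS hrA, hr2, hrΦ, hvr.symm.eq, fun v' hv' k => ?_⟩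
      obtain ⟨M', f', b', y₀, t, hs', ht, ht'⟩ := hvec8 v' hv' (v * r) (mul_mem hv.mem.1 hrS) k
      set Q := Cfsg.pCoreOf 2 M
      set Q' := Cfsg.pCoreOf 2 M'
      have hle : cmap t Q' ≤ (S : Subgroup G) ⊓ centralizer ({v * r} : Set G) := by
        rintro _ ⟨q, hq, rfl⟩
        refine ⟨(S : Subgroup G).mul_mem ((S : Subgroup G).mul_mem ht (hs'.max.core_le_T hq).1) ((S : Subgroup G).inv_mem ht),
          mem_centralizer_singleton_iff.2 ?_⟩
        show t * q * t⁻¹ * (v * r) = v * r * (t * q * t⁻¹)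
        rw [ht', show t * q * t⁻¹ * (t * v' * t⁻¹) = t * (q * v') * t⁻¹ by group, hs'.w1V.2.2 q hq]; group
      have hge : (S : Subgroup G) ⊓ centralizer ({v * r} : Set G) ≤ cmap t Q' := by
        rintro x ⟨hxS, hxc⟩
        refine mem_cmap.2 (hs'.cent_w1 (mul_mem (mul_mem (inv_mem ht) hxS) ht) ?_)
        have hxc' := mem_centralizer_singleton_iff.1 hxc
        rw [ht'] at hxc'
        calc t⁻¹ * x * t * v' = t⁻¹ * (x * (t * v' * t⁻¹)) * t := by group
          _ = t⁻¹ * (t * v' * t⁻¹ * x) * t := by rw [hxc']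
          _ = v' * (t⁻¹ * x * t) := by group
      have hQQ : Q = cmap t Q' := by
        refine eq_of_le_of_card_ge ((le_inf (fun q hq => (hs.max.core_le_T hq).1) fun q hq =>
          mem_centralizer_singleton_iff.2 ((show Commute q v from hs.w1V.2.2 q hq).mul_right (hs.Qc q hq r hr.1)).eq).trans hge) ?_
        rw [card_cmap, hQ8, hs'.core4, htwo _ _ _ _ _ hs']
      have htM : ∀ y ∈ M', t * y * t⁻¹ ∈ M := fun y hy =>
        hs.max.no_move le_rfl hs.max.z_mem (fun m hm x hx => core_conj hm hx) fun x hx => by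
          change x ∈ Q at hx
          show _ ∈ Q
          rw [hQQ] at hx ⊢
          rw [mem_cmap] at hx ⊢
          have := core_conj hy hx
          rwa [show t⁻¹ * (t * y * t⁻¹ * x * (t * y * t⁻¹)⁻¹) * t = y * (t⁻¹ * x * t) * y⁻¹ by group]
      set v₂ := f' * v' * f'⁻¹ * v' with hv₂
      have hv₂4 : v₂ ∈ fourOf y₀ v' := hs'.four_mul (hs'.fw v' (by simp [fourOf])) (by simp [fourOf])
      have hv₂1 : v₂ ≠ 1 := fun e => by
        have e' : f' * v' * f'⁻¹ = v' := by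
          rw [eq_inv_of_mul_eq_one_left e, inv_eq_of_mul_eq_one_right hs'.w1sq]
        exact hs'.w1ne (hs'.inFix v' (by simp [fourOf]) (mem_fix.2 ⟨hs'.w1V.1, by nth_rw 1 [← e']; rw [inv_mul_cancel_right]⟩))
      obtain ⟨x, hx, ex⟩ := hs'.trans_four hv₂4 hv₂1
      obtain ⟨x', hx', ex'⟩ := hs'.trans_four (v := v') (by simp [fourOf]) hs'.w1ne
      have hm := htM f' hs'.fM
      have himg : t * v₂ * t⁻¹ ∈ fourOf v₀ v := by
        have e1 : t * v₂ * t⁻¹ = t * f' * t⁻¹ * v * (t * f' * t⁻¹)⁻¹ * (t * f' * t⁻¹ * r * (t * f' * t⁻¹)⁻¹) * (v * r) := by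
          rw [show t * f' * t⁻¹ * v * (t * f' * t⁻¹)⁻¹ * (t * f' * t⁻¹ * r * (t * f' * t⁻¹)⁻¹) =
            t * f' * t⁻¹ * (v * r) * (t * f' * t⁻¹)⁻¹ by group, ht', hv₂]
          group
        rw [e1, hs.fix_central hr hm, mul_inv_cancel_right, mul_assoc (t * f' * t⁻¹ * v * _) r,
          ← mul_assoc r v r, hvr.eq, mul_assoc v r r, hr2, mul_one]
        exact hs.four_mul (hs.four_conj (by simp [fourOf]) hm) (by simp [fourOf])
      have hvr4 : v * r ∈ fourOf v₀ v := by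
        have e1 : v * r = t * (x' * x⁻¹) * t⁻¹ * (t * v₂ * t⁻¹) * (t * (x' * x⁻¹) * t⁻¹)⁻¹ := by
          rw [ht', ← ex', ← ex]
          group
        rw [e1]
        exact hs.four_conj himg (htM _ (mul_mem hx' (inv_mem hx)))
      have hr4 : r ∈ fourOf v₀ v := by
        have := hs.four_mul (show v ∈ fourOf v₀ v by simp [fourOf]) hvr4
        rwa [← mul_assoc, hs.w1sq, one_mul] at this
      exact hr1' (hs.inFix r hr4 hr)
    · have hvrS : v * r ∈ (S : Subgroup G) := mul_mem hv.mem.1 hrS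
      refine ⟨v * r, hmemA _ hvrS ?_, ?_, fun k => ?_, ?_, fun v' hv' k => ?_⟩
      · rw [show v * r * φ₀ * (v * r)⁻¹ = v * (r * φ₀ * r⁻¹) * v⁻¹ by group, hrI, hvi,
          hinv v hv _ (Φ.inv_mem hφ₀), inv_inv]
      · rw [hvr.mul_mul_mul_comm, hv.mem.2, hr2, one_mul]
      · have hsq : v * r * (v * r) = 1 := by rw [hvr.mul_mul_mul_comm, hv.mem.2, hr2, one_mul]
        have hne : v * r ≠ 1 := fun e => by
          have : r = v := by rw [eq_inv_of_mul_eq_one_right e, hvi]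
          exact hs.w1ne (hs.inFix v (by simp [fourOf]) (this ▸ hr))
        have hz : v * r = z := hzuniq _ k hsq hne
        have hz0 : v₀ = z := hzuniq _ hs.w0_sq hs.w0sq hs.w0ne
        have h7 : v * z ∈ Fix M f := by rw [← hz, ← mul_assoc, hv.mem.2, one_mul]; exact hr
        exact hs.w01 (by
          have := hs.inFix (v * v₀) (by simp [fourOf]) (by rw [hz0]; exact h7)
          rw [eq_inv_of_mul_eq_one_right this, hvi])
      · rw [← mul_assoc, hv.mem.2, one_mul, mul_assoc, hvr.eq, ← mul_assoc, hv.mem.2, one_mul]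
      · rw [← mul_assoc v v r, hv.mem.2, one_mul] at k
        obtain ⟨M', f', b', y₀, t, hs', ht, ht'⟩ := hvec8 v' hv' r hrS k
        have hle : cmap t⁻¹ ((S : Subgroup G) ⊓ M) ≤ Cfsg.pCoreOf 2 M' := by
          rintro _ ⟨x, hx, rfl⟩
          refine hs'.cent_w1 (mul_mem (mul_mem (inv_mem ht) hx.1) (by simpa using ht)) ?_
          show t⁻¹ * x * t⁻¹⁻¹ * v' = v' * (t⁻¹ * x * t⁻¹⁻¹)
          calc t⁻¹ * x * t⁻¹⁻¹ * v' = t⁻¹ * (x * r) * t := by rw [ht']; group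
            _ = t⁻¹ * (r * x) * t := by rw [hs.fix_central hr hx.2]
            _ = v' * (t⁻¹ * x * t⁻¹⁻¹) := by rw [ht']; group
        have := Nat.card_le_card_of_injective _ (Subgroup.inclusion_injective hle)
        rw [card_cmap, hs.card_T, hQ8, hs'.core4, htwo _ _ _ _ _ hs'] at this
        omega
  -- the quotient by the squares
  set Φ' := Φ.subgroupOf (S : Subgroup G) with hΦ'
  haveI : Φ'.Normal := ⟨fun x hx g => sq_conj_mem g.2 hx⟩
  let π : (S : Subgroup G) →* ((S : Subgroup G) ⧸ Φ') := QuotientGroup.mk' Φ'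
  have hker : ∀ x : (S : Subgroup G), π x = 1 ↔ (x : G) ∈ Φ := fun x => QuotientGroup.eq_one_iff x
  have hexp : ∀ q : (S : Subgroup G) ⧸ Φ', q * q = 1 := fun q => by
    obtain ⟨x, rfl⟩ := QuotientGroup.mk'_surjective Φ' q
    rw [← map_mul]; exact (hker _).2 (sq_mem x.2)
  have hinvq : ∀ q : (S : Subgroup G) ⧸ Φ', q⁻¹ = q := fun q => inv_eq_of_mul_eq_one_right (hexp q)
  have hcq : ∀ p q : (S : Subgroup G) ⧸ Φ', p * q = q * p := fun p q => by
    rw [← hinvq (p * q), mul_inv_rev, hinvq, hinvq]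
  obtain ⟨a₁, ha₁A, ha₁2, ha₁Φ, ha₁c, ha₁v⟩ := hu w₁ hw₁
  obtain ⟨a₂, ha₂A, ha₂2, ha₂Φ, ha₂c, ha₂v⟩ := hu w₂ hw₂
  set W₁ := π ⟨w₁, hw₁.mem.1⟩ with hW₁
  set W₂ := π ⟨w₂, hw₂.mem.1⟩ with hW₂
  set W₃ := π ⟨w₃, hw₃.mem.1⟩ with hW₃
  set U₁ := π ⟨a₁, ha₁A.1⟩ with hU₁
  set U₂ := π ⟨a₂, ha₂A.1⟩ with hU₂
  set IA := (A.subgroupOf (S : Subgroup G)).map π with hIA
  have hIAmem : ∀ (x : G) (hx : x ∈ A), π ⟨x, hx.1⟩ ∈ IA := fun x hx =>
    mem_map_of_mem π (show (⟨x, hx.1⟩ : (S : Subgroup G)) ∈ A.subgroupOf (S : Subgroup G) from hx)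
  have hIA4 : Nat.card IA ≤ 4 := by
    have hlt : IA < ⊤ := lt_top_iff_ne_top.2 fun e => by
      obtain ⟨x, hx, ex⟩ := (e ▸ mem_top W₁ : W₁ ∈ IA)
      have h1 : π (x⁻¹ * ⟨w₁, hw₁.mem.1⟩) = 1 := by rw [map_mul, map_inv, ex, ← hW₁, inv_mul_cancel]
      have h2 := A.mul_mem hx (hΦA ((hker _).1 h1))
      simp only [Subgroup.coe_subtype, Subgroup.coe_mul, InvMemClass.coe_inv, mul_inv_cancel_left] at h2
      have h3 := mem_centralizer_singleton_iff.1 h2.2
      refine hnn ?_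
      rw [← hinv₁ φ₀ hφ₀, h3, mul_assoc, hw₁2, mul_one]
    have h8 : Nat.card ((S : Subgroup G) ⧸ Φ') = 8 := by
      have e := Φ'.card_mul_index
      rw [Nat.card_congr (subgroupOfEquivOfLe hΦS).toEquiv, hΦc, h.card, Subgroup.index] at e
      omega
    have := two_mul_le_of_lt hlt
    rw [Nat.card_congr Subgroup.topEquiv.toEquiv, h8] at this
    omega
  have hcomb : ∀ (x y : G) (hx : x ∈ (S : Subgroup G)) (hy : y ∈ (S : Subgroup G)) (L : Subgroup G),
      π ⟨x, hx⟩ = π ⟨y, hy⟩ → Φ ≤ L → y ∈ L → x ∈ L := fun x y hx hy L e hL hyL => by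
    have h1 : π (⟨y, hy⟩⁻¹ * ⟨x, hx⟩) = 1 := by rw [map_mul, map_inv, e, inv_mul_cancel]
    have h2 := L.mul_mem hyL (hL ((hker _).1 h1))
    simpa using h2
  have hne12 : W₁ ≠ W₂ := fun e => hw₂L (hcomb _ _ _ _ L₁ e.symm le_sup_right (mem_sup_left (mem_zpowers w₁)))
  have hne13 : W₁ ≠ W₃ := fun e => hw₃L (hcomb _ _ _ _ L₂ e.symm (le_sup_right.trans le_sup_right)
    (mem_sup_right (mem_sup_left (mem_zpowers w₁))))
  have hne23 : W₂ ≠ W₃ := fun e => hw₃L (hcomb _ _ _ _ L₂ e.symm (le_sup_right.trans le_sup_right)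
    (mem_sup_left (mem_zpowers w₂)))
  have hkey : ∀ (v v' a : G) (hv : v ∈ (S : Subgroup G)) (hv' : v' ∈ (S : Subgroup G)) (ha : a ∈ (S : Subgroup G)),
      v' * (v * a) ∉ Φ → π ⟨v', hv'⟩ ≠ π ⟨v, hv⟩ * π ⟨a, ha⟩ := fun v v' a hv hv' ha hn e => hn
    ((hker (⟨v', hv'⟩ * (⟨v, hv⟩ * ⟨a, ha⟩))).1 (by rw [map_mul, map_mul, ← e, hexp]))
  have hsplit : ∀ x ∈ A, x ∈ Φ ⊔ zpowers a₁ ⊔ zpowers a₂ := by
    haveI := Fintype.ofFinite IA
    have hU₁1 : U₁ ≠ 1 := fun e => ha₁Φ ((hker _).1 e)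
    have hU₂1 : U₂ ≠ 1 := fun e => ha₂Φ ((hker _).1 e)
    have hwA : ∀ v (hv : Vec S z v), W₁ * π ⟨v, hv.mem.1⟩ ∈ IA := fun v hv => by
      have hmem : w₁ * v ∈ A := hmemA _ (mul_mem hw₁.mem.1 hv.mem.1) (by
        rw [show w₁ * v * φ₀ * (w₁ * v)⁻¹ = w₁ * (v * φ₀ * v⁻¹) * w₁⁻¹ by group, inv_eq_of_mul_eq_one_right hv.mem.2,
          hinv v hv φ₀ hφ₀, inv_eq_of_mul_eq_one_right hw₁2, hinv₁ _ (Φ.inv_mem hφ₀), inv_inv])
      rw [hW₁, ← map_mul]
      exact hIAmem _ hmem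
    set P := W₁ * W₂ with hP
    set R := W₁ * W₃ with hR
    have hfour : ∀ p q : (S : Subgroup G) ⧸ Φ', p ∈ IA → q ∈ IA → p ≠ 1 → q ≠ 1 → p ≠ q → ∀ y ∈ IA, y = 1 ∨ y = p ∨ y = q ∨ y = p * q := by
      intro p q hp hq hp1 hq1 hpq y hy
      by_contra hcon
      push Not at hcon
      obtain ⟨hy1, hyp, hyq, hypq⟩ := hcon
      have hpq1 : p * q ≠ 1 := fun e => hpq (by rw [eq_inv_of_mul_eq_one_left e, hinvq])
      have hsub : ({⟨1, IA.one_mem⟩, ⟨p, hp⟩, ⟨q, hq⟩, ⟨p * q, IA.mul_mem hp hq⟩, ⟨y, hy⟩} : Finset IA).card = 5 := by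
        rw [Finset.card_eq_of_bijective (n := 5) (fun i _ => ![(⟨1, IA.one_mem⟩ : IA), ⟨p, hp⟩, ⟨q, hq⟩, ⟨p * q, IA.mul_mem hp hq⟩, ⟨y, hy⟩] ⟨i, by assumption⟩)]
        · intro x hx
          simp only [Finset.mem_insert, Finset.mem_singleton] at hx
          rcases hx with rfl | rfl | rfl | rfl | rfl
          exacts [⟨0, by norm_num, rfl⟩, ⟨1, by norm_num, rfl⟩, ⟨2, by norm_num, rfl⟩, ⟨3, by norm_num, rfl⟩, ⟨4, by norm_num, rfl⟩]
        · intro i hi
          interval_cases i <;> simp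
        · intro i j hi hj e
          interval_cases i <;> interval_cases j <;> simp at e <;> first | rfl | exact absurd e hp1 | exact absurd e hq1 | exact absurd e hpq | exact absurd e hpq1 | exact absurd e hy1 | exact absurd e hyp | exact absurd e hyq | exact absurd e hypq | exact absurd e.symm hp1 | exact absurd e.symm hq1 | exact absurd e.symm hpq | exact absurd e.symm hpq1 | exact absurd e.symm hy1 | exact absurd e.symm hyp | exact absurd e.symm hyq | exact absurd e.symm hypq | exact absurd (mul_eq_left.1 e) hq1 | exact absurd (mul_eq_right.1 e) hp1 | exact absurd (left_eq_mul.1 e) hq1 | exact absurd (right_eq_mul.1 e) hp1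
      have := Finset.card_le_univ ({⟨1, IA.one_mem⟩, ⟨p, hp⟩, ⟨q, hq⟩, ⟨p * q, IA.mul_mem hp hq⟩, ⟨y, hy⟩} : Finset IA)
      rw [hsub, ← Nat.card_eq_fintype_card] at this
      omega
    have hU12 : U₁ ≠ U₂ := by
      intro e
      have hP1 : P ≠ 1 := fun k => hne12 (by rw [eq_inv_of_mul_eq_one_left k, hinvq])
      have hUP : U₁ ≠ P := fun k => hkey w₁ w₂ a₁ hw₁.mem.1 hw₂.mem.1 ha₁A.1 (ha₁v w₂ hw₂)
        (show W₂ = W₁ * U₁ by rw [k, hP, ← mul_assoc, hexp, one_mul])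
      rcases hfour U₁ P (hIAmem _ ha₁A) (hwA w₂ hw₂) hU₁1 hP1 hUP R (hwA w₃ hw₃) with k | k | k | k
      · exact hne13 (by rw [eq_inv_of_mul_eq_one_left k, hinvq])
      · exact hkey w₁ w₃ a₁ hw₁.mem.1 hw₃.mem.1 ha₁A.1 (ha₁v w₃ hw₃)
          (show W₃ = W₁ * U₁ by rw [← k, hR, ← mul_assoc, hexp, one_mul])
      · exact hne23 (mul_left_cancel (show W₁ * W₂ = W₁ * W₃ from k.symm))
      · refine hkey w₂ w₃ a₂ hw₂.mem.1 hw₃.mem.1 ha₂A.1 (ha₂v w₃ hw₃) (show W₃ = W₂ * U₂ from ?_)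
        rw [← e]
        calc W₃ = W₁ * R := by rw [hR, ← mul_assoc, hexp, one_mul]
          _ = W₁ * (P * U₁) := by rw [k, hcq U₁ P]
          _ = W₂ * U₁ := by rw [hP, ← mul_assoc, ← mul_assoc W₁ W₁, hexp, one_mul]
    intro x hx
    have hL : Φ ≤ Φ ⊔ zpowers a₁ ⊔ zpowers a₂ := le_sup_left.trans le_sup_left
    rcases hfour U₁ U₂ (hIAmem _ ha₁A) (hIAmem _ ha₂A) hU₁1 hU₂1 hU12 _ (hIAmem x hx) with k | k | k | k
    · exact hL ((hker _).1 k)
    · exact hcomb x a₁ hx.1 ha₁A.1 _ k hL (mem_sup_left (mem_sup_right (mem_zpowers a₁)))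
    · exact hcomb x a₂ hx.1 ha₂A.1 _ k hL (mem_sup_right (mem_zpowers a₂))
    · exact hcomb x (a₁ * a₂) hx.1 (mul_mem ha₁A.1 ha₂A.1) _ (k.trans (map_mul π _ _).symm) hL
        (mul_mem (mem_sup_left (mem_sup_right (mem_zpowers a₁))) (mem_sup_right (mem_zpowers a₂)))
  -- the class of the first vector is short
  set P₀ := zpowers (φ₀ * φ₀) with hP₀
  have hsqP : ∀ φ ∈ Φ, φ * φ ∈ P₀ := fun φ hφ => by
    obtain ⟨k, rfl⟩ := mem_zpowers_iff.1 (hΦgen φ hφ)
    exact mem_zpowers_iff.2 ⟨k, (Commute.refl φ₀).mul_zpow k⟩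
  have hzP : z ∈ P₀ := by
    have h8 : φ₀ ^ 8 * φ₀ ^ 8 = 1 := by rw [← pow_add, show 8 + 8 = orderOf φ₀ by omega, pow_orderOf_eq_one]
    have hne : φ₀ ^ 8 ≠ 1 := fun e => by
      have := orderOf_dvd_of_pow_eq_one e
      rw [hord] at this
      norm_num at this
    rw [← hzuniq _ (Φ.pow_mem hφ₀ 8) h8 hne, pow_mul φ₀ 2 4 |>.trans (by rw [pow_two])]
    exact P₀.pow_mem (mem_zpowers _) 4
  let c : G → G := fun g => g * w₁ * g⁻¹ * w₁
  have hcΦ : ∀ g ∈ (S : Subgroup G), c g ∈ Φ := fun g hg => by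
    have := comm_sq hg hw₁.mem.1
    rwa [inv_eq_of_mul_eq_one_right hw₁2] at this
  have hcmul : ∀ g ∈ A, ∀ g' ∈ A, c (g * g') = c g' * c g := fun g hg g' hg' => by
    show g * g' * w₁ * (g * g')⁻¹ * w₁ = g' * w₁ * g'⁻¹ * w₁ * (g * w₁ * g⁻¹ * w₁)
    calc g * g' * w₁ * (g * g')⁻¹ * w₁ = g * (g' * w₁ * g'⁻¹ * w₁) * (w₁⁻¹ * g⁻¹ * w₁) := by group
      _ = (g' * w₁ * g'⁻¹ * w₁) * g * (w₁ * g⁻¹ * w₁) := by
        rw [(show Commute g (g' * w₁ * g'⁻¹ * w₁) from hAΦ g hg _ (hcΦ g' hg'.1)).eq, inv_eq_of_mul_eq_one_right hw₁2]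
      _ = _ := by group
  let Ac : Subgroup G :=
    { carrier := {g | g ∈ A ∧ c g ∈ P₀}
      one_mem' := ⟨one_mem A, by show 1 * w₁ * 1⁻¹ * w₁ ∈ P₀; rw [one_mul, inv_one, mul_one, hw₁2]; exact one_mem P₀⟩
      mul_mem' := fun {a b} ha hb => ⟨A.mul_mem ha.1 hb.1, by rw [hcmul a ha.1 b hb.1]; exact P₀.mul_mem hb.2 ha.2⟩
      inv_mem' := fun {a} ha => ⟨A.inv_mem ha.1, by
        have h1 := hcmul a ha.1 a⁻¹ (A.inv_mem ha.1)
        rw [mul_inv_cancel, show c 1 = 1 by show 1 * w₁ * 1⁻¹ * w₁ = 1; rw [one_mul, inv_one, mul_one, hw₁2]] at h1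
        rw [eq_inv_of_mul_eq_one_left h1.symm]; exact P₀.inv_mem ha.2⟩ }
  have hAc : A ≤ Ac := fun x hx => by
    refine (sup_le (sup_le (fun φ hφ => ⟨hΦA hφ, ?_⟩) (zpowers_le.2 ⟨ha₁A, ?_⟩)) (zpowers_le.2 ⟨ha₂A, ?_⟩) :
      Φ ⊔ zpowers a₁ ⊔ zpowers a₂ ≤ Ac) (hsplit x hx)
    · show φ * w₁ * φ⁻¹ * w₁ ∈ P₀
      rw [show φ * w₁ * φ⁻¹ * w₁ = φ * (w₁ * φ⁻¹ * w₁) by group, hinv₁ _ (Φ.inv_mem hφ), inv_inv]
      exact hsqP φ hφ
    · show a₁ * w₁ * a₁⁻¹ * w₁ ∈ P₀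
      rw [← ha₁c, mul_inv_cancel_right, hw₁2]; exact one_mem P₀
    · -- an involution of `A` is inverted up to `z`
      show a₂ * w₁ * a₂⁻¹ * w₁ ∈ P₀
      rw [inv_eq_of_mul_eq_one_right ha₂2]
      set ψ := a₂ * w₁ * a₂ * w₁ with hψ
      have hψΦ : ψ ∈ Φ := by
        have := hcΦ a₂ ha₂A.1
        show a₂ * w₁ * a₂ * w₁ ∈ Φ
        rwa [show c a₂ = a₂ * w₁ * a₂ * w₁ by show a₂ * w₁ * a₂⁻¹ * w₁ = _; rw [inv_eq_of_mul_eq_one_right ha₂2]] at this
      have h1 : a₂ * ψ = w₁ * a₂ * w₁ := by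
        rw [hψ, ← mul_assoc, ← mul_assoc, ← mul_assoc, ha₂2, one_mul]
      have h2 : a₂ * ψ * (a₂ * ψ) = 1 := by
        rw [h1, show w₁ * a₂ * w₁ * (w₁ * a₂ * w₁) = w₁ * a₂ * (w₁ * w₁) * a₂ * w₁ by group, hw₁2, mul_one,
          mul_assoc w₁, ha₂2, mul_one, hw₁2]
      rw [(show Commute ψ a₂ from (hAΦ a₂ ha₂A ψ hψΦ).symm).mul_mul_mul_comm, ha₂2, one_mul] at h2
      by_cases k : ψ = 1
      · rw [k]; exact one_mem P₀
      · rw [hzuniq ψ hψΦ h2 k]; exact hzP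
  obtain ⟨g, hg, e⟩ := hclass φ₀ hφ₀
  have hcg : c g ∈ P₀ := by
    rcases hw₁A g hg with k | k
    · exact (hAc k).2
    · have := (hAc k).2
      show g * w₁ * g⁻¹ * w₁ ∈ P₀
      have e' : g * w₁ * w₁ * (g * w₁)⁻¹ * w₁ = g * w₁ * g⁻¹ * w₁ := by
        rw [mul_assoc g w₁ w₁, hw₁2, mul_one, mul_inv_rev, inv_eq_of_mul_eq_one_right hw₁2, ← mul_assoc]
      exact e' ▸ this
  have hφP : φ₀ ∈ P₀ := by
    have h1 : c g = φ₀⁻¹ := by
      show g * w₁ * g⁻¹ * w₁ = φ₀⁻¹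
      rw [e, hinv₁ φ₀ hφ₀]
    rw [h1] at hcg
    simpa using P₀.inv_mem hcg
  have hle : zpowers φ₀ ≤ P₀ := zpowers_le.2 hφP
  have h8 : orderOf (φ₀ * φ₀) = 8 := by
    rw [← pow_two, orderOf_pow, hord]; norm_num
  have := Nat.card_le_card_of_injective _ (Subgroup.inclusion_injective hle)
  rw [Nat.card_zpowers, Nat.card_zpowers, hord, h8] at this
  omega

end Cfsg.Agent.ChainEight
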